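import Cfsg.Agent.Lib.ClassK.M24Nse.Defs
import Cfsg.Agent.Lib.InvChar.HeRec.Frame
import Cfsg.Agent.Lib.InvChar.HeRec.Trichotomy.Glue
import Cfsg.Agent.Lib.InvChar.SporHeSimple
import Cfsg.Agent.Lib.Golay.Mathieu

/-!
A simple group of order 244823040 with an involution centraliser `2^{1+6}.L₃(2)` is `M₂₄`: the frame of
the centraliser is built as for Held's group (only a parity of the index depends on the order) and the
trichotomy is applied.
-/

set_option autoImplicit false
set_option maxRecDepth 100000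

namespace CfsgLib.ClassK.M24Nse

open CfsgLib.InvChar.HeRec

universe u

variable {G : Type u} [Group G] [Finite G]

local notation "SL52" => Matrix.SpecialLinearGroup (Fin 5) (ZMod 2)

/-- The frame of the centraliser. -/
theorem exists_frame24 [IsSimpleGroup G] (t : G) (ht : orderOf t = 2)
    (Q : Subgroup (Subgroup.centralizer ({t} : Set G))) [Q.Normal] (hQ : Cfsg.IsExtraspecial 2 Q)
    (hcard : Nat.card Q = 2 ^ 7) (h2c : Subgroup.centralizer (Q : Set (Subgroup.centralizer ({t} : Set G))) ≤ Q)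
    (e : (Subgroup.centralizer ({t} : Set G)) ⧸ Q ≃* Matrix.SpecialLinearGroup (Fin 3) (ZMod 2))
    (hG : Nat.card G = 244823040) : ∃ ψ : ℕ → G, IsFrame t ψ := by
  have hna : ¬ IsMulCommutative G := fun h => by
    let _ : CommGroup G := { (inferInstance : Group G) with mul_comm := h.1.1 }
    have hp := IsSimpleGroup.prime_card (α := G)
    rw [hG] at hp
    norm_num at hp
  obtain ⟨u, c, ψ, hu, hc, hψ⟩ := exists_cand_frame t ht Q hQ hcard h2c e
  interval_cases u <;> interval_cases c
  · exact ⟨_, CModel.isFrame_of_cand hψ⟩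
  · exact (CModel.false_of_candTwist hna ht hψ).elim
  · exact (hψ.false_of_facts CModel.candUni_facts hna ht (by decide +kernel) (by decide +kernel)
      (by decide +kernel) fun _ => ⟨759, by norm_num, by
        rw [hG, show (CModel.cand 1 0).mem.card = 21504 from Finset.card_range _,
          show CModel.candUniOrbit.length = 14 from rfl]⟩).elim
  · exact (CModel.false_of_candUniTwist hna ht hψ).elim

/-- The transvection. -/
def transv : SL52 := ⟨Matrix.transvection 0 1 1, Matrix.det_transvection_of_ne 0 1 (by decide) 1⟩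

/-- A frame gives the isomorphism with the centraliser of the transvection. -/
theorem equiv_of_frame {t : G} {ψ : ℕ → G} (hψ : IsFrame t ψ) :
    Nonempty (Subgroup.centralizer ({t} : Set G) ≃* Subgroup.centralizer ({transv} : Set SL52)) := by
  have hs : (transv : Matrix (Fin 5) (Fin 5) (ZMod 2)) = Matrix.transvection 0 1 1 := rfl
  let f : Subgroup.centralizer ({transv} : Set SL52) →* Subgroup.centralizer ({t} : Set G) :=
    MonoidHom.mk' (fun M => ⟨ψ (Tri.codeC M), (hψ.mem_iff _).2 ⟨_, Tri.codeC_valid hs M, rfl⟩⟩)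
      fun M N => Subtype.ext (by
        show ψ (Tri.codeC (M * N)) = ψ (Tri.codeC M) * ψ (Tri.codeC N)
        rw [Tri.codeC_mul hs, hψ.map_mul _ _ (Tri.codeC_valid hs M) (Tri.codeC_valid hs N)])
  refine ⟨(MulEquiv.ofBijective f ⟨fun M N h => Tri.codeC_injective hs
    (hψ.inj _ _ (Tri.codeC_valid hs M) (Tri.codeC_valid hs N) (congrArg Subtype.val h)), fun g => ?_⟩).symm⟩
  obtain ⟨x, hx, e⟩ := (hψ.mem_iff g.1).1 g.2
  obtain ⟨M, rfl⟩ := Tri.codeC_surjective hs hx
  exact ⟨M, Subtype.ext e⟩

theorem eleven_not_dvd_card_SL52 : ¬ 11 ∣ Nat.card SL52 := by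
  intro h
  have : Fact (Nat.Prime 2) := ⟨Nat.prime_two⟩
  have h1 := h.trans (Subgroup.card_dvd_of_injective
    (Matrix.SpecialLinearGroup.toGL (n := Fin 5) (R := ZMod 2)) Matrix.SpecialLinearGroup.toGL_injective)
  rw [Matrix.card_GL_field] at h1
  simp [Fin.prod_univ_succ] at h1

/-- Recognition from the centraliser. -/
theorem iso_of_centralizer [IsSimpleGroup G] (t : G) (ht : orderOf t = 2)
    (Q : Subgroup (Subgroup.centralizer ({t} : Set G))) [Q.Normal] (hQ : Cfsg.IsExtraspecial 2 Q)
    (hcard : Nat.card Q = 2 ^ 7) (h2c : Subgroup.centralizer (Q : Set (Subgroup.centralizer ({t} : Set G))) ≤ Q)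
    (e : (Subgroup.centralizer ({t} : Set G)) ⧸ Q ≃* Matrix.SpecialLinearGroup (Fin 3) (ZMod 2))
    (hG : Nat.card G = 244823040) : Nonempty (G ≃* Cfsg.M24) := by
  obtain ⟨ψ, hψ⟩ := exists_frame24 t ht Q hQ hcard h2c e hG
  obtain ⟨e'⟩ := equiv_of_frame hψ
  rcases Tri.simple_cases rfl ht e' with ⟨⟨f⟩⟩ | h | ⟨⟨f⟩⟩
  · exact absurd (by rw [← Nat.card_congr f.toEquiv, hG]; norm_num) eleven_not_dvd_card_SL52
  · exact h
  · have := (Nat.card_congr f.toEquiv).trans CfsgLib.InvChar.SporHe.card_eq.1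
    rw [hG] at this
    omega

end CfsgLib.ClassK.M24Nse
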