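import Cfsg.Agent.Lib.ClassK.M12Nse.Basic
import Cfsg.Agent.Lib.StructB.OrderCount

/-!
Data for a group of order 244823040 whose numbers of elements of given orders are those of `M₂₄`.
-/

set_option autoImplicit false
set_option linter.unusedSectionVars false

namespace CfsgLib.ClassK.M24Nse

open Subgroup CfsgLib.StructB.OrderCount

universe u

/-- The values. -/
def vals : Finset ℕ :=
  {1, 43263, 712448, 5100480, 4080384, 20401920, 11658240, 15301440, 12241152, 22256640, 40803840,
    34974720, 32643072, 23316480, 21288960}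

/-- The orders of elements with their numbers. -/
def table : List (ℕ × ℕ) :=
  [(1, 1), (2, 43263), (3, 712448), (4, 5100480), (5, 4080384), (6, 20401920), (7, 11658240),
    (8, 15301440), (10, 12241152), (11, 22256640), (12, 40803840), (14, 34974720), (15, 32643072),
    (21, 23316480), (23, 21288960)]

/-- The number of elements of order `n`. -/
def tblCnt (n : ℕ) : ℕ := (table.lookup n).getD 0

/-- The hypotheses on the group. -/
structure Hyp (G : Type u) [Group G] : Prop where
  card : Nat.card G = 244823040
  val : ∀ n : ℕ, cnt G n ≠ 0 → cnt G n ∈ vals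
  ach : ∀ c ∈ vals, ∃ n : ℕ, cnt G n = c

/-- What the counts give before the classes of involutions are known. -/
structure Base (G : Type u) [Group G] [Finite G] : Prop where
  card : Nat.card G = 244823040
  simple : IsSimpleGroup G
  cnt_eq : ∀ n : ℕ, cnt G n = tblCnt n
  cent_five : ∀ x : G, orderOf x = 5 → Nat.card (centralizer ({x} : Set G)) = 60
  norm_five : ∀ x : G, orderOf x = 5 → Nat.card (normalizer (zpowers x : Set G)) = 240
  cent_seven : ∀ x : G, orderOf x = 7 → Nat.card (centralizer ({x} : Set G)) = 42
  norm_seven : ∀ x : G, orderOf x = 7 → Nat.card (normalizer (zpowers x : Set G)) = 126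
  cent_eleven : ∀ x : G, orderOf x = 11 → Nat.card (centralizer ({x} : Set G)) = 11
  cent_twentythree : ∀ x : G, orderOf x = 23 → Nat.card (centralizer ({x} : Set G)) = 23

/-- Representatives of the two classes of involutions. -/
structure Loc (G : Type u) [Group G] [Finite G] where
  base : Base G
  t : G
  u : G
  ht : orderOf t = 2
  hu : orderOf u = 2
  cent_t : Nat.card (centralizer ({t} : Set G)) = 21504
  cent_u : Nat.card (centralizer ({u} : Set G)) = 7680
  invol_cases : ∀ z : G, orderOf z = 2 → IsConj z t ∨ IsConj z u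

variable {G : Type u} [Group G] [Finite G]

theorem card_cent_isConj {a b : G} (h : IsConj a b) :
    Nat.card (centralizer ({a} : Set G)) = Nat.card (centralizer ({b} : Set G)) := by
  obtain ⟨c, rfl⟩ := isConj_iff.1 h
  exact Nat.card_congr
    { toFun := fun g => ⟨c * g.1 * c⁻¹, mem_centralizer_singleton_iff.2 (by
        have := mem_centralizer_singleton_iff.1 g.2
        calc c * g.1 * c⁻¹ * (c * a * c⁻¹) = c * (g.1 * a) * c⁻¹ := by group
          _ = c * (a * g.1) * c⁻¹ := by rw [this]
          _ = c * a * c⁻¹ * (c * g.1 * c⁻¹) := by group)⟩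
      invFun := fun g => ⟨c⁻¹ * g.1 * c, mem_centralizer_singleton_iff.2 (by
        have := mem_centralizer_singleton_iff.1 g.2
        calc c⁻¹ * g.1 * c * a = c⁻¹ * (g.1 * (c * a * c⁻¹)) * c := by group
          _ = c⁻¹ * ((c * a * c⁻¹) * g.1) * c := by rw [this]
          _ = a * (c⁻¹ * g.1 * c) := by group)⟩
      left_inv := fun g => Subtype.ext (by simp [mul_assoc])
      right_inv := fun g => Subtype.ext (by simp [mul_assoc]) }

namespace Loc



theorem not_conj (c : Loc G) : ¬ IsConj c.t c.u := fun h => by
  have := card_cent_isConj h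
  rw [c.cent_t, c.cent_u] at this
  omega

theorem cent_invol (c : Loc G) {z : G} (hz : orderOf z = 2) : Nat.card (centralizer ({z} : Set G)) = 21504 ∨
    Nat.card (centralizer ({z} : Set G)) = 7680 :=
  (c.invol_cases z hz).imp (fun h => (card_cent_isConj h).trans c.cent_t)
    fun h => (card_cent_isConj h).trans c.cent_u

theorem conj_t_of_commute_seven (c : Loc G) {x z : G} (hx : orderOf x = 7) (hz : orderOf z = 2)
    (hc : Commute x z) : IsConj z c.t :=
  (c.invol_cases z hz).resolve_right fun h => by
    have := Subgroup.orderOf_dvd_natCard _ (mem_centralizer_singleton_iff.2 hc.eq)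
    rw [hx, card_cent_isConj h, c.cent_u] at this
    omega

theorem conj_u_of_commute_five (c : Loc G) {x z : G} (hx : orderOf x = 5) (hz : orderOf z = 2)
    (hc : Commute x z) : IsConj z c.u :=
  (c.invol_cases z hz).resolve_left fun h => by
    have := Subgroup.orderOf_dvd_natCard _ (mem_centralizer_singleton_iff.2 hc.eq)
    rw [hx, card_cent_isConj h, c.cent_t] at this
    omega

/-- The same data at a conjugate of `u`. -/
def conjU (c : Loc G) (g : G) : Loc G where
  base := c.base
  t := c.t
  u := g * c.u * g⁻¹
  ht := c.ht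
  hu := by rw [← MulAut.conj_apply, MulEquiv.orderOf_eq]; exact c.hu
  cent_t := c.cent_t
  cent_u := (card_cent_isConj (isConj_iff.2 ⟨g, rfl⟩)).symm.trans c.cent_u
  invol_cases z hz := (c.invol_cases z hz).imp_right fun h => h.trans (isConj_iff.2 ⟨g, rfl⟩)

/-- The same data at a conjugate of `t`. -/
def conjT (c : Loc G) (g : G) : Loc G where
  base := c.base
  t := g * c.t * g⁻¹
  u := c.u
  ht := by rw [← MulAut.conj_apply, MulEquiv.orderOf_eq]; exact c.ht
  hu := c.hu
  cent_t := (card_cent_isConj (isConj_iff.2 ⟨g, rfl⟩)).symm.trans c.cent_t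
  cent_u := c.cent_u
  invol_cases z hz := (c.invol_cases z hz).imp_left fun h => h.trans (isConj_iff.2 ⟨g, rfl⟩)

end Loc

end CfsgLib.ClassK.M24Nse
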