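import Cfsg.Agent.Lib.ClassK.M24Nse.ModelData

/-! The orders along the leaves of the tree, checked. -/

set_option autoImplicit false
set_option maxRecDepth 100000

namespace CfsgLib.ClassK.M24Nse

theorem leafOK8 : leafOK (27897828423854859439502155783998529, leafOrd8) = true := by decide +kernel

theorem leafOK9 : leafOK (20338470348623359742237658570710081, leafOrd9) = true := by decide +kernel

theorem leafOK10 : leafOK (13651496769637353001077881913608929, leafOrd10) = true := by decide +kernel

theorem leafOK11 : leafOK (21402629652675752286990877597306593, leafOrd11) = true := by decide +kernel

theorem leafOK12 : leafOK (17465911953368113430823690973087799, leafOrd12) = true := by decide +kernel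

theorem leafOK13 : leafOK (11089984493667094081277055009950775, leafOrd13) = true := by decide +kernel

theorem leafOK14 : leafOK (9220192448594218608276485207131223, leafOrd14) = true := by decide +kernel

theorem leafOK15 : leafOK (20338520877075317505223404040031319, leafOrd15) = true := by decide +kernel

end CfsgLib.ClassK.M24Nse
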