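import Cfsg.Agent.Lib.ClassK.M24Nse.ModelLeavesA
import Cfsg.Agent.Lib.ClassK.M24Nse.ModelLeavesB
import Cfsg.Agent.Lib.ClassK.M24Nse.Defs

/-! The numbers of elements of each order in `M₂₄`. -/

set_option autoImplicit false
set_option maxRecDepth 100000

namespace CfsgLib.ClassK.M24Nse

open Cfsg CfsgLib.Golay
open CfsgLib.ClassK.M22Nse (ordSet)

theorem countTree_ok : chkT countTree [] 0 = true := by decide +kernel

theorem countTree_leaves : ∀ q ∈ leavesT countTree, leafOK q = true := by
  rw [show leavesT countTree = [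
    (984818244535754528103549039458486304, leafOrd0),
    (975080740602377456933237879450340384, leafOrd1),
    (981531329083443017662659881993831488, leafOrd2),
    (960887375099864551880417021342026816, leafOrd3),
    (981936787012358643108979234244560897, leafOrd4),
    (977621821697931554054861796659301377, leafOrd5),
    (965975689292756192251730118646726721, leafOrd6),
    (983436266574787872879293406506093633, leafOrd7),
    (27897828423854859439502155783998529, leafOrd8),
    (20338470348623359742237658570710081, leafOrd9),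
    (13651496769637353001077881913608929, leafOrd10),
    (21402629652675752286990877597306593, leafOrd11),
    (17465911953368113430823690973087799, leafOrd12),
    (11089984493667094081277055009950775, leafOrd13),
    (9220192448594218608276485207131223, leafOrd14),
    (20338520877075317505223404040031319, leafOrd15)] from rfl]
  simp only [List.forall_mem_cons, List.not_mem_nil, false_implies, implies_true, and_true]
  exact ⟨leafOK0, leafOK1, leafOK2, leafOK3, leafOK4, leafOK5, leafOK6, leafOK7, leafOK8, leafOK9, leafOK10, leafOK11, leafOK12, leafOK13, leafOK14, leafOK15⟩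

theorem countTree_table : ords24.map (cntT countTree) =
    [1, 43263, 712448, 5100480, 4080384, 20401920, 11658240, 15301440, 12241152, 22256640, 40803840,
      34974720, 32643072, 23316480, 21288960] := by decide +kernel

theorem card_order24 (n : ℕ) : Nat.card {g : ↥Cfsg.M24 // orderOf g = n} = cntT countTree n := by
  rw [← ncard_tree countTree [] 0 countTree_ok countTree_leaves n, ← Nat.card_coe_set_eq]
  exact Nat.card_congr
    { toFun := fun g => ⟨g.1.1, by rw [fixMasks_nil]; exact g.1.2, ⟨by simp [ImgP], fun h => absurd rfl h⟩,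
        by rw [Subgroup.orderOf_coe]; exact g.2⟩
      invFun := fun g => ⟨⟨g.1, fixMasks_nil ▸ g.2.1⟩, by rw [← Subgroup.orderOf_coe]; exact g.2.2.2⟩
      left_inv := fun _ => rfl
      right_inv := fun _ => rfl }

theorem nse_M24 :
    {c : ℕ | 0 < c ∧ ∃ n : ℕ, c = Nat.card {g : ↥Cfsg.M24 // orderOf g = n}} = ↑vals := by
  ext c
  simp only [card_order24, Set.mem_setOf_eq, Finset.mem_coe]
  have ht := countTree_table
  simp only [ords24, List.map_cons, List.map_nil, List.cons.injEq, and_true] at ht
  obtain ⟨h1, h2, h3, h4, h5, h6, h7, h8, h10, h11, h12, h14, h15, h21, h23⟩ := ht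
  constructor
  · rintro ⟨hc, n, rfl⟩
    by_cases hn : n ∈ ords24
    · simp only [ords24, List.mem_cons, List.not_mem_nil, or_false] at hn
      rcases hn with rfl | rfl | rfl | rfl | rfl | rfl | rfl | rfl | rfl | rfl | rfl | rfl | rfl | rfl |
        rfl <;>
        simp [h1, h2, h3, h4, h5, h6, h7, h8, h10, h11, h12, h14, h15, h21, h23, vals]
    · rw [cntT_zero countTree [] 0 countTree_ok hn] at hc; omega
  · intro hc
    simp only [vals, Finset.mem_insert, Finset.mem_singleton] at hc
    rcases hc with rfl | rfl | rfl | rfl | rfl | rfl | rfl | rfl | rfl | rfl | rfl | rfl | rfl | rfl | rfl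
    exacts [⟨by norm_num, 1, h1.symm⟩, ⟨by norm_num, 2, h2.symm⟩, ⟨by norm_num, 3, h3.symm⟩,
      ⟨by norm_num, 4, h4.symm⟩, ⟨by norm_num, 5, h5.symm⟩, ⟨by norm_num, 6, h6.symm⟩,
      ⟨by norm_num, 7, h7.symm⟩, ⟨by norm_num, 8, h8.symm⟩, ⟨by norm_num, 10, h10.symm⟩,
      ⟨by norm_num, 11, h11.symm⟩, ⟨by norm_num, 12, h12.symm⟩, ⟨by norm_num, 14, h14.symm⟩,
      ⟨by norm_num, 15, h15.symm⟩, ⟨by norm_num, 21, h21.symm⟩, ⟨by norm_num, 23, h23.symm⟩]

/-- The hypotheses of the statement, unfolded. -/
theorem hyp_of_nse24 {G : Type*} [Group G] [Finite G] (hcard : Nat.card G = Nat.card ↥Cfsg.M24)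
    (hnse : {c : ℕ | 0 < c ∧ ∃ n : ℕ, c = Nat.card {g : G // orderOf g = n}} =
      {c : ℕ | 0 < c ∧ ∃ n : ℕ, c = Nat.card {g : ↥Cfsg.M24 // orderOf g = n}}) : Hyp G := by
  rw [nse_M24] at hnse
  refine ⟨hcard.trans card_M24, fun n hn => ?_, fun c hc => ?_⟩
  · exact Finset.mem_coe.1 (hnse.le ⟨Nat.pos_of_ne_zero hn, n, rfl⟩)
  · obtain ⟨-, n, e⟩ := hnse.ge (Finset.mem_coe.2 hc)
    exact ⟨n, e.symm⟩

end CfsgLib.ClassK.M24Nse
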