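import Cfsg.Agent.Lib.ClassK.M24Nse.Classes
import Cfsg.Agent.Lib.ClassK.M24Nse.Model
import Cfsg.Agent.Lib.ClassK.M24Nse.Endgame

/-!
A group with the order and the order counts of `M₂₄` is isomorphic to it, given the structure of the
centraliser of an involution of the first class.
-/

set_option autoImplicit false

namespace CfsgLib.ClassK.M24Nse

universe u

/-- The shape of the centraliser of the involution `t`. -/
def CentShape {G : Type u} [Group G] [Finite G] (c : Loc G) : Prop :=
  ∃ (Q : Subgroup (Subgroup.centralizer ({c.t} : Set G))) (_ : Q.Normal),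
    Cfsg.IsExtraspecial 2 Q ∧ Nat.card Q = 2 ^ 7 ∧
    Subgroup.centralizer (Q : Set (Subgroup.centralizer ({c.t} : Set G))) ≤ Q ∧
    Nonempty ((Subgroup.centralizer ({c.t} : Set G)) ⧸ Q ≃* Matrix.SpecialLinearGroup (Fin 3) (ZMod 2))

theorem iso_of_shape {G : Type u} [Group G] [Finite G] (c : Loc G) (hc : CentShape c) :
    Nonempty (G ≃* Cfsg.M24) := by
  have := c.base.simple
  obtain ⟨Q, hQn, hQ, hcard, h2c, ⟨e⟩⟩ := hc
  exact iso_of_centralizer c.t c.ht Q hQ hcard h2c e c.base.card

theorem iso_of_hyp {G : Type u} [Group G] [Finite G] (h : Hyp G) (hc : ∀ c : Loc G, CentShape c) :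
    Nonempty (G ≃* Cfsg.M24) := by
  obtain ⟨c⟩ := nonempty_loc h
  exact iso_of_shape c (hc c)

end CfsgLib.ClassK.M24Nse
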