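import Cfsg.Agent.Lib.ClassK.M24Nse.Table

/-!
The centralisers of the elements of order 5 and 7.
-/

set_option autoImplicit false
set_option linter.unusedSectionVars false

namespace CfsgLib.ClassK.M24Nse

open Subgroup CfsgLib.StructB.OrderCount

universe u

variable {G : Type u} [Group G] [Finite G]

theorem orderOf_mul_coprime {x y : G} {p q : ℕ} (hc : Commute x y) (hx : orderOf x = p)
    (hy : orderOf y = q) (hco : p.Coprime q) : orderOf (x * y) = p * q := by
  rw [hc.orderOf_mul_eq_mul_orderOf_of_coprime (by rw [hx, hy]; exact hco), hx, hy]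

theorem no_commute (h : Hyp G) {x y : G} {p q : ℕ} (hx : orderOf x = p) (hy : orderOf y = q)
    (hco : p.Coprime q) (hn : p * q ∉ table.map Prod.fst) : ¬ Commute x y := fun hc =>
  hn (orderOf_mul_coprime hc hx hy hco ▸ h.orderOf_mem (x * y))

/-- A `q`-subgroup of `C(x)` of exponent `q` gives commuting elements of order `q`. -/
theorem pow_le_ncom (h : Hyp G) {x : G} {p q k : ℕ} [hq : Fact q.Prime] (hx : orderOf x = p)
    (hco : p.Coprime q) (hn : p * q ^ 2 ∉ table.map Prod.fst)
    (hd : q ^ k ∣ Nat.card (centralizer ({x} : Set G))) : q ^ k - 1 ≤ M23Nse.ncom x q := by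
  classical
  obtain ⟨H, hH⟩ := Sylow.exists_subgroup_card_pow_prime q hd
  have hord : ∀ a : H, a ≠ 1 → orderOf (a.1.1 : G) = q := by
    intro a ha
    have hda : orderOf (a.1.1 : G) ∣ q ^ k := by
      rw [Subgroup.orderOf_coe, Subgroup.orderOf_coe, ← hH]
      exact orderOf_dvd_natCard a
    obtain ⟨j, -, hj⟩ := (Nat.dvd_prime_pow hq.out).1 hda
    rcases j with _ | _ | j
    · rw [pow_zero, orderOf_eq_one_iff] at hj
      exact absurd (Subtype.ext (Subtype.ext hj)) ha
    · rw [hj, pow_one]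
    · exfalso
      have hy : orderOf ((a.1.1 : G) ^ q ^ j) = q ^ 2 := by
        rw [orderOf_pow' _ (pow_ne_zero _ hq.out.ne_zero), hj, Nat.gcd_eq_right (pow_dvd_pow q (by omega)),
          Nat.pow_div (by omega) hq.out.pos]
        congr 1
        omega
      exact no_commute h hx hy (hco.pow_right 2) hn
        ((show Commute x (a.1.1 : G) from (mem_centralizer_singleton_iff.1 a.1.2).symm).pow_right _)
  have := Fintype.ofFinite H
  have h1 : Nat.card {a : H // a ≠ 1} = q ^ k - 1 := by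
    rw [Nat.card_eq_fintype_card, Fintype.card_subtype_compl, Fintype.card_subtype_eq,
      ← Nat.card_eq_fintype_card, hH]
  rw [← h1]
  exact Nat.card_le_card_of_injective
    (fun a => ⟨a.1.1.1, hord a.1 a.2, (mem_centralizer_singleton_iff.1 a.1.1.2).symm⟩)
    fun a b e => Subtype.ext (Subtype.ext (Subtype.ext
      (congrArg (fun z : {y : G // orderOf y = q ∧ Commute x y} => (z : G)) e)))

theorem cent_five (h : Hyp G) {x : G} (hx : orderOf x = 5) :
    Nat.card (centralizer ({x} : Set G)) = 60 := by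
  have : Fact (Nat.Prime 2) := ⟨Nat.prime_two⟩
  have : Fact (Nat.Prime 3) := ⟨Nat.prime_three⟩
  obtain ⟨-, -, e2, e3⟩ := five_facts h hx
  set C := centralizer ({x} : Set G) with hC
  have hd : Nat.card C ∣ 240 := norm_five h hx ▸ M23Nse.card_cent_dvd_norm x
  have h5 : 5 ∣ Nat.card C := hx ▸ M23Nse.dvd_cent_self x
  have h2 : 2 ∣ Nat.card C := dvd_cent_of_ncom (by rw [e2]; norm_num)
  have h3 : 3 ∣ Nat.card C := dvd_cent_of_ncom (by rw [e3]; norm_num)
  have h8 : ¬ 8 ∣ Nat.card C := fun h8 => by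
    have := pow_le_ncom h (q := 2) (k := 3) hx (by norm_num) (by decide) h8
    rw [e2] at this
    norm_num at this
  have hcases : ∀ m ∈ Nat.divisors 240, 5 ∣ m → 2 ∣ m → 3 ∣ m → ¬ 8 ∣ m → m = 60 ∨ m = 30 := by
    decide +kernel
  rcases hcases _ (Nat.mem_divisors.2 ⟨hd, by norm_num⟩) h5 h2 h3 h8 with e | e
  · exact e
  exfalso
  obtain ⟨P⟩ : Nonempty (Sylow 3 C) := inferInstance
  have hP := CfsgLib.Transfer.card_sylow_eq_prime P h3 (by rw [e]; norm_num)
  rw [ncom_eq_cnt, cnt, CfsgLib.Transfer.card_orderOf_eq_prime P hP] at e3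
  have h4 := P.card_dvd_index
  have hi := (P : Subgroup C).index_mul_card
  rw [hP, e] at hi
  rw [show (P : Subgroup C).index = 10 by omega, show Nat.card (Sylow 3 C) = 4 by omega] at h4
  norm_num at h4

theorem cent_seven (h : Hyp G) {x : G} (hx : orderOf x = 7) :
    Nat.card (centralizer ({x} : Set G)) = 42 := by
  have : Fact (Nat.Prime 3) := ⟨Nat.prime_three⟩
  obtain ⟨-, -, e2, e3⟩ := seven_facts h hx
  set C := centralizer ({x} : Set G) with hC
  have hd : Nat.card C ∣ 126 := norm_seven h hx ▸ M23Nse.card_cent_dvd_norm x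
  have h7 : 7 ∣ Nat.card C := hx ▸ M23Nse.dvd_cent_self x
  have h2 : 2 ∣ Nat.card C := dvd_cent_of_ncom (by rw [e2]; norm_num)
  have h3 : 3 ∣ Nat.card C := dvd_cent_of_ncom (by rw [e3]; norm_num)
  have h9 : ¬ 9 ∣ Nat.card C := fun h9 => by
    have := pow_le_ncom h (q := 3) (k := 2) hx (by norm_num) (by decide) h9
    rw [e3] at this
    norm_num at this
  have hcases : ∀ m ∈ Nat.divisors 126, 7 ∣ m → 2 ∣ m → 3 ∣ m → ¬ 9 ∣ m → m = 42 := by
    decide +kernel
  exact hcases _ (Nat.mem_divisors.2 ⟨hd, by norm_num⟩) h7 h2 h3 h9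

end CfsgLib.ClassK.M24Nse
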