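import Cfsg.Agent.Lib.StructC.UniqueInvol
import Cfsg.Agent.Lib.Char.Inner
import Cfsg.Agent.Lib.Char.Linear
import Cfsg.Agent.Lib.Char.Diag
import Cfsg.Agent.Lib.Char.Integral
import Mathlib.GroupTheory.SpecificGroups.Quaternion
import Mathlib.LinearAlgebra.Trace

/-!
A group with a rational character of degree 6 taking one value `±2` on all involutions has no
subgroup of order 256 without elements of order 16.
-/

set_option autoImplicit false
set_option linter.unusedSectionVars false

namespace CfsgLib.ClassK.M24Nse.Large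

open Module Subgroup CfsgLib.Char
open scoped ComplexConjugate

universe u

/-- A two-group of exponent 8 with at most one involution has order at most 16. -/
theorem card_le_of_one_invol {Q : Type u} [Group Q] [Finite Q] (hQ : IsPGroup 2 Q)
    (h8 : ∀ g : Q, g ^ 8 = 1) {z : Q} (hu : ∀ a : Q, orderOf a = 2 → a = z) : Nat.card Q ≤ 16 := by
  rcases CfsgLib.StructC.isCyclic_or_quaternion hQ
    (fun a b ha hb _ => (hu a ha).trans (hu b hb).symm ▸ Subgroup.mem_zpowers a) with hc | ⟨k, -, ⟨e⟩⟩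
  · obtain ⟨g, hg⟩ := IsCyclic.exists_ofOrder_eq_natCard (α := Q)
    have := Nat.le_of_dvd (by norm_num) (orderOf_dvd_of_pow_eq_one (h8 g))
    omega
  · have : NeZero (2 ^ k) := ⟨(Nat.two_pow_pos k).ne'⟩
    have h := congrArg e (h8 (e.symm (QuaternionGroup.a 1)))
    rw [map_pow, MulEquiv.apply_symm_apply, map_one] at h
    have h1 := Nat.le_of_dvd (by norm_num) (orderOf_dvd_of_pow_eq_one h)
    rw [QuaternionGroup.orderOf_a_one] at h1
    rw [Nat.card_congr e.toEquiv, Nat.card_eq_fintype_card, QuaternionGroup.card]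
    omega

/-- The possible rational values of a two-dimensional representation at an element of order dividing 8. -/
theorem eigen_pair {r : ℤ} {l m : ℂ} (hs : l + m = r) (hi : l⁻¹ + m⁻¹ = r) (hl : l ^ 8 = 1)
    (hm : m ^ 8 = 1) : r = 0 ∨ (r = 2 ∧ l = 1 ∧ m = 1) ∨ (r = -2 ∧ l = -1 ∧ m = -1) := by
  have hl0 : l ≠ 0 := fun h => by simp [h] at hl
  have hm0 : m ≠ 0 := fun h => by simp [h] at hm
  rcases eq_or_ne r 0 with h | h
  · exact Or.inl h
  right
  have h1 : (r : ℂ) ≠ 0 := Int.cast_ne_zero.2 h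
  have hlm : l * m = 1 := by
    have h2 : (r : ℂ) * (l * m) = l + m := by rw [← hi]; field_simp; ring
    rw [hs] at h2
    exact mul_left_cancel₀ h1 (h2.trans (mul_one _).symm)
  have hq : m ^ 2 - (r : ℂ) * m + 1 = 0 := by rw [← hs, ← hlm]; ring
  have hn : |r| ≤ 2 := by
    have h3 := norm_add_le l m
    rw [hs, Complex.norm_intCast, norm_eigen_eq_one (by norm_num) hl,
      norm_eigen_eq_one (by norm_num) hm] at h3
    have : ((|r| : ℤ) : ℝ) ≤ ((2 : ℤ) : ℝ) := by push_cast; linarith
    exact_mod_cast this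
  obtain ⟨hr1, hr2⟩ := abs_le.1 hn
  interval_cases r
  · have hm1 : m = -1 := by
      have : (m + 1) ^ 2 = 0 := by push_cast at hq; linear_combination hq
      exact eq_neg_of_add_eq_zero_left (pow_eq_zero_iff two_ne_zero |>.1 this)
    exact Or.inr ⟨rfl, by push_cast at hs; rw [hm1] at hs; linear_combination hs, hm1⟩
  · exfalso
    push_cast at hq
    have h3 : m ^ 3 = 1 := by linear_combination (m - 1) * hq
    have h4 : m ^ 2 = 1 := by linear_combination hm + (-(m ^ 5) - m ^ 2) * h3
    have h5 : m * 1 = m ^ 3 := by rw [← h4]; ring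
    rw [mul_one, h3] at h5
    rw [h5] at hq
    norm_num at hq
  · exact absurd rfl h
  · exfalso
    push_cast at hq
    have h3 : m ^ 3 = -1 := by linear_combination (m + 1) * hq
    have h4 : m ^ 2 = 1 := by linear_combination hm + (-(m ^ 5) + m ^ 2) * h3
    have h5 : m * 1 = m ^ 3 := by rw [← h4]; ring
    rw [mul_one, h3] at h5
    rw [h5] at hq
    norm_num at hq
  · have hm1 : m = 1 := by
      have : (m - 1) ^ 2 = 0 := by push_cast at hq; linear_combination hq
      exact sub_eq_zero.1 (pow_eq_zero_iff two_ne_zero |>.1 this)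
    exact Or.inl ⟨rfl, by push_cast at hs; rw [hm1] at hs; linear_combination hs, hm1⟩

variable {H : Type u} [Group H] [Finite H]

/-- The bound on a two-subgroup. -/
theorem false_of_two (hexp : ∀ g : H, g ^ 16 = 1 → g ^ 8 = 1) {χ : H → ℂ}
    (hχ : Cfsg.IsCharacter H χ) (h6 : χ 1 = 6) (hrat : ∀ g, ∃ m : ℤ, χ g = m) {a : ℤ}
    (ha : a = 2 ∨ a = -2) (hinv : ∀ i : H, orderOf i = 2 → χ i = a) (S : Subgroup H)
    (hS : Nat.card S = 256) : False := by
  classical
  have := Fintype.ofFinite S
  have : Fact (Nat.Prime 2) := ⟨Nat.prime_two⟩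
  have hSp : IsPGroup 2 S := IsPGroup.of_card (n := 8) (by rw [hS]; norm_num)
  have h8 : ∀ s : S, s ^ 8 = 1 := by
    intro s
    have h256 : s ^ 256 = 1 := hS ▸ pow_card_eq_one'
    have key : ∀ j : ℕ, s ^ (16 * 2 ^ j) = 1 → s ^ 16 = 1 := by
      intro j
      induction j with
      | zero => simp
      | succ j ih =>
        intro h
        apply ih
        have h1 : ((s : H) ^ (2 * 2 ^ j)) ^ 16 = 1 := by
          rw [← pow_mul, show 2 * 2 ^ j * 16 = 16 * 2 ^ (j + 1) by ring]
          exact congrArg Subtype.val h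
        refine Subtype.ext ?_
        rw [SubmonoidClass.coe_pow, show 16 * 2 ^ j = 2 * 2 ^ j * 8 by ring, pow_mul]
        exact hexp _ h1
    exact Subtype.ext (hexp _ (congrArg Subtype.val (key 4 h256)))
  -- a central involution
  obtain ⟨⟨z, hzc⟩, hz⟩ := exists_prime_orderOf_dvd_card' (G := center S) 2 (by
    have : Nontrivial S := Finite.one_lt_card_iff_nontrivial.1 (by omega)
    have := hSp.center_nontrivial
    obtain ⟨n, hn⟩ := IsPGroup.iff_card.1 (hSp.to_subgroup (center S))
    have hn0 : n ≠ 0 := fun h0 => by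
      rw [h0, pow_zero] at hn
      exact Finite.one_lt_card.ne' hn
    exact hn ▸ dvd_pow_self 2 hn0)
  rw [Subgroup.orderOf_mk] at hz
  have hzz : z * z = 1 := by rw [← pow_two, ← hz, pow_orderOf_eq_one]
  have hinvS : ∀ i : S, orderOf i = 2 → χ i = a := fun i hi =>
    hinv _ (by rw [Subgroup.orderOf_coe, hi])
  obtain ⟨δ, hδ, hδa⟩ : ∃ δ : ℤ, (δ = 1 ∨ δ = -1) ∧ δ * a = -2 := by
    rcases ha with rfl | rfl
    · exact ⟨-1, Or.inr rfl, rfl⟩
    · exact ⟨1, Or.inl rfl, rfl⟩
  -- the two-dimensional summand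
  obtain ⟨n, ρ₀, rfl⟩ := hχ
  let ρ : Representation ℂ S (Fin n → ℂ) := ρ₀.comp S.subtype
  have hρc : ∀ s : S, ρ.character s = ρ₀.character s := fun s => rfl
  let P : Module.End ℂ (Fin n → ℂ) := (2 : ℂ)⁻¹ • (1 + (δ : ℂ) • ρ z)
  have hz2 : ρ z * ρ z = 1 := by rw [← map_mul, hzz, map_one]
  have hδ2 : (δ : ℂ) * δ = 1 := by rcases hδ with rfl | rfl <;> norm_num
  have hPP : P * P = P := by
    simp only [P, smul_mul_smul_comm, add_mul, one_mul, mul_add, mul_one, hz2, hδ2, one_smul]
    rw [show (1 : Module.End ℂ (Fin n → ℂ)) + (δ : ℂ) • ρ z + ((δ : ℂ) • ρ z + 1) =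
      (2 : ℂ) • (1 + (δ : ℂ) • ρ z) by rw [two_smul]; abel, smul_smul]
    norm_num
  have hPc : ∀ s : S, P * ρ s = ρ s * P := fun s => by
    simp only [P, smul_mul_assoc, mul_smul_comm, add_mul, mul_add, one_mul, mul_one]
    rw [← map_mul, ← map_mul, (Subgroup.mem_center_iff.1 hzc s)]
  let W : Submodule ℂ (Fin n → ℂ) := LinearMap.range P
  have hPW : ∀ w ∈ W, P w = w := by
    rintro _ ⟨v, rfl⟩
    exact LinearMap.congr_fun hPP v
  have hW : ∀ s : S, ∀ w ∈ W, ρ s w ∈ W := fun s w hw =>
    ⟨ρ s w, by rw [← Module.End.mul_apply, hPc, Module.End.mul_apply, hPW w hw]⟩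
  let σ : Representation ℂ S W :=
    { toFun := fun s => (ρ s).restrict (hW s)
      map_one' := LinearMap.ext fun w => Subtype.ext (by simp [LinearMap.restrict_apply])
      map_mul' := fun s t => LinearMap.ext fun w => Subtype.ext (by
        simp [LinearMap.restrict_apply, map_mul]) }
  have hσ : ∀ s : S, σ.character s = (2 : ℂ)⁻¹ * (ρ₀.character s + δ * ρ₀.character (z * s : S)) := by
    intro s
    have hmem : ∀ v, (P * ρ s) v ∈ W := fun v => ⟨ρ s v, rfl⟩
    have h1 : σ s = (P * ρ s).restrict (fun v _ => hmem v) := LinearMap.ext fun w => Subtype.ext (by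
      show ρ s w = P (ρ s w)
      exact (hPW _ (hW s _ w.2)).symm)
    show LinearMap.trace ℂ W (σ s) = _
    rw [h1, LinearMap.trace_restrict_eq_of_forall_mem W _ hmem]
    simp only [P, smul_mul_assoc, add_mul, one_mul, map_smul, map_add, smul_eq_mul, ← map_mul]
    rfl
  have hv : ∀ s : S, ∃ m : ℤ, ρ₀.character (s : H) = m := fun s => hrat s
  have hdim : σ.character 1 = 2 := by
    rw [hσ, mul_one, Subgroup.coe_one, h6, hinvS z hz]
    have : ((δ * a : ℤ) : ℂ) = -2 := by rw [hδa]; norm_num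
    push_cast at this
    rw [this]; norm_num
  have hrank : finrank ℂ W = 2 := by
    rw [Representation.char_one] at hdim
    exact_mod_cast hdim
  have hval : ∀ s : S, ∃ r : ℤ, σ.character s = r := fun s => by
    obtain ⟨m₁, hm₁⟩ := hv s
    obtain ⟨m₂, hm₂⟩ := hv (z * s)
    have hint := Char.char_isIntegral σ s
    have he : σ.character s = (((m₁ + δ * m₂ : ℤ) : ℚ) / 2 : ℚ) := by
      rw [hσ, hm₁, hm₂]; push_cast; ring
    rw [he] at hint
    obtain ⟨r, hr⟩ := exists_int_of_isIntegral_rat hint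
    exact ⟨r, by rw [he, hr]; norm_num⟩
  have hsym : ∀ s : S, σ.character s⁻¹ = σ.character s := fun s => by
    obtain ⟨r, hr⟩ := hval s
    rw [char_inv_eq_conj σ s, hr]
    exact map_intCast _ r
  have hcases : ∀ s : S, σ.character s = 0 ∨ (σ.character s = 2 ∧ σ s = 1) ∨
      (σ.character s = -2 ∧ σ s = -1) := by
    intro s
    obtain ⟨r, hr⟩ := hval s
    obtain ⟨ι, hι, b, μ, hb, hμ, hpow, hinv'⟩ := exists_char_eigen σ s
    have hc2 : (Finset.univ : Finset ι).card = 2 := by
      rw [Finset.card_univ, ← Module.finrank_eq_card_basis b, hrank]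
    obtain ⟨i, j, hij, huniv⟩ := Finset.card_eq_two.1 hc2
    have hμ8 : ∀ k, μ k ^ 8 = 1 := fun k => by
      obtain ⟨c, hc⟩ := orderOf_dvd_of_pow_eq_one (h8 s)
      rw [hc, pow_mul, hμ k, one_pow]
    have h1 : μ i + μ j = r := by
      have := hpow 1
      simp only [pow_one, huniv, Finset.sum_pair hij] at this
      rw [← this, hr]
    have h2 : (μ i)⁻¹ + (μ j)⁻¹ = r := by
      rw [hsym, hr, huniv, Finset.sum_pair hij] at hinv'
      exact hinv'.symm
    have hall : ∀ c : ℂ, μ i = c → μ j = c → σ s = c • 1 := fun c hi hj => b.ext fun k => by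
      have hk : k ∈ ({i, j} : Finset ι) := huniv ▸ Finset.mem_univ k
      rw [hb]
      rcases Finset.mem_insert.1 hk with rfl | hk
      · rw [hi]; rfl
      · rw [Finset.mem_singleton.1 hk, hj]; rfl
    rcases eigen_pair h1 h2 (hμ8 i) (hμ8 j) with h | ⟨h, hi, hj⟩ | ⟨h, hi, hj⟩
    · exact Or.inl (by rw [hr, h]; simp)
    · exact Or.inr (Or.inl ⟨by rw [hr, h]; simp, by rw [hall 1 hi hj, one_smul]⟩)
    · exact Or.inr (Or.inr ⟨by rw [hr, h]; simp, by
        rw [hall (-1) hi hj]
        exact LinearMap.ext fun w => Subtype.ext (funext fun k => by simp)⟩)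
  -- the kernel
  set N : Subgroup S := σ.ker with hN
  have hN16 : Nat.card N ≤ 16 := by
    refine card_le_of_one_invol (hSp.to_subgroup N) (fun g => Subtype.ext (h8 _))
      (z := if h : z ∈ N then ⟨z, h⟩ else 1) fun i hi => ?_
    have hio : orderOf (i : S) = 2 := by rw [Subgroup.orderOf_coe, hi]
    have h1 : σ.character i = 2 := by rw [← hdim]; exact (mem_ker_iff_char σ _).1 i.2
    by_cases hiz : (i : S) = z
    · rw [dif_pos (hiz ▸ i.2)]
      exact Subtype.ext hiz
    exfalso
    have hzio : orderOf (z * i : S) = 2 := by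
      refine orderOf_eq_prime ?_ fun h => hiz ?_
      · rw [pow_two, show z * (i : S) * (z * i) = z * (i * z) * i by group,
          Subgroup.mem_center_iff.1 hzc (i : S), ← mul_assoc, hzz, one_mul, ← pow_two,
          ← hio, pow_orderOf_eq_one]
      · rw [eq_inv_of_mul_eq_one_right h, inv_eq_of_mul_eq_one_right hzz]
    rw [hσ, hinvS _ hio, hinvS _ hzio] at h1
    rcases hδ with rfl | rfl <;> rcases ha with rfl | rfl <;> first | omega | (norm_num at h1)
  -- counting
  let T : Finset S := Finset.univ.filter fun s => σ.character s = 2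
  let T' : Finset S := Finset.univ.filter fun s => σ.character s = -2
  have hT : T.card = Nat.card N := by
    rw [Nat.card_eq_fintype_card, Fintype.card_subtype]
    refine congrArg Finset.card (Finset.filter_congr fun s _ => ?_)
    rw [hN, mem_ker_iff_char, hdim]
  have hT' : T'.card ≤ Nat.card N := by
    rcases T'.eq_empty_or_nonempty with h | ⟨s₀, hs₀⟩
    · rw [h, Finset.card_empty]; exact Nat.zero_le _
    have hneg : ∀ s ∈ T', σ s = -1 := fun s hs => by
      have hs' := (Finset.mem_filter.1 hs).2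
      rcases hcases s with h | ⟨h, -⟩ | ⟨-, h⟩
      · rw [h] at hs'; norm_num at hs'
      · rw [h] at hs'; norm_num at hs'
      · exact h
    rw [← hT]
    refine Finset.card_le_card_of_injOn (s₀ * ·) (fun s hs => Finset.mem_filter.2
      ⟨Finset.mem_univ _, ?_⟩) fun x _ y _ hxy => mul_left_cancel hxy
    have : σ (s₀ * s) = 1 := by
      rw [map_mul, hneg s₀ hs₀, hneg s hs]
      exact LinearMap.ext fun w => Subtype.ext (funext fun k => by simp)
    rw [← hdim]
    exact (mem_ker_iff_char σ _).1 this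
  obtain ⟨k, hk, hkk⟩ := classInner_self_pos_nat σ (by rw [hrank]; norm_num)
  rw [classInner_self_eq_norm] at hkk
  have h4 : ((Nat.card S : ℝ)⁻¹ * ∑ s : S, ‖σ.character s‖ ^ 2) = k := by exact_mod_cast hkk
  have h5 : ∑ s : S, ‖σ.character s‖ ^ 2 = 4 * (T.card : ℝ) + 4 * (T'.card : ℝ) := by
    rw [Finset.card_filter, Finset.card_filter]
    push_cast
    rw [Finset.mul_sum, Finset.mul_sum, ← Finset.sum_add_distrib]
    refine Finset.sum_congr rfl fun s _ => ?_
    rcases hcases s with h | ⟨h, -⟩ | ⟨h, -⟩ <;> rw [h] <;> norm_num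
  rw [h5, hS, inv_mul_eq_iff_eq_mul₀ (by norm_num)] at h4
  have h6' : 4 * T.card + 4 * T'.card = 256 * k := by exact_mod_cast h4
  omega

end CfsgLib.ClassK.M24Nse.Large
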