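import Cfsg.Agent.Lib.ClassK.RowInvolution
import Cfsg.Agent.Lib.Transfer.ExcSimple
import Cfsg.Agent.Lib.Char.Galois
import Cfsg.Agent.Lib.BlockA.Galois
import Cfsg.Agent.Lib.ClassK.M24Nse.LargeTwo

/-!
The principal rows of a simple group of order 48384 with a self-centralising subgroup of order 7
normalised by a group of order 21.
-/

set_option autoImplicit false
set_option linter.unusedSectionVars false
set_option linter.style.haveILetI false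

namespace CfsgLib.ClassK.M24Nse.Large

open Subgroup Cfsg CfsgLib CfsgLib.ClassK CfsgLib.ClassK.RowSieve CfsgLib.ClassK.RowInvolution
open scoped ComplexConjugate

universe u

variable {H : Type u} [Group H] [Finite H] [IsSimpleGroup H]

/-- The nonvanishing characters at a subgroup of order 7. -/
structure RowData (A : Subgroup H) (a₁ a₂ s : ℤ) (D₁ D₂ d : ℕ) (φ₁ φ₂ : IrrCharacter H)
    (θ : Fin 2 → IrrCharacter H) : Prop where
  ne : φ₁ ≠ φ₂
  inj : Function.Injective θ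
  ne₁ : ∀ j, φ₁ ≠ θ j
  ne₂ : ∀ j, φ₂ ≠ θ j
  one₁ : (φ₁ : H → ℂ) ≠ fun _ => 1
  one₂ : (φ₂ : H → ℂ) ≠ fun _ => 1
  oneθ : ∀ j, (θ j : H → ℂ) ≠ fun _ => 1
  deg₁ : (φ₁ : H → ℂ) 1 = D₁
  deg₂ : (φ₂ : H → ℂ) 1 = D₂
  degθ : ∀ j, (θ j : H → ℂ) 1 = d
  val₁ : ∀ y ∈ A, y ≠ 1 → (φ₁ : H → ℂ) y = a₁
  val₂ : ∀ y ∈ A, y ≠ 1 → (φ₂ : H → ℂ) y = a₂
  valθ : ∀ y ∈ A, y ≠ 1 → ∑ j, (θ j : H → ℂ) y = s
  out : ∀ ψ : IrrCharacter H, ψ ≠ φ₁ → ψ ≠ φ₂ → (∀ j, ψ ≠ θ j) → (ψ : H → ℂ) ≠ (fun _ => 1) →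
    ∀ y ∈ A, y ≠ 1 → (ψ : H → ℂ) y = 0
  off : ∀ i j (g : H), (∀ x : H, x⁻¹ * g * x ∈ A → g = 1) → (θ i : H → ℂ) g = (θ j : H → ℂ) g
  sa₁ : a₁ = 1 ∨ a₁ = -1
  sa₂ : a₂ = 1 ∨ a₂ = -1
  ss : s = 1 ∨ s = -1
  eq_one : 1 + a₁ * D₁ + a₂ * D₂ + s * d = 0

theorem RowData.swap {A : Subgroup H} {a₁ a₂ s : ℤ} {D₁ D₂ d : ℕ} {φ₁ φ₂ : IrrCharacter H}
    {θ : Fin 2 → IrrCharacter H} (R : RowData A a₁ a₂ s D₁ D₂ d φ₁ φ₂ θ) :
    RowData A a₂ a₁ s D₂ D₁ d φ₂ φ₁ θ :=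
  ⟨R.ne.symm, R.inj, R.ne₂, R.ne₁, R.one₂, R.one₁, R.oneθ, R.deg₂, R.deg₁, R.degθ, R.val₂, R.val₁,
    R.valθ, fun ψ h1 h2 => R.out ψ h2 h1, R.off, R.sa₂, R.sa₁, R.ss, by linarith [R.eq_one]⟩

variable {A : Subgroup H} {a₁ a₂ s : ℤ} {D₁ D₂ d : ℕ} {φ₁ φ₂ : IrrCharacter H}
  {θ : Fin 2 → IrrCharacter H}

/-- Sums over the irreducible characters of functions supported on the rows. -/
theorem RowData.sum_split [Fintype (IrrCharacter H)] (R : RowData A a₁ a₂ s D₁ D₂ d φ₁ φ₂ θ)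
    (F : IrrCharacter H → ℂ)
    (hF : ∀ ψ : IrrCharacter H, ψ ≠ φ₁ → ψ ≠ φ₂ → (∀ j, ψ ≠ θ j) →
      (ψ : H → ℂ) ≠ (fun _ => 1) → F ψ = 0) :
    ∑ ψ, F ψ = F ⟨fun _ => 1, Char.isIrrCharacter_one⟩ + F φ₁ + F φ₂ + ∑ j, F (θ j) := by
  classical
  set one : IrrCharacter H := ⟨fun _ => 1, Char.isIrrCharacter_one⟩
  have hnot₁ : one ≠ φ₁ := fun e => R.one₁ (congrArg Subtype.val e).symm
  have hnot₂ : one ≠ φ₂ := fun e => R.one₂ (congrArg Subtype.val e).symm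
  have hnotθ : ∀ j, one ≠ θ j := fun j e => R.oneθ j (congrArg Subtype.val e).symm
  rw [← Finset.sum_subset (Finset.subset_univ (insert one (insert φ₁ (insert φ₂
    (Finset.univ.image θ))))) fun ψ _ hψ => ?_]
  · rw [Finset.sum_insert, Finset.sum_insert, Finset.sum_insert,
      Finset.sum_image fun i _ j _ e => R.inj e]
    · ring
    · simp only [Finset.mem_image, Finset.mem_univ, true_and, not_exists]
      exact fun j e => R.ne₂ j e.symm
    · simp only [Finset.mem_insert, Finset.mem_image, Finset.mem_univ, true_and, not_or, not_exists]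
      exact ⟨R.ne, fun j e => R.ne₁ j e.symm⟩
    · simp only [Finset.mem_insert, Finset.mem_image, Finset.mem_univ, true_and, not_or, not_exists]
      exact ⟨hnot₁, hnot₂, fun j e => hnotθ j e.symm⟩
  · simp only [Finset.mem_insert, Finset.mem_image, Finset.mem_univ, true_and, not_or,
      not_exists] at hψ
    exact hF ψ hψ.2.1 hψ.2.2.1 (fun j e => hψ.2.2.2 j e.symm) fun e => hψ.1 (Subtype.ext e)

/-- What the rows give at an involution. -/
theorem RowData.at_involution (R : RowData A a₁ a₂ s D₁ D₂ d φ₁ φ₂ θ) (hc : Nat.card H = 48384)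
    (hG : ¬ IsMulCommutative H) (hA : Nat.card A = 7)
    (hAN : Nat.card (normalizer (A : Set H)) = 21)
    (hCA : ∀ y ∈ A, y ≠ 1 → centralizer ({y} : Set H) = A) {i : H} (hi : orderOf i = 2) :
    ∃ v₁ v₂ v : ℤ, (φ₁ : H → ℂ) i = v₁ ∧ (φ₂ : H → ℂ) i = v₂ ∧
      v₁ ∈ qRange D₁ ∧ v₂ ∈ qRange D₂ ∧ v = -s * (1 + a₁ * v₁ + a₂ * v₂) ∧
      (D₁ * D₂ * d : ℤ) + a₁ * v₁ ^ 2 * D₂ * d + a₂ * v₂ ^ 2 * D₁ * d + s * v ^ 2 * D₁ * D₂ = 0 ∧
      ∃ c : ℕ, c = Nat.card (centralizer ({i} : Set H)) ∧ 1 + v₁ ^ 2 + v₂ ^ 2 + 2 * v ^ 2 ≤ c ∧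
        ∃ k : ℕ, k * c = 48384 ∧ (D₂ : ℤ) ∣ k * v₂ ∧ (d : ℤ) ∣ k * v := by
  classical
  have := Fintype.ofFinite H
  have := Fintype.ofFinite (IrrCharacter H)
  have : Fact (Nat.Prime 7) := ⟨by norm_num⟩
  obtain ⟨⟨y, hy⟩, hy1⟩ : ∃ y : A, y ≠ 1 := by
    have : Nontrivial A := Finite.one_lt_card_iff_nontrivial.1 (by omega)
    exact exists_ne _
  have hy1' : y ≠ 1 := fun e => hy1 (Subtype.ext e)
  have hiA : ∀ x : H, x⁻¹ * i * x ∈ A → i = 1 := fun x hx => by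
    have h := Subgroup.orderOf_dvd_natCard A hx
    rw [show x⁻¹ * i * x = MulAut.conj x⁻¹ i by simp, MulEquiv.orderOf_eq, hi, hA] at h
    omega
  have hperf := CfsgLib.Transfer.commutator_eq_top_of_simple hG
  have hcen : i ∉ Subgroup.center H := fun hcen => by
    rcases IsSimpleGroup.eq_bot_or_eq_top_of_normal (Subgroup.center H) inferInstance with hb | hb
    · rw [hb, Subgroup.mem_bot] at hcen; rw [hcen, orderOf_one] at hi; omega
    · exact hG ⟨⟨fun a b => Subgroup.mem_center_iff.1 (hb.ge (Subgroup.mem_top b)) a⟩⟩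
  have hq : ∀ (ψ : IrrCharacter H) (D : ℕ), (ψ : H → ℂ) ≠ (fun _ => 1) → (ψ : H → ℂ) 1 = D →
      ∃ v ∈ qRange D, (ψ : H → ℂ) i = (v : ℂ) := fun ψ D hψ hD => by
    obtain ⟨v, hv, hvi⟩ := exists_mem_qRange hperf ψ hi
      (fun g hg => CfsgLib.Transfer.irr_apply_ne_apply_one ψ hψ hg) hcen
    have : Cfsg.charDegree (ψ : H → ℂ) = D := by
      exact_mod_cast (BlockB.irr_degree_cast ψ).trans hD
    exact ⟨v, this ▸ hv, hvi⟩
  obtain ⟨v₁, hv₁, e₁⟩ := hq φ₁ D₁ R.one₁ R.deg₁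
  obtain ⟨v₂, hv₂, e₂⟩ := hq φ₂ D₂ R.one₂ R.deg₂
  obtain ⟨v, hv⟩ : ∃ v : ℤ, ∀ j, (θ j : H → ℂ) i = (v : ℂ) := by
    obtain ⟨v, hv⟩ := CfsgLib.Transfer.exists_int_char_involution
      (Char.irr_isCharacter (θ 0).2) (t := i) (by rw [← pow_two, ← hi, pow_orderOf_eq_one])
    exact ⟨v, fun j => (R.off j 0 i hiA).trans hv⟩
  have hd0 : (d : ℂ) ≠ 0 := by rw [← R.degθ 0]; exact Char.irr_apply_one_ne_zero (θ 0).2
  have hD₁0 : (D₁ : ℂ) ≠ 0 := by rw [← R.deg₁]; exact Char.irr_apply_one_ne_zero φ₁.2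
  have hD₂0 : (D₂ : ℂ) ≠ 0 := by rw [← R.deg₂]; exact Char.irr_apply_one_ne_zero φ₂.2
  have hθy : ∑ j, conj ((θ j : H → ℂ) y) = (s : ℂ) := by
    rw [← map_sum, R.valθ y hy hy1', map_intCast]
  have hsupp : ∀ ψ : IrrCharacter H, ψ ≠ φ₁ → ψ ≠ φ₂ → (∀ j, ψ ≠ θ j) →
      (ψ : H → ℂ) ≠ (fun _ => 1) → conj ((ψ : H → ℂ) y) = 0 := fun ψ h1 h2 h3 h4 => by
    rw [R.out ψ h1 h2 h3 h4 y hy hy1', map_zero]
  -- orthogonality with `y`
  have hvdef : v = -s * (1 + a₁ * v₁ + a₂ * v₂) := by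
    have h := Char.column_orthogonality (G := H) i y
    rw [if_neg (fun hh => by
      obtain ⟨g, hg⟩ := isConj_iff.1 hh
      have := hiA g⁻¹ (by rw [inv_inv, hg]; exact hy)
      rw [this, orderOf_one] at hi
      omega), R.sum_split _ (fun ψ h1 h2 h3 h4 => by rw [hsupp ψ h1 h2 h3 h4, mul_zero])] at h
    simp only [e₁, e₂, hv, R.val₁ y hy hy1', R.val₂ y hy hy1', map_one, map_intCast, ← Finset.mul_sum,
      hθy, mul_one] at h
    have h' : 1 + v₁ * a₁ + v₂ * a₂ + v * s = 0 := by exact_mod_cast h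
    rcases R.ss with rfl | rfl <;> linarith
  -- no product of two conjugates of `i` is conjugate to `y`
  have hno : ∀ g : H, (g * i * g⁻¹) * y * (g * i * g⁻¹)⁻¹ ≠ y⁻¹ := fun g hg => by
    set u := g * i * g⁻¹ with hu
    have huo : orderOf u = 2 := by rw [hu, ← MulAut.conj_apply, MulEquiv.orderOf_eq, hi]
    have hzy : zpowers y = A := Subgroup.eq_of_le_of_card_ge (zpowers_le.2 hy) (by
      have h := Subgroup.orderOf_dvd_natCard A hy
      rw [hA] at h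
      rw [hA, Nat.card_zpowers, ((Nat.dvd_prime (Fact.out : (7 : ℕ).Prime)).1 h).resolve_left
        (fun e => hy1' (orderOf_eq_one_iff.1 e))])
    have hmem : u ∈ normalizer (A : Set H) := by
      rw [← hzy]
      intro w
      have hconj : ∀ k : ℤ, u * y ^ k * u⁻¹ = y ^ (-k) := fun k => by
        rw [← conj_zpow, hg, inv_zpow, zpow_neg]
      constructor
      · intro hw
        obtain ⟨k, rfl⟩ := Subgroup.mem_zpowers_iff.1 hw
        exact Subgroup.mem_zpowers_iff.2 ⟨-k, (hconj k).symm⟩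
      · intro hw
        obtain ⟨k, hk⟩ := Subgroup.mem_zpowers_iff.1 hw
        refine Subgroup.mem_zpowers_iff.2 ⟨-k, ?_⟩
        calc y ^ (-k) = u * y ^ k * u⁻¹ := (hconj k).symm
          _ = (u * u) * w * (u * u)⁻¹ := by rw [hk]; group
          _ = w := by rw [← pow_two, ← huo, pow_orderOf_eq_one]; group
    have := Subgroup.orderOf_dvd_natCard _ hmem
    rw [huo, hAN] at this
    omega
  have hii : i * i = 1 := by rw [← pow_two, ← hi, pow_orderOf_eq_one]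
  have hrel : (1 : ℂ) + (v₁ : ℂ) ^ 2 * a₁ / D₁ + (v₂ : ℂ) ^ 2 * a₂ / D₂ + (v : ℂ) ^ 2 * s / d = 0 := by
    have hzero : ∑ t : H, ∑ ψ : IrrCharacter H, (ψ : H → ℂ) (i * (t * i * t⁻¹)) * conj ((ψ : H → ℂ) y)
        = 0 := Finset.sum_eq_zero fun t _ => by
      rw [Char.column_orthogonality, if_neg (not_isConj_of_not_invert hii hii hno t)]
    rw [Finset.sum_comm] at hzero
    simp only [← Finset.sum_mul, BlockB.sum_irr_mul_conj] at hzero
    rw [R.sum_split _ (fun ψ h1 h2 h3 h4 => by rw [hsupp ψ h1 h2 h3 h4, mul_zero])] at hzero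
    simp only [e₁, e₂, hv, R.deg₁, R.deg₂, R.degθ, R.val₁ y hy hy1', R.val₂ y hy hy1', map_one,
      map_intCast, ← Finset.mul_sum, hθy, mul_one, div_one] at hzero
    have hn : (Nat.card H : ℂ) ≠ 0 := by exact_mod_cast Nat.card_pos.ne'
    refine mul_left_cancel₀ hn ?_
    rw [mul_zero]
    linear_combination hzero
  refine ⟨v₁, v₂, v, e₁, e₂, hv₁, hv₂, hvdef, ?_, ?_⟩
  · have h' : ((D₁ : ℂ) * D₂ * d) + a₁ * v₁ ^ 2 * D₂ * d + a₂ * v₂ ^ 2 * D₁ * d +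
        s * v ^ 2 * D₁ * D₂ = 0 := by
      field_simp at hrel
      linear_combination hrel
    exact_mod_cast h'
  · refine ⟨_, rfl, ?_, ?_⟩
    · have h := Char.column_orthogonality (G := H) i i
      rw [if_pos (IsConj.refl i)] at h
      have hreal : ∑ ψ : IrrCharacter H, ‖(ψ : H → ℂ) i‖ ^ 2 =
          (Nat.card (centralizer ({i} : Set H)) : ℝ) := by
        have : ((∑ ψ : IrrCharacter H, ‖(ψ : H → ℂ) i‖ ^ 2 : ℝ) : ℂ) =
            ((Nat.card (centralizer ({i} : Set H)) : ℝ) : ℂ) := by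
          push_cast
          rw [← h]
          exact Finset.sum_congr rfl fun ψ _ => (Complex.mul_conj' _).symm
        exact_mod_cast this
      let one : IrrCharacter H := ⟨fun _ => 1, Char.isIrrCharacter_one⟩
      let G' : IrrCharacter H → ℂ := fun ψ => if ψ = one ∨ ψ = φ₁ ∨ ψ = φ₂ ∨ ∃ j, ψ = θ j then
        ((‖(ψ : H → ℂ) i‖ ^ 2 : ℝ) : ℂ) else 0
      have hs := R.sum_split G' (fun ψ h1 h2 h3 h4 => if_neg (by
        rintro (e | e | e | ⟨j, e⟩)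
        exacts [h4 (congrArg Subtype.val e), h1 e, h2 e, h3 j e]))
      have hle : ∑ ψ, (if ψ = one ∨ ψ = φ₁ ∨ ψ = φ₂ ∨ ∃ j, ψ = θ j then ‖(ψ : H → ℂ) i‖ ^ 2 else 0) ≤
          (Nat.card (centralizer ({i} : Set H)) : ℝ) := by
        rw [← hreal]
        exact Finset.sum_le_sum fun ψ _ => by split_ifs <;> simp [sq_nonneg]
      have hG' : ∀ ψ, G' ψ = (((if ψ = one ∨ ψ = φ₁ ∨ ψ = φ₂ ∨ ∃ j, ψ = θ j then
          ‖(ψ : H → ℂ) i‖ ^ 2 else 0) : ℝ) : ℂ) := fun ψ => by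
        simp only [G']; split_ifs <;> simp
      have hval : ∑ ψ, G' ψ = ((1 + v₁ ^ 2 + v₂ ^ 2 + 2 * v ^ 2 : ℤ) : ℂ) := by
        rw [hs]
        simp only [G', one, true_or, or_true, exists_apply_eq_apply', exists_apply_eq_apply, if_true,
          e₁, e₂, hv, norm_one, Complex.norm_intCast, sq_abs, Fin.sum_univ_two]
        push_cast
        ring
      rw [Finset.sum_congr rfl fun ψ _ => hG' ψ, ← Complex.ofReal_sum] at hval
      have hval' : (∑ ψ, (if ψ = one ∨ ψ = φ₁ ∨ ψ = φ₂ ∨ ∃ j, ψ = θ j then ‖(ψ : H → ℂ) i‖ ^ 2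
          else 0) : ℝ) = ((1 + v₁ ^ 2 + v₂ ^ 2 + 2 * v ^ 2 : ℤ) : ℝ) := by exact_mod_cast hval
      rw [hval'] at hle
      exact_mod_cast hle
    · refine ⟨(centralizer ({i} : Set H)).index, by rw [index_mul_card, hc], ?_, ?_⟩
      all_goals
        have key : ∀ (ψ : IrrCharacter H) (D : ℕ) (w : ℤ), (ψ : H → ℂ) 1 = D → (D : ℂ) ≠ 0 →
            (ψ : H → ℂ) i = w → (D : ℤ) ∣ (centralizer ({i} : Set H)).index * w := by
          intro ψ D w hD hD0 hw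
          have h := BlockB.irr_centralChar_isIntegral ψ i
          rw [Cfsg.centralChar, hw, hD,
            show ((centralizer ({i} : Set H)).index : ℂ) * (w : ℂ) / (D : ℂ) =
              (((((centralizer ({i} : Set H)).index : ℤ) * w : ℤ) : ℚ) / (D : ℚ) : ℚ) by
              push_cast; rfl] at h
          obtain ⟨m, hm⟩ := Char.exists_int_of_isIntegral_rat h
          refine ⟨m, ?_⟩
          rw [div_eq_iff (by exact_mod_cast hD0)] at hm
          rw [mul_comm (D : ℤ)]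
          exact_mod_cast hm
      · exact key φ₂ D₂ v₂ R.deg₂ hD₂0 e₂
      · exact key (θ 0) d v (R.degθ 0) hd0 (hv 0)

/-- Characters of the rows of a degree that occurs once are rational. -/
theorem RowData.rational (R : RowData A a₁ a₂ s D₁ D₂ d φ₁ φ₂ θ) (hc : Nat.card H = 48384)
    (hA : Nat.card A = 7) (h12 : D₁ ≠ D₂) (h1d : D₁ ≠ d) (h1 : D₁ ≠ 1) (g : H) :
    ∃ m : ℤ, (φ₁ : H → ℂ) g = m := by
  have := Fintype.ofFinite H
  obtain ⟨⟨y, hy⟩, hy1⟩ : ∃ y : A, y ≠ 1 := by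
    have : Nontrivial A := Finite.one_lt_card_iff_nontrivial.1 (by omega)
    exact exists_ne _
  have hy1' : y ≠ 1 := fun e => hy1 (Subtype.ext e)
  have hfix : ∀ m : ℕ, m.Coprime (Nat.card H) → (φ₁ : H → ℂ) (g ^ m) = (φ₁ : H → ℂ) g := by
    intro m hm
    let ψ : IrrCharacter H := ⟨_, BlockA.isIrrCharacter_comp_pow hm φ₁.2⟩
    have hψ : ψ = φ₁ := by
      by_contra hne
      have hdeg : (ψ : H → ℂ) 1 = D₁ := by
        show (φ₁ : H → ℂ) (1 ^ m) = _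
        rw [one_pow, R.deg₁]
      have hym : y ^ m ≠ 1 := fun e => hy1' (orderOf_eq_one_iff.1 (Nat.eq_one_of_dvd_coprimes hm
        (orderOf_dvd_of_pow_eq_one e) (orderOf_dvd_natCard y)))
      have h0 := R.out ψ hne
        (fun e => h12 (by
          have e' := congrArg (fun φ : IrrCharacter H => (φ : H → ℂ) 1) e
          simp only [hdeg, R.deg₂] at e'
          exact_mod_cast e'))
        (fun j e => h1d (by
          have e' := congrArg (fun φ : IrrCharacter H => (φ : H → ℂ) 1) e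
          simp only [hdeg, R.degθ] at e'
          exact_mod_cast e'))
        (fun e => h1 (by
          have e' := congrFun e 1
          rw [hdeg] at e'
          exact_mod_cast e')) y hy hy1'
      change (φ₁ : H → ℂ) (y ^ m) = 0 at h0
      rw [R.val₁ _ (pow_mem hy m) hym] at h0
      rcases R.sa₁ with e | e <;> rw [e] at h0 <;> norm_num at h0
    exact congrFun (congrArg Subtype.val hψ) g
  obtain ⟨q, hq⟩ := Char.exists_rat_of_emb_fixed
    (Char.charVal (Char.irr_isCharacter φ₁.2) g) fun ψ => by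
      obtain ⟨m, hm, hψ⟩ := Char.exists_pow_of_emb (Nat.card_pos (α := H)) ψ
      rw [Char.emb_charVal (Char.irr_isCharacter φ₁.2) ψ hψ g, hfix m hm]
      rfl
  have hint := BlockB.irr_isIntegral φ₁ g
  change (φ₁ : H → ℂ) g = (q : ℂ) at hq
  rw [hq] at hint
  obtain ⟨k, hk⟩ := Char.exists_int_of_isIntegral_rat hint
  exact ⟨k, by rw [hq, hk]; norm_num⟩

/-- A degree with its value at a subgroup of order 7. -/
theorem degree_cases : ∀ D ∈ List.range 220, 2 ≤ D ∧ 48384 % D = 0 →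
    (D % 7 = 1 → D = 8 ∨ D = 36 ∨ D = 64) ∧ (D % 7 = 6 → D = 6 ∨ D = 27 ∨ D = 48 ∨ D = 216) := by
  decide +kernel

/-- The candidates. -/
def cand : List (ℕ × ℤ) := [(8, 1), (36, 1), (64, 1), (6, -1), (27, -1), (48, -1), (216, -1)]

theorem pair_cases : ∀ c ∈ cand, ∀ c' ∈ cand, 1 < (1 + c.2 * c.1 + c'.2 * c'.1).natAbs →
    48384 % (1 + c.2 * c.1 + c'.2 * c'.1).natAbs = 0 →
    1 + c.1 * c.1 + c'.1 * c'.1 + 2 * ((1 + c.2 * c.1 + c'.2 * c'.1).natAbs *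
      (1 + c.2 * c.1 + c'.2 * c'.1).natAbs) ≤ 48384 →
    (c, c') ∈ ([((8, 1), (6, -1)), ((8, 1), (27, -1)), ((6, -1), (27, -1)), ((6, -1), (8, 1)),
      ((27, -1), (8, 1)), ((27, -1), (6, -1))] : List ((ℕ × ℤ) × (ℕ × ℤ))) := by
  decide +kernel

theorem sols_eight_six : ∀ x ∈ qRange 8, ∀ y ∈ qRange 6,
    (8 * 6 * 3 : ℤ) + 1 * x ^ 2 * 6 * 3 + (-1) * y ^ 2 * 8 * 3 +
      (-1) * (-(-1) * (1 + 1 * x + (-1) * y)) ^ 2 * 8 * 6 = 0 → y = 2 := by
  decide +kernel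

theorem sols_eight_twentyseven : ∀ x ∈ qRange 8, ∀ y ∈ qRange 27,
    (8 * 27 * 18 : ℤ) + 1 * x ^ 2 * 27 * 18 + (-1) * y ^ 2 * 8 * 18 +
      1 * (-1 * (1 + 1 * x + (-1) * y)) ^ 2 * 8 * 27 ≠ 0 := by
  decide +kernel

theorem sols_six_twentyseven : ∀ x ∈ qRange 6, ∀ y ∈ qRange 27,
    (6 * 27 * 32 : ℤ) + (-1) * x ^ 2 * 27 * 32 + (-1) * y ^ 2 * 6 * 32 +
      1 * (-1 * (1 + (-1) * x + (-1) * y)) ^ 2 * 6 * 27 = 0 → x = -2 ∨ (x = 2 ∧ y = 15) := by
  decide +kernel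

theorem false_of_case (R : RowData A a₁ a₂ s D₁ D₂ d φ₁ φ₂ θ) (hc : Nat.card H = 48384)
    (hG : ¬ IsMulCommutative H) (hA : Nat.card A = 7)
    (hAN : Nat.card (normalizer (A : Set H)) = 21)
    (hCA : ∀ y ∈ A, y ≠ 1 → centralizer ({y} : Set H) = A)
    (hexp : ∀ g : H, g ^ 16 = 1 → g ^ 8 = 1)
    (h : ((D₁, a₁), (D₂, a₂)) ∈ ([((8, 1), (6, -1)), ((8, 1), (27, -1)), ((6, -1), (27, -1))] :
      List ((ℕ × ℤ) × (ℕ × ℤ)))) : False := by
  have : Fact (Nat.Prime 2) := ⟨Nat.prime_two⟩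
  obtain ⟨S⟩ := (inferInstance : Nonempty (Sylow 2 H))
  have hS : Nat.card (S : Subgroup H) = 256 :=
    (card_sylow_of_exact (a := 8) S (by rw [hc]; norm_num) (by rw [hc]; norm_num)).trans (by norm_num)
  simp only [List.mem_cons, Prod.mk.injEq, List.not_mem_nil, or_false] at h
  have hss := R.ss
  have heq := R.eq_one
  rcases h with ⟨⟨rfl, rfl⟩, rfl, rfl⟩ | ⟨⟨rfl, rfl⟩, rfl, rfl⟩ | ⟨⟨rfl, rfl⟩, rfl, rfl⟩
  · obtain ⟨rfl, rfl⟩ : s = -1 ∧ d = 3 := by rcases hss with rfl | rfl <;> omega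
    refine false_of_two hexp (Char.irr_isCharacter φ₂.2) (by rw [R.deg₂]; norm_num)
      (R.swap.rational hc hA (by norm_num) (by norm_num) (by norm_num)) (Or.inl rfl) (fun i hi => ?_) S hS
    obtain ⟨v₁, v₂, v, -, e₂, hv₁, hv₂, hv, hrel, -⟩ := R.at_involution hc hG hA hAN hCA hi
    rw [hv] at hrel
    rw [e₂, sols_eight_six v₁ hv₁ v₂ hv₂ (by exact_mod_cast hrel)]
  · obtain ⟨rfl, rfl⟩ : s = 1 ∧ d = 18 := by rcases hss with rfl | rfl <;> omega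
    obtain ⟨i, hi⟩ := exists_prime_orderOf_dvd_card' (G := H) 2 (by rw [hc]; norm_num)
    obtain ⟨v₁, v₂, v, -, -, hv₁, hv₂, hv, hrel, -⟩ := R.at_involution hc hG hA hAN hCA hi
    rw [hv] at hrel
    exact sols_eight_twentyseven v₁ hv₁ v₂ hv₂ (by exact_mod_cast hrel)
  · obtain ⟨rfl, rfl⟩ : s = 1 ∧ d = 32 := by rcases hss with rfl | rfl <;> omega
    refine false_of_two hexp (Char.irr_isCharacter φ₁.2) (by rw [R.deg₁]; norm_num)
      (R.rational hc hA (by norm_num) (by norm_num) (by norm_num)) (Or.inr rfl) (fun i hi => ?_) S hS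
    obtain ⟨v₁, v₂, v, e₁, -, hv₁, hv₂, hv, hrel, c, hcc, hsum, k, hkc, hk₂, hkd⟩ :=
      R.at_involution hc hG hA hAN hCA hi
    rw [hv] at hrel
    rcases sols_six_twentyseven v₁ hv₁ v₂ hv₂ (by exact_mod_cast hrel) with e | ⟨e, e'⟩
    · rw [e₁, e]
    exfalso
    rw [e, e'] at hv
    subst hv
    rw [e'] at hk₂
    rw [e, e'] at hsum
    norm_num at hsum hkd hk₂
    obtain ⟨m, hm⟩ : (9 : ℤ) ∣ (k : ℤ) := by
      obtain ⟨m, hm⟩ := hk₂
      omega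
    obtain ⟨m', hm'⟩ := hkd
    have h18 : 18 ∣ k := by omega
    obtain ⟨q, rfl⟩ := h18
    have hcdvd : c ∣ 2688 := ⟨q, Nat.eq_of_mul_eq_mul_left (show 0 < 18 by norm_num) (by rw [mul_comm c q]; linarith)⟩
    have h7 : Nat.Coprime c 7 := by
      have : Fact (Nat.Prime 7) := ⟨by norm_num⟩
      refine (Nat.coprime_comm).1 ((Fact.out : (7 : ℕ).Prime).coprime_iff_not_dvd.2 fun hd7 => ?_)
      rw [hcc] at hd7
      obtain ⟨⟨w, hwc⟩, hw⟩ := exists_prime_orderOf_dvd_card' 7 hd7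
      rw [Subgroup.orderOf_mk] at hw
      obtain ⟨P, hP⟩ : ∃ P : Sylow 7 H, (P : Subgroup H) = A := by
        refine ⟨(IsPGroup.of_card (n := 1) (by rw [hA, pow_one]) : IsPGroup 7 A).toSylow ?_, rfl⟩
        intro hdvd
        have h1 := A.card_mul_index
        rw [hA, hc] at h1
        omega
      obtain ⟨Q, hQ⟩ := (IsPGroup.of_card (n := 1) (by rw [Nat.card_zpowers, hw, pow_one]) :
        IsPGroup 7 (zpowers w)).exists_le_sylow
      obtain ⟨g, hg⟩ := MulAction.exists_smul_eq H Q P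
      have hwA : g * w * g⁻¹ ∈ A := by
        rw [← hP, ← hg]
        exact Subgroup.smul_mem_pointwise_smul w (MulAut.conj g) _ (hQ (mem_zpowers w))
      have hne : g * w * g⁻¹ ≠ 1 := fun e0 => by
        rw [conj_eq_one_iff] at e0; rw [e0, orderOf_one] at hw; omega
      have hiA : g * i * g⁻¹ ∈ centralizer ({g * w * g⁻¹} : Set H) := by
        rw [mem_centralizer_singleton_iff] at hwc ⊢
        calc g * i * g⁻¹ * (g * w * g⁻¹) = g * (i * w) * g⁻¹ := by group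
          _ = g * (w * i) * g⁻¹ := by rw [hwc]
          _ = _ := by group
      rw [hCA _ hwA hne] at hiA
      have h2 := Subgroup.orderOf_dvd_natCard A hiA
      rw [← MulAut.conj_apply, MulEquiv.orderOf_eq, hi, hA] at h2
      omega
    have : c ∣ 384 := h7.dvd_of_dvd_mul_right (by norm_num; exact hcdvd)
    have := Nat.le_of_dvd (by norm_num) this
    omega

/-- No simple group of order 48384 has self-centralising Sylow 7-subgroups normalised by groups of order 21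
and no element of order 16. -/
theorem false_of_simple (hc : Nat.card H = 48384)
    (hC : ∀ x : H, orderOf x = 7 → Nat.card (centralizer ({x} : Set H)) = 7)
    (hN : ∀ x : H, orderOf x = 7 → Nat.card (normalizer (zpowers x : Set H)) = 21)
    (hexp : ∀ g : H, g ^ 16 = 1 → g ^ 8 = 1) : False := by
  classical
  have := Fintype.ofFinite H
  have : Fact (Nat.Prime 7) := ⟨by norm_num⟩
  obtain ⟨x, hx⟩ := exists_prime_orderOf_dvd_card' (G := H) 7 (by rw [hc]; norm_num)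
  have hG : ¬ IsMulCommutative H := fun hcomm => by
    have h := hC x hx
    rw [show centralizer ({x} : Set H) = ⊤ from eq_top_iff.2 fun g _ =>
      mem_centralizer_singleton_iff.2 (hcomm.is_comm.comm g x), card_top, hc] at h
    omega
  set A := zpowers x with hAdef
  have hA : Nat.card A = 7 := by rw [hAdef, Nat.card_zpowers, hx]
  have hCA : ∀ y ∈ A, y ≠ 1 → centralizer ({y} : Set H) = A := fun y hy hy1 => by
    have hyo : orderOf y = 7 := ((Nat.dvd_prime (Fact.out : (7 : ℕ).Prime)).1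
      (hA ▸ Subgroup.orderOf_dvd_natCard A hy)).resolve_left fun e => hy1 (orderOf_eq_one_iff.1 e)
    refine (Subgroup.eq_of_le_of_card_ge (fun g hg => mem_centralizer_singleton_iff.2 ?_)
      (by rw [hA, hC y hyo])).symm
    obtain ⟨i, rfl⟩ := Subgroup.mem_zpowers_iff.1 hg
    obtain ⟨j, rfl⟩ := Subgroup.mem_zpowers_iff.1 hy
    rw [← zpow_add, ← zpow_add, add_comm]
  obtain ⟨ε, α, d, θ, S, a, D, hd, hd1, hdG, hS, hout, hnorm, hdeg, hsq⟩ :=
    CfsgLib.Transfer.exists_excData_simple A hCA hG (e := 3) (w := 2) (by rw [hN x hx, hA])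
      (by rw [hA]) le_rfl
  rw [hc] at hdG hsq
  obtain ⟨hα, hsum⟩ : (α = 0 ∨ α = ε) ∧ ∑ χ ∈ S, a χ ^ 2 = 2 := by
    have h0 : 0 ≤ ∑ χ ∈ S, a χ ^ 2 := Finset.sum_nonneg fun _ _ => sq_nonneg _
    push_cast at hnorm
    have h1 : α ≤ 2 := by nlinarith
    have h2 : -2 ≤ α := by nlinarith
    rcases hd.sign with rfl | rfl <;> interval_cases α <;> first | omega | (norm_num; omega) |
      (norm_num at hnorm; omega)
  have hpm : ∀ φ ∈ S, a φ = 1 ∨ a φ = -1 := fun φ hφ => by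
    have h3 : a φ ^ 2 ≤ 2 := hsum ▸ Finset.single_le_sum (fun _ _ => sq_nonneg _) hφ
    have h4 : a φ ≤ 1 := by nlinarith
    have h5 : -1 ≤ a φ := by nlinarith
    have := (hS φ hφ).2.2.2.2.2.1
    omega
  have hc2 : S.card = 2 := by
    have : ∑ φ ∈ S, a φ ^ 2 = ∑ φ ∈ S, (1 : ℤ) := Finset.sum_congr rfl fun φ hφ => by
      rcases hpm φ hφ with h | h <;> simp [h]
    rw [hsum, Finset.sum_const, nsmul_one] at this
    exact_mod_cast this.symm
  obtain ⟨φ₁, φ₂, hne, rfl⟩ := Finset.card_eq_two.1 hc2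
  rw [Finset.sum_pair hne] at hdeg hsq
  obtain ⟨hD₁, hD₁1, hG₁, hne₁, hone₁, -, hval₁, k₁, hk₁0, hk₁⟩ := hS φ₁ (by simp)
  obtain ⟨hD₂, hD₂1, hG₂, hne₂, hone₂, -, hval₂, k₂, hk₂0, hk₂⟩ := hS φ₂ (by simp)
  set s : ℤ := ((2 : ℕ) : ℤ) * α - ε with hs
  have hspm : s = 1 ∨ s = -1 := by
    rcases hα with rfl | rfl <;> rcases hd.sign with rfl | rfl <;> norm_num [hs]
  have R : RowData A (a φ₁) (a φ₂) s (D φ₁) (D φ₂) d φ₁ φ₂ θ :=
    ⟨hne, hd.inj, hne₁, hne₂, hone₁, hone₂, hd.ne_one, hD₁, hD₂, hd.deg, hval₁, hval₂, hd.val_sum,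
      fun ψ h1 h2 h3 h4 => hout ψ (by simp [h1, h2]) h3 h4, hd.off, hpm φ₁ (by simp), hpm φ₂ (by simp),
      hspm, by linarith⟩
  rw [hA] at hk₁ hk₂
  rw [hc] at hG₁ hG₂
  have hb : ∀ D' : ℕ, D' * D' ≤ 48384 → D' < 220 := fun D' h => by
    by_contra hge
    push Not at hge
    have := Nat.mul_le_mul hge hge
    omega
  have hcand : ∀ (D' : ℕ) (a' : ℤ) (k : ℕ), 1 < D' → D' ∣ 48384 → D' * D' ≤ 48384 →
      (a' = 1 ∨ a' = -1) → 0 < k → (D' : ℤ) = a' + (7 : ℕ) * k → (D', a') ∈ cand := by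
    intro D' a' k h1 h2 h3 h4 h5 h6
    obtain ⟨hp, hm⟩ := degree_cases D' (List.mem_range.2 (hb D' h3)) ⟨h1, Nat.mod_eq_zero_of_dvd h2⟩
    rcases h4 with rfl | rfl
    · rcases hp (by omega) with rfl | rfl | rfl <;> simp [cand]
    · rcases hm (by omega) with rfl | rfl | rfl | rfl <;> simp [cand]
  have hb₁ : D φ₁ * D φ₁ ≤ 48384 := by rw [← pow_two]; omega
  have hb₂ : D φ₂ * D φ₂ ≤ 48384 := by rw [← pow_two]; omega
  have hdv : d = (1 + a φ₁ * D φ₁ + a φ₂ * D φ₂).natAbs := by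
    have := R.eq_one
    rcases hspm with e | e <;> rw [e] at this <;> omega
  have hmem := pair_cases (D φ₁, a φ₁) (hcand _ _ k₁ hD₁1 hG₁ hb₁ (hpm φ₁ (by simp)) hk₁0 hk₁)
    (D φ₂, a φ₂) (hcand _ _ k₂ hD₂1 hG₂ hb₂ (hpm φ₂ (by simp)) hk₂0 hk₂) (hdv ▸ hd1)
    (hdv ▸ Nat.mod_eq_zero_of_dvd hdG) (by
      simp only [← hdv, ← pow_two]
      omega)
  simp only [List.mem_cons, Prod.mk.injEq, List.not_mem_nil, or_false] at hmem
  have hfalse := false_of_case R hc hG hA (hN x hx) hCA hexp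
  have hfalse' := false_of_case R.swap hc hG hA (hN x hx) hCA hexp
  rcases hmem with ⟨⟨e₁, e₂⟩, e₃, e₄⟩ | ⟨⟨e₁, e₂⟩, e₃, e₄⟩ | ⟨⟨e₁, e₂⟩, e₃, e₄⟩ | ⟨⟨e₁, e₂⟩, e₃, e₄⟩ |
    ⟨⟨e₁, e₂⟩, e₃, e₄⟩ | ⟨⟨e₁, e₂⟩, e₃, e₄⟩
  all_goals first
    | exact hfalse (by rw [e₁, e₂, e₃, e₄]; decide)
    | exact hfalse' (by rw [e₁, e₂, e₃, e₄]; decide)

end CfsgLib.ClassK.M24Nse.Large
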