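import Cfsg.Agent.Lib.ClassK.M24Nse.Defs
import Cfsg.Agent.Lib.ClassK.M24Nse.LargeRows
import Cfsg.Agent.Lib.ClassK.SmallOrdersExc
import Cfsg.Agent.Lib.ClassK.M23Nse.Tools
import Cfsg.Agent.Lib.Transfer.Frobenius

/-!
No involution has a centraliser of order 96768.
-/

set_option autoImplicit false
set_option linter.unusedSectionVars false
set_option linter.style.haveILetI false

namespace CfsgLib.ClassK.M24Nse

open Subgroup CfsgLib.StructB.OrderCount

universe u

namespace Large

section Order

variable {H : Type u} [Group H] [Finite H] (hc : Nat.card H = 48384)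
  (hC : ∀ x : H, orderOf x = 7 → Nat.card (centralizer ({x} : Set H)) = 7)
include hc hC

theorem exists_seven : ∃ x : H, orderOf x = 7 := by
  have : Fact (Nat.Prime 7) := ⟨by norm_num⟩
  exact exists_prime_orderOf_dvd_card' 7 (by rw [hc]; norm_num)

theorem card_norm {x : H} (hx : orderOf x = 7) :
    Nat.card (normalizer (zpowers x : Set H)) = 21 := by
  have : Fact (Nat.Prime 7) := ⟨by norm_num⟩
  have hA : Nat.card (zpowers x) = 7 := by rw [Nat.card_zpowers, hx]
  obtain ⟨e, he, -, hN⟩ := CfsgLib.Transfer.normalizer_centralizer_index (zpowers x) hA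
  have hcc : centralizer (zpowers x : Set H) = centralizer ({x} : Set H) := by
    refine le_antisymm (centralizer_le (Set.singleton_subset_iff.2 (mem_zpowers x))) fun g hg => ?_
    refine mem_centralizer_iff.2 fun y hy => ?_
    obtain ⟨i, rfl⟩ := mem_zpowers_iff.1 hy
    exact (Commute.zpow_right (mem_centralizer_singleton_iff.1 hg : Commute g x) i).eq.symm
  rw [hcc, hC x hx] at hN
  obtain ⟨P, hP⟩ : ∃ P : Sylow 7 H, (P : Subgroup H) = zpowers x := by
    refine ⟨(IsPGroup.of_card (n := 1) (by rw [hA, pow_one]) : IsPGroup 7 (zpowers x)).toSylow ?_, rfl⟩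
    intro hdvd
    have h1 := (zpowers x).card_mul_index
    rw [hA, hc] at h1
    omega
  have h1 := card_sylow_modEq_one 7 H
  rw [Sylow.card_eq_index_normalizer P, show (P : Set H) = (zpowers x : Set H) from
    congrArg SetLike.coe hP] at h1
  have h2 := (normalizer (zpowers x : Set H)).card_mul_index
  rw [hN, hc] at h2
  have he6 : e ≤ 6 := Nat.le_of_dvd (by norm_num) he
  unfold Nat.ModEq at h1
  rw [hN]
  interval_cases e <;> omega

theorem normal_prime_to_seven {K : Subgroup H} [K.Normal] (h7 : ¬ 7 ∣ Nat.card K) :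
    Nat.card K = 1 ∨ Nat.card K = 8 ∨ Nat.card K = 64 := by
  have : Fact (Nat.Prime 7) := ⟨by norm_num⟩
  have : Fact (Nat.Prime 3) := ⟨Nat.prime_three⟩
  have hKdvd : Nat.card K ∣ 48384 := hc ▸ card_subgroup_dvd_card K
  have hfix : ∀ {S : Subgroup H} {w : H}, S ≤ K → orderOf w = 7 → w ∈ normalizer (S : Set H) →
      Nat.card S % 7 = 1 := by
    intro S w hSK hw hn
    rw [M23Nse.card_modEq_fixed hw hn]
    have h1 : Nat.card (S ⊓ centralizer ({w} : Set H) : Subgroup H) ∣ 7 :=
      hC w hw ▸ card_dvd_of_le inf_le_right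
    rcases (Nat.dvd_prime (by norm_num)).1 h1 with h | h
    · rw [h]
    · exact absurd (h ▸ card_dvd_of_le (inf_le_left.trans hSK)) h7
  have h3 : ¬ 3 ∣ Nat.card K := by
    intro h3
    obtain ⟨S⟩ := (inferInstance : Nonempty (Sylow 3 K))
    set S' := (S : Subgroup K).map K.subtype with hS'
    have hcS : Nat.card S' = Nat.card (S : Subgroup K) :=
      (Nat.card_congr ((S : Subgroup K).equivMapOfInjective _ K.subtype_injective).toEquiv).symm
    have htop := Sylow.normalizer_sup_eq_top S
    have hidx : K.index ∣ Nat.card (normalizer (S' : Set H)) := by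
      have h1 : (normalizer (S' : Set H)).map (QuotientGroup.mk' K) = ⊤ := by
        rw [← map_top_of_surjective _ (QuotientGroup.mk'_surjective K), ← htop, Subgroup.map_sup,
          show K.map (QuotientGroup.mk' K) = ⊥ from (Subgroup.map_eq_bot_iff _).2 (by rw [QuotientGroup.ker_mk']),
          sup_bot_eq]
      have := card_map_dvd (normalizer (S' : Set H)) (QuotientGroup.mk' K)
      rwa [h1, card_top, ← index_eq_card] at this
    have h7i : 7 ∣ K.index := by
      have h1 : 7 ∣ Nat.card K * K.index := by rw [K.card_mul_index, hc]; norm_num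
      exact ((Fact.out : (7 : ℕ).Prime).dvd_mul.1 h1).resolve_left h7
    obtain ⟨⟨w, hwn⟩, hw⟩ := exists_prime_orderOf_dvd_card' 7 (h7i.trans hidx)
    rw [orderOf_mk] at hw
    have h1 := hfix (map_subtype_le _) hw hwn
    obtain ⟨k, hk⟩ := S.2.exists_card_eq
    have hk1 : k ≠ 0 := fun h => by
      have := S.dvd_card_of_dvd_card h3
      rw [hk, h] at this
      norm_num at this
    have hk3 : k ≤ 3 := by
      have h2 : (3 : ℕ) ^ k ∣ 48384 :=
        hk ▸ (card_subgroup_dvd_card (S : Subgroup K)).trans hKdvd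
      by_contra hgt
      have := (pow_dvd_pow 3 (show 4 ≤ k by omega)).trans h2
      norm_num at this
    rw [hcS, hk] at h1
    interval_cases k <;> omega
  obtain ⟨x, hx⟩ := exists_seven hc hC
  have h1 := hfix le_rfl hx (by rw [normalizer_eq_top]; exact mem_top x)
  have hco : Nat.Coprime (Nat.card K) 189 :=
    ((Nat.prime_three.coprime_iff_not_dvd.2 h3).pow_left 3).symm.mul_right
      (((Fact.out : (7 : ℕ).Prime).coprime_iff_not_dvd.2 h7).symm)
  have h256 : Nat.card K ∣ 2 ^ 8 := hco.dvd_of_dvd_mul_right (by norm_num; exact hKdvd)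
  obtain ⟨j, hj, hj'⟩ := (Nat.dvd_prime_pow Nat.prime_two).1 h256
  rw [hj'] at h1 ⊢
  interval_cases j <;> omega

theorem normal_cases {K : Subgroup H} [hK : K.Normal] :
    K = ⊤ ∨ Nat.card K = 1 ∨ Nat.card K = 8 ∨ Nat.card K = 64 := by
  by_cases h7 : 7 ∣ Nat.card K
  swap
  · exact Or.inr (normal_prime_to_seven hc hC h7)
  have : Fact (Nat.Prime 7) := ⟨by norm_num⟩
  obtain ⟨⟨x, hxK⟩, hx⟩ := exists_prime_orderOf_dvd_card' 7 h7
  rw [orderOf_mk] at hx
  set xK : K := ⟨x, hxK⟩
  have hxK' : orderOf xK = 7 := by rw [← orderOf_coe]; exact hx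
  obtain ⟨P, hP⟩ : ∃ P : Sylow 7 K, (P : Subgroup K) = zpowers xK := by
    refine ⟨(IsPGroup.of_card (n := 1) (by rw [Nat.card_zpowers, hxK', pow_one]) :
      IsPGroup 7 (zpowers xK)).toSylow ?_, rfl⟩
    intro hdvd
    have h1 : Nat.card (zpowers xK) * (zpowers xK).index ∣ 48384 :=
      (zpowers xK).card_mul_index ▸ hc ▸ card_subgroup_dvd_card K
    rw [Nat.card_zpowers, hxK'] at h1
    have := (Nat.mul_dvd_mul_left 7 hdvd).trans h1
    norm_num at this
  set N := normalizer (zpowers x : Set H) with hN
  have hmap : (zpowers xK).map K.subtype = zpowers x := MonoidHom.map_zpowers _ _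
  have htop : N ⊔ K = ⊤ := by
    have := Sylow.normalizer_sup_eq_top P
    rwa [hP, hmap] at this
  have hN21 : Nat.card N = 21 := card_norm hc hC hx
  have hrel : Nat.card K = 2304 * Nat.card (N ⊓ K : Subgroup H) := by
    have h1 : K.relIndex N = K.index := by
      rw [← relIndex_top_right, ← htop]
      exact (Subgroup.relIndex_sup_right N K).symm
    have h2 := relIndex_mul_relIndex ⊥ (N ⊓ K) N bot_le inf_le_left
    rw [relIndex_bot_left, relIndex_bot_left, inf_relIndex_left, h1, hN21] at h2
    have h3 : Nat.card K * K.index = 48384 := by rw [card_mul_index, hc]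
    have hpos : 0 < K.index := Nat.pos_of_ne_zero index_ne_zero_of_finite
    refine Nat.eq_of_mul_eq_mul_right hpos ?_
    rw [h3, mul_assoc, h2]
    norm_num
  have hA : zpowers x ≤ N ⊓ K := le_inf le_normalizer (zpowers_le.2 hxK)
  have hm : Nat.card (N ⊓ K : Subgroup H) = 7 ∨ Nat.card (N ⊓ K : Subgroup H) = 21 := by
    have h1 : Nat.card (N ⊓ K : Subgroup H) ∣ 21 := hN21 ▸ card_dvd_of_le inf_le_left
    have h2 : 7 ∣ Nat.card (N ⊓ K : Subgroup H) := by
      have := card_dvd_of_le hA
      rwa [Nat.card_zpowers, hx] at this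
    generalize Nat.card (N ⊓ K : Subgroup H) = n at h1 h2 ⊢
    have h3 := Nat.le_of_dvd (by norm_num) h1
    interval_cases n <;> first | omega | (norm_num at h1) | (norm_num at h2)
  rcases hm with hm | hm
  swap
  · exact Or.inl (eq_top_of_card_eq K (by rw [hrel, hm, hc]))
  -- transfer
  exfalso
  have hNK : N ⊓ K = zpowers x := (Subgroup.eq_of_le_of_card_ge hA (by
    rw [hm, Nat.card_zpowers, hx])).symm
  have hle : normalizer ((P : Subgroup K) : Set K) ≤ centralizer ((P : Subgroup K) : Set K) := by
    intro k hk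
    have hk' : (k : H) ∈ N ⊓ K := by
      refine ⟨?_, k.2⟩
      rw [hP] at hk
      have h1 : (k : H) ∈ (normalizer ((zpowers xK : Subgroup K) : Set K)).map K.subtype :=
        mem_map_of_mem _ hk
      have h2 := le_normalizer_map (H := zpowers xK) K.subtype h1
      rwa [hmap] at h2
    rw [hNK] at hk'
    rw [hP]
    refine mem_centralizer_iff.2 fun y hy => ?_
    obtain ⟨i, rfl⟩ := mem_zpowers_iff.1 hy
    obtain ⟨j, hj⟩ := mem_zpowers_iff.1 hk'
    refine Subtype.ext ?_
    rw [coe_mul, coe_mul, SubgroupClass.coe_zpow, ← hj, ← zpow_add, ← zpow_add, add_comm]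
  obtain ⟨P', Q, hQn, hQc⟩ := CfsgLib.Transfer.hasNormalPComplement_of_normalizer_le_centralizer P hle
  have hQcard : Nat.card Q = 2304 := by
    have h1 := hQc.card_mul_card
    rw [card_sylow_of_exact (a := 1) P' (by rw [pow_one]; exact h7)
      (fun h => by
        have := h.trans (hc ▸ card_subgroup_dvd_card K)
        norm_num at this), hrel, hm, pow_one] at h1
    omega
  have hQidx : Q.index = 7 := by
    have := Q.card_mul_index
    rw [hQcard, hrel, hm] at this
    omega
  set Q' := Q.map K.subtype with hQ'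
  have hQ'c : Nat.card Q' = 2304 := by
    rw [← hQcard]
    exact (Nat.card_congr (Q.equivMapOfInjective _ K.subtype_injective).toEquiv).symm
  have : Q'.Normal := ⟨fun y hy g => by
    obtain ⟨⟨y, hyK⟩, hyQ, rfl⟩ := hy
    refine ⟨⟨g * y * g⁻¹, hK.conj_mem y hyK g⟩, ?_, rfl⟩
    have hd : (orderOf (QuotientGroup.mk' Q ⟨g * y * g⁻¹, hK.conj_mem y hyK g⟩)) ∣ 2304 := by
      refine (orderOf_map_dvd _ _).trans ?_
      rw [← orderOf_coe]
      show orderOf (g * y * g⁻¹) ∣ 2304
      rw [← MulAut.conj_apply, MulEquiv.orderOf_eq, show y = ((⟨y, hyK⟩ : K) : H) from rfl, orderOf_coe,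
        ← hQcard]
      exact orderOf_dvd_natCard _ hyQ
    have hd7 : orderOf (QuotientGroup.mk' Q ⟨g * y * g⁻¹, hK.conj_mem y hyK g⟩) ∣ 7 := by
      rw [← hQidx, index_eq_card]
      exact _root_.orderOf_dvd_natCard _
    exact (QuotientGroup.eq_one_iff _).1 (orderOf_eq_one_iff.1
      (Nat.eq_one_of_dvd_coprimes (by norm_num) hd hd7))⟩
  rcases normal_prime_to_seven hc hC (K := Q') (by rw [hQ'c]; norm_num) with h | h | h <;> omega

/-- No group of order 48384 has self-centralising subgroups of order 7 and exponent of two-elements at most 8. -/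
theorem false_of_order (hexp : ∀ g : H, g ^ 16 = 1 → g ^ 8 = 1) : False := by
  obtain ⟨x, hx⟩ := exists_seven hc hC
  by_cases hs : ∀ K : Subgroup H, K.Normal → K = ⊥ ∨ K = ⊤
  · have : Nontrivial H := Finite.one_lt_card_iff_nontrivial.1 (by omega)
    have : IsSimpleGroup H := ⟨hs⟩
    exact false_of_simple hc hC (fun x hx => card_norm hc hC hx) hexp
  push Not at hs
  obtain ⟨K, hK, hbot, htop⟩ := hs
  rcases (normal_cases hc hC (K := K)).resolve_left htop with h1 | h8 | h64
  · exact hbot (card_eq_one.1 h1)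
  · set C := centralizer (K : Set H) with hCdef
    have hCt : C ≠ ⊤ := fun h => hbot ((eq_bot_iff_forall K).2 fun k hk => by
      have hkx : k ∈ centralizer ({x} : Set H) :=
        mem_centralizer_singleton_iff.2 (mem_centralizer_iff.1 (h ▸ mem_top x : x ∈ C) k hk)
      have h1 : orderOf k ∣ 7 := hC x hx ▸ orderOf_dvd_natCard _ hkx
      have h2 : orderOf k ∣ 8 := h8 ▸ orderOf_dvd_natCard _ hk
      exact orderOf_eq_one_iff.1 (Nat.eq_one_of_dvd_coprimes (by norm_num) h1 h2))
    let φ : H →* Equiv.Perm K :=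
      { toFun := fun g => (MulAut.conjNormal g : MulAut K).toEquiv
        map_one' := by ext k; simp
        map_mul' := fun g g' => by ext k; simp [mul_assoc] }
    have hker : φ.ker = C := by
      ext g
      rw [MonoidHom.mem_ker, hCdef, mem_centralizer_iff]
      refine ⟨fun h k hk => ?_, fun h => Equiv.ext fun k => Subtype.ext ?_⟩
      · have h1 := congrArg Subtype.val (Equiv.congr_fun h ⟨k, hk⟩)
        simp only [φ, MonoidHom.coe_mk, OneHom.coe_mk, Equiv.Perm.coe_one, id_eq] at h1
        exact (mul_inv_eq_iff_eq_mul.1 h1).symm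
      · simp only [φ, MonoidHom.coe_mk, OneHom.coe_mk, Equiv.Perm.coe_one, id_eq]
        exact mul_inv_eq_iff_eq_mul.2 (h k k.2).symm
    have hd : C.index ∣ 40320 := by
      rw [← hker, index_ker]
      have h := card_subgroup_dvd_card φ.range
      rw [Nat.card_perm, h8] at h
      exact h.trans (dvd_of_eq (by decide))
    have h2 : Nat.card C * C.index = 48384 := by rw [card_mul_index, hc]
    rcases (normal_cases hc hC (K := C)).resolve_left hCt with h | h | h <;> rw [h] at h2
    · rw [show C.index = 48384 by omega] at hd; norm_num at hd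
    · rw [show C.index = 6048 by omega] at hd; norm_num at hd
    · rw [show C.index = 756 by omega] at hd; norm_num at hd
  · have hidx : Nat.card (H ⧸ K) = 756 := by
      have h1 := K.card_mul_index
      rw [h64, hc, index_eq_card] at h1
      omega
    have : Nontrivial (H ⧸ K) := Finite.one_lt_card_iff_nontrivial.1 (by omega)
    have : IsSimpleGroup (H ⧸ K) := ⟨fun M hM => by
      have hcm := card_mul_index (M.comap (QuotientGroup.mk' K))
      rw [index_comap_of_surjective _ (QuotientGroup.mk'_surjective K), hc] at hcm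
      have hmi := M.card_mul_index
      rw [hidx] at hmi
      rcases normal_cases hc hC (K := M.comap (QuotientGroup.mk' K)) with h | h | h | h
      · exact Or.inr (by rw [← map_comap_eq_self_of_surjective (QuotientGroup.mk'_surjective K) M, h,
          map_top_of_surjective _ (QuotientGroup.mk'_surjective K)])
      all_goals
        rw [h] at hcm
        have hle := Nat.le_of_dvd (by norm_num) ⟨_, ((mul_comm _ _).trans hmi).symm⟩
        refine Or.inl (card_eq_one.1 ?_)
        rcases Nat.eq_zero_or_pos M.index with h0 | h0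
        · omega
        · nlinarith⟩
    have hna : ¬ IsMulCommutative (H ⧸ K) := fun hcm => by
      let _ : CommGroup (H ⧸ K) := { (inferInstance : Group (H ⧸ K)) with mul_comm := hcm.is_comm.comm }
      have hp := (IsSimpleGroup.prime_card (α := H ⧸ K))
      rw [hidx] at hp
      exact absurd hp (by norm_num)
    exact card_ne_756 hna hidx

end Order

end Large

variable {G : Type u} [Group G] [Finite G]

/-- No involution has a centraliser of order 96768. -/
theorem Base.false_of_large (b : Base G) {t : G} (ht : orderOf t = 2)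
    (hc : Nat.card (centralizer ({t} : Set G)) = 96768) : False := by
  set C := centralizer ({t} : Set G) with hCdef
  let tc : C := ⟨t, mem_centralizer_singleton_iff.2 rfl⟩
  have htc : orderOf tc = 2 := by rw [← orderOf_coe]; exact ht
  have htcen : ∀ c : C, Commute c tc := fun c => Subtype.ext (mem_centralizer_singleton_iff.1 c.2)
  set Z := zpowers tc with hZdef
  have : Z.Normal := ⟨fun z hz c => by
    obtain ⟨i, rfl⟩ := mem_zpowers_iff.1 hz
    rw [((htcen c).zpow_right i).eq, mul_inv_cancel_right]
    exact hz⟩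
  have hZ : Nat.card Z = 2 := by rw [hZdef, Nat.card_zpowers, htc]
  set π := QuotientGroup.mk' Z
  have hπ : ∀ c, π c = 1 ↔ c ∈ Z := fun c => QuotientGroup.eq_one_iff c
  have hZ2 : ∀ c : C, c ∈ Z → c ^ 2 = 1 := fun c hcZ =>
    orderOf_dvd_iff_pow_eq_one.1 (hZ ▸ orderOf_dvd_natCard Z hcZ)
  have hcard : Nat.card (C ⧸ Z) = 48384 := by
    have h := card_eq_card_quotient_mul_card_subgroup Z
    rw [hc, hZ] at h
    omega
  refine Large.false_of_order hcard (fun h hh => ?_) fun g hg => ?_
  · obtain ⟨g, rfl⟩ := QuotientGroup.mk'_surjective Z h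
    have h7 : g ^ 7 ∈ Z := (hπ _).1 (by rw [map_pow, ← hh, pow_orderOf_eq_one])
    set x : C := g ^ 8 with hxdef
    have hπx : π x = π g := by
      rw [hxdef, map_pow, show (8 : ℕ) = orderOf (π g) + 1 by rw [hh], pow_succ, pow_orderOf_eq_one,
        one_mul]
    have hx7 : x ^ 7 = 1 := by
      rw [hxdef, ← pow_mul, show 8 * 7 = 7 * 2 * 4 by norm_num, pow_mul, pow_mul, hZ2 _ h7, one_pow]
    have hxo : orderOf x = 7 := orderOf_eq_prime (hp := ⟨by norm_num⟩) hx7 fun e => by
      rw [← hπx, e, map_one, orderOf_one] at hh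
      norm_num at hh
    have hxG : orderOf (x : G) = 7 := by rw [orderOf_coe]; exact hxo
    -- the preimage of the centraliser
    have hpre : (centralizer ({π g} : Set (C ⧸ Z))).comap π = centralizer ({x} : Set C) := by
      ext c
      rw [mem_comap, mem_centralizer_singleton_iff, mem_centralizer_singleton_iff]
      constructor
      · intro hcg
        have h1 : c * x * c⁻¹ * x⁻¹ ∈ Z := (hπ _).1 (by
          rw [map_mul, map_mul, map_mul, map_inv, map_inv, hπx, hcg]
          group)
        obtain ⟨z, hz, hzdef⟩ : ∃ z ∈ Z, c * x * c⁻¹ = z * x := ⟨_, h1, by group⟩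
        have hz1 : z = 1 := by
          have h2 : (z * x) ^ 7 = 1 := by rw [← hzdef, conj_pow, hx7, mul_one, mul_inv_cancel]
          have hzc : Commute z x := by
            obtain ⟨i, rfl⟩ := mem_zpowers_iff.1 hz
            exact ((htcen x).zpow_right i).symm
          rw [hzc.mul_pow, hx7, mul_one, show (7 : ℕ) = 2 * 3 + 1 by norm_num, pow_succ, pow_mul,
            hZ2 z hz, one_pow, one_mul] at h2
          exact h2
        rw [hz1, one_mul] at hzdef
        exact mul_inv_eq_iff_eq_mul.1 hzdef
      · intro hcx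
        rw [← hπx, ← map_mul, ← map_mul, hcx]
    have hmul : Nat.card (centralizer ({π g} : Set (C ⧸ Z))) * 2 =
        Nat.card (centralizer ({x} : Set C)) := by
      rw [← hpre]
      have h1 := card_mul_index ((centralizer ({π g} : Set (C ⧸ Z))).comap π)
      have h2 := card_mul_index (centralizer ({π g} : Set (C ⧸ Z)))
      rw [index_comap_of_surjective _ (QuotientGroup.mk'_surjective Z)] at h1
      rw [hcard] at h2
      rw [hc] at h1
      have hpos : 0 < (centralizer ({π g} : Set (C ⧸ Z))).index :=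
        Nat.pos_of_ne_zero index_ne_zero_of_finite
      nlinarith
    set D := (centralizer ({x} : Set C)).map C.subtype with hD
    have hDc : Nat.card D = Nat.card (centralizer ({x} : Set C)) :=
      (Nat.card_congr ((centralizer ({x} : Set C)).equivMapOfInjective _ C.subtype_injective).toEquiv).symm
    have hDle : D ≤ centralizer ({(x : G)} : Set G) := by
      rintro _ ⟨c, hcx, rfl⟩
      exact mem_centralizer_singleton_iff.2
        (congrArg Subtype.val (mem_centralizer_singleton_iff.1 hcx))
    have hd : Nat.card (centralizer ({x} : Set C)) ∣ 42 :=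
      hDc ▸ b.cent_seven _ hxG ▸ card_dvd_of_le hDle
    have h14 : 14 ∣ Nat.card (centralizer ({x} : Set C)) := by
      refine (Nat.Coprime.mul_dvd_of_dvd_of_dvd (show Nat.Coprime 2 7 by norm_num) ?_ ?_)
      · exact htc ▸ orderOf_dvd_natCard _ (mem_centralizer_singleton_iff.2 (htcen x).symm.eq)
      · exact hxo ▸ orderOf_dvd_natCard _ (mem_centralizer_singleton_iff.2 rfl)
    have h3 : ¬ 3 ∣ Nat.card (centralizer ({x} : Set C)) := by
      intro h3
      have : Fact (Nat.Prime 3) := ⟨Nat.prime_three⟩
      obtain ⟨⟨w, hwx⟩, hw⟩ := exists_prime_orderOf_dvd_card' 3 h3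
      rw [orderOf_mk] at hw
      have hwx' : Commute w x := mem_centralizer_singleton_iff.1 hwx
      have h21 : orderOf (w * x) = 21 := by
        rw [hwx'.orderOf_mul_eq_mul_orderOf_of_coprime (by rw [hw, hxo]; norm_num), hw, hxo]
      have h42 : orderOf (((w * x) * tc : C) : G) = 42 := by
        rw [orderOf_coe, (htcen (w * x)).orderOf_mul_eq_mul_orderOf_of_coprime
          (by rw [h21, htc]; norm_num), h21, htc]
      have h0 := b.cnt_eq 42
      rw [show tblCnt 42 = 0 from rfl, cnt, Nat.card_eq_zero] at h0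
      rcases h0 with h0 | h0
      · exact h0.false ⟨_, h42⟩
      · exact not_finite_iff_infinite.2 h0 inferInstance
    have : Nat.card (centralizer ({x} : Set C)) = 14 := by
      generalize Nat.card (centralizer ({x} : Set C)) = n at hd h14 h3 ⊢
      have h1 := Nat.le_of_dvd (by norm_num) hd
      interval_cases n <;> first | omega | (norm_num at hd) | (norm_num at h14) | (norm_num at h3)
    change Nat.card (centralizer ({π g} : Set (C ⧸ Z))) = 7
    omega
  · obtain ⟨c, rfl⟩ := QuotientGroup.mk'_surjective Z g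
    by_contra hne
    have h16 : c ^ 16 ∈ Z := (hπ _).1 (by rw [map_pow]; exact hg)
    have h32 : c ^ (2 ^ 5) = 1 := by
      rw [show (2 : ℕ) ^ 5 = 16 * 2 by norm_num, pow_mul, hZ2 _ h16]
    obtain ⟨k, hk5, hk⟩ := (Nat.dvd_prime_pow Nat.prime_two).1 (orderOf_dvd_of_pow_eq_one h32)
    have hk4 : 4 ≤ k := by
      by_contra hlt
      refine hne ?_
      rw [← map_pow, hπ, show c ^ 8 = 1 from orderOf_dvd_iff_pow_eq_one.1
        (hk ▸ show 2 ^ k ∣ 2 ^ 3 from pow_dvd_pow 2 (by omega))]
      exact one_mem Z
    have h0 := b.cnt_eq (2 ^ k)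
    have ht0 : tblCnt (2 ^ k) = 0 := by interval_cases k <;> rfl
    rw [ht0, cnt, Nat.card_eq_zero] at h0
    rcases h0 with h0 | h0
    · exact h0.false ⟨(c : G), by rw [orderOf_coe, hk]⟩
    · exact not_finite_iff_infinite.2 h0 inferInstance

end CfsgLib.ClassK.M24Nse
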