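import Cfsg.Agent.Lib.ClassK.M24Nse.CentUStruct
import Cfsg.Agent.Lib.ClassK.M24Nse.Defs

/-!
The centraliser of `u`: order 7680, an extension of a group of order 64 by `S₅`; the two exclusions.
-/

set_option autoImplicit false
set_option linter.unusedSectionVars false
set_option linter.style.haveILetI false

namespace CfsgLib.ClassK.M24Nse

open Subgroup Equiv CfsgLib.StructB.OrderCount

universe u

variable {G : Type u} [Group G] [Finite G]

theorem perm_five_central : ∀ σ : Perm (Fin 5),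
    σ * swap 0 1 = swap 0 1 * σ → σ * swap 1 2 = swap 1 2 * σ → σ * swap 3 4 = swap 3 4 * σ →
    σ * swap 2 3 = swap 2 3 * σ → σ = 1 := by
  decide +kernel

namespace Loc

theorem shape_u (c : Loc G) : CentFive.Shape (centralizer ({c.u} : Set G)) := by
  refine ⟨c.cent_u, ?_⟩
  haveI : Fact (Nat.Prime 2) := ⟨Nat.prime_two⟩
  haveI : Fact (Nat.Prime 3) := ⟨Nat.prime_three⟩
  haveI : Fact (Nat.Prime 5) := ⟨Nat.prime_five⟩
  set H := centralizer ({c.u} : Set G) with hH
  intro g hg
  have hg' : orderOf (g : G) = 5 := by rw [Subgroup.orderOf_coe, hg]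
  set C := centralizer ({(g : G)} : Set G) with hC
  have hC60 : Nat.card C = 60 := c.base.cent_five _ hg'
  have hgu : Commute (g : G) c.u := mem_centralizer_singleton_iff.1 g.2
  have huC : c.u ∈ C := mem_centralizer_singleton_iff.2 hgu.eq.symm
  have hcard : Nat.card (centralizer ({g} : Set H)) = Nat.card (H ⊓ C : Subgroup G) :=
    Nat.card_congr
      { toFun := fun k => ⟨((k : H) : G), (k : H).2, mem_centralizer_singleton_iff.2
          (congrArg Subtype.val (mem_centralizer_singleton_iff.1 k.2))⟩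
        invFun := fun k => ⟨⟨k, k.2.1⟩, mem_centralizer_singleton_iff.2
          (Subtype.ext (mem_centralizer_singleton_iff.1 k.2.2))⟩
        left_inv := fun k => rfl
        right_inv := fun k => rfl }
  rw [hcard]
  -- a Sylow 2-subgroup of `C(g)` through `u`
  have hup : IsPGroup 2 (zpowers (⟨c.u, huC⟩ : C)) :=
    IsPGroup.of_card (n := 1) (by rw [Nat.card_zpowers, Subgroup.orderOf_mk, c.hu, pow_one])
  obtain ⟨V, hV⟩ := hup.exists_le_sylow
  have hV4 : Nat.card (V : Subgroup C) = 2 ^ 2 :=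
    card_sylow_of_exact V (a := 2) (by rw [hC60]; norm_num) (by rw [hC60]; norm_num)
  haveI := IsPGroup.isMulCommutative_of_card_eq_prime_sq hV4
  have h4 : 4 ∣ Nat.card (H ⊓ C : Subgroup G) := by
    rw [show (4 : ℕ) = Nat.card ((V : Subgroup C).map C.subtype) by
      rw [card_map_of_injective C.subtype_injective, hV4]; norm_num]
    refine card_dvd_of_le ?_
    rintro _ ⟨v, hv, rfl⟩
    exact ⟨mem_centralizer_singleton_iff.2 (congrArg (fun w : (V : Subgroup C) => ((w : C) : G))
      (IsMulCommutative.is_comm.comm ⟨v, hv⟩ ⟨_, hV (mem_zpowers (⟨c.u, huC⟩ : C))⟩)), v.2⟩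
  have h5 : 5 ∣ Nat.card (H ⊓ C : Subgroup G) := hg' ▸ Subgroup.orderOf_dvd_natCard _
    (show (g : G) ∈ H ⊓ C from ⟨g.2, mem_centralizer_singleton_iff.2 rfl⟩)
  have h60 : Nat.card (H ⊓ C : Subgroup G) ∣ 60 := hC60 ▸ card_dvd_of_le inf_le_right
  have h20 := Nat.Coprime.mul_dvd_of_dvd_of_dvd (by norm_num : Nat.Coprime 4 5) h4 h5
  have hne : Nat.card (H ⊓ C : Subgroup G) ≠ 60 := fun h => by
    obtain ⟨⟨y, hy⟩, hy3⟩ := exists_prime_orderOf_dvd_card' (G := C) 3 (by rw [hC60]; norm_num)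
    rw [Subgroup.orderOf_mk] at hy3
    have hyH : y ∈ H ⊓ C := by
      rwa [eq_of_le_of_card_ge (inf_le_right : H ⊓ C ≤ C) (by rw [h, hC60])]
    have hyg : Commute y (g : G) := mem_centralizer_singleton_iff.1 hy
    have hyu : Commute y c.u := mem_centralizer_singleton_iff.1 hyH.1
    have h15 : orderOf (y * (g : G)) = 15 := by
      rw [hyg.orderOf_mul_eq_mul_orderOf_of_coprime (by rw [hy3, hg']; norm_num), hy3, hg']
    have h30 : orderOf (y * (g : G) * c.u) = 30 := by
      rw [(hyu.mul_left hgu).orderOf_mul_eq_mul_orderOf_of_coprime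
        (by rw [h15, c.hu]; norm_num), h15, c.hu]
    have h0 : cnt G 30 = 0 := by rw [c.base.cnt_eq]; rfl
    haveI : Nonempty {x : G // orderOf x = 30} := ⟨⟨_, h30⟩⟩
    exact Nat.card_pos.ne' h0
  obtain ⟨q, hq⟩ := h20
  rw [hq] at h60 hne ⊢
  have hq3 : q ∣ 3 := Nat.dvd_of_mul_dvd_mul_left (by norm_num : 0 < 4 * 5) (by simpa using h60)
  rcases (Nat.dvd_prime Nat.prime_three).1 hq3 with rfl | rfl
  · norm_num
  · exact absurd (by norm_num) hne

theorem nonempty_udata (c : Loc G) : Nonempty (UData (centralizer ({c.u} : Set G))) :=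
  CentFive.nonempty_udata c.shape_u

/-- No abelian subgroup of order 128 centralises `u`. -/
theorem not_abelian_u (c : Loc G) {A : Subgroup G} (hA : A ≤ centralizer ({c.u} : Set G))
    (hc : Nat.card A = 128) : ¬ IsMulCommutative A := by
  obtain ⟨D⟩ := c.nonempty_udata
  intro hab
  refine D.not_abelian (A.subgroupOf (centralizer ({c.u} : Set G)))
    (by rw [Nat.card_congr (subgroupOfEquivOfLe hA).toEquiv, hc]) ⟨⟨fun a b => ?_⟩⟩
  refine Subtype.ext (Subtype.ext ?_)
  have h : (⟨((a : centralizer ({c.u} : Set G)) : G), a.2⟩ : A) *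
      ⟨((b : centralizer ({c.u} : Set G)) : G), b.2⟩ = ⟨((b : centralizer ({c.u} : Set G)) : G), b.2⟩ *
      ⟨((a : centralizer ({c.u} : Set G)) : G), a.2⟩ := hab.is_comm.comm _ _
  exact congrArg (fun w : A => (w : G)) h

/-- No elementary subgroup of order 16 almost centralised by a Sylow 2-subgroup of `C(u)`. -/
theorem no_sixteen (c : Loc G) {S A : Subgroup G} {z : G} (hS : Nat.card S = 512)
    (hSu : S ≤ centralizer ({c.u} : Set G)) (hAS : A ≤ S) (hA : Nat.card A = 16)
    (hsq : ∀ a ∈ A, a * a = 1) (hu : c.u ∈ A) (hz : z ∈ A) (hz1 : z ≠ 1) (hzu : z ≠ c.u)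
    (hcomm : ∀ s ∈ S, ∀ a ∈ A, s * a * s⁻¹ * a⁻¹ = 1 ∨ s * a * s⁻¹ * a⁻¹ = z)
    (hX : Nat.card (S ⊓ centralizer (A : Set G) : Subgroup G) = 128)
    (hX' : Nat.card ↥⁅(S ⊓ centralizer (A : Set G) : Subgroup G),
      (S ⊓ centralizer (A : Set G) : Subgroup G)⁆ ≠ 4) : False := by
  obtain ⟨D⟩ := c.nonempty_udata
  set H := centralizer ({c.u} : Set G) with hH
  have hAH : A ≤ H := hAS.trans hSu
  set uH : H := ⟨c.u, hAH hu⟩
  have huc : ∀ k : H, k * uH = uH * k := fun k =>
    Subtype.ext (mem_centralizer_singleton_iff.1 k.2)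
  have huK : uH ∈ D.φ.ker := by
    rw [MonoidHom.mem_ker]
    have hall : ∀ σ, D.φ uH * σ = σ * D.φ uH := fun σ => by
      obtain ⟨k, rfl⟩ := D.surj σ
      rw [← map_mul, ← map_mul, huc]
    exact perm_five_central _ (hall _) (hall _) (hall _) (hall _)
  have hX0 : S.subgroupOf H ⊓ centralizer ((A.subgroupOf H) : Set H) =
      (S ⊓ centralizer (A : Set G)).subgroupOf H := by
    ext k
    simp only [mem_inf, mem_subgroupOf, mem_centralizer_iff, SetLike.mem_coe]
    refine and_congr_right fun _ => ⟨fun h a ha => ?_, fun h a ha => Subtype.ext (h (a : G) ha)⟩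
    exact congrArg Subtype.val (h ⟨a, hAH ha⟩ ha)
  have hXH : S ⊓ centralizer (A : Set G) ≤ H := inf_le_left.trans hSu
  refine D.no_sixteen (S.subgroupOf H) (A.subgroupOf H) (u := uH) (z := ⟨z, hAH hz⟩)
    (by rw [Nat.card_congr (subgroupOfEquivOfLe hSu).toEquiv, hS]) (fun a ha => hAS ha)
    (by rw [Nat.card_congr (subgroupOfEquivOfLe hAH).toEquiv, hA])
    (fun a ha => Subtype.ext (hsq _ ha)) hu huK
    (fun e => c.hu.not_lt (by rw [show c.u = 1 from congrArg Subtype.val e, orderOf_one]; norm_num))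
    huc hz (fun e => hz1 (congrArg Subtype.val e)) (fun e => hzu (congrArg Subtype.val e))
    (fun s hs a ha => (hcomm _ hs _ ha).imp (fun e => Subtype.ext e) fun e => Subtype.ext e)
    (by rw [hX0, Nat.card_congr (subgroupOfEquivOfLe hXH).toEquiv, hX]) ?_
  intro h4
  refine hX' ?_
  rw [hX0] at h4
  have h5 := card_map_of_injective (K := ⁅(S ⊓ centralizer (A : Set G)).subgroupOf H,
    (S ⊓ centralizer (A : Set G)).subgroupOf H⁆) H.subtype_injective
  rw [map_commutator, map_subgroupOf_eq_of_le hXH] at h5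
  exact h5.trans h4

end Loc

end CfsgLib.ClassK.M24Nse
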