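import Cfsg.Agent.Lib.ClassK.M24Nse.CentTData
import Cfsg.Agent.Lib.ClassK.M24Nse.CentU

/-!
The centraliser of the involution with the larger centraliser satisfies the setting `CT`.
-/

set_option autoImplicit false
set_option linter.unusedSectionVars false

namespace CfsgLib.ClassK.M24Nse

open Subgroup CfsgLib.StructB.OrderCount
open scoped commutatorElement

universe u

variable {G : Type u} [Group G] [Finite G]

namespace Loc

/-- A conjugate of `u` has a large centraliser inside that of `t`. -/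
theorem exists_conj_u (c : Loc G) : ∃ g : G, g * c.u * g⁻¹ ∈ centralizer ({c.t} : Set G) ∧
    512 ∣ Nat.card (centralizer ({c.t} : Set G) ⊓ centralizer ({g * c.u * g⁻¹} : Set G) : Subgroup G) := by
  have : Fact (Nat.Prime 2) := ⟨Nat.prime_two⟩
  set Hu := centralizer ({c.u} : Set G) with hHu
  obtain ⟨S₀, hS₀le, hS₀⟩ : ∃ S₀ ≤ Hu, c.u ∈ S₀ ∧ Nat.card S₀ = 512 := by
    obtain ⟨P⟩ := (inferInstance : Nonempty (Sylow 2 Hu))
    set uH : Hu := ⟨c.u, mem_centralizer_singleton_iff.2 rfl⟩
    have : (zpowers uH).Normal := ⟨fun z hz k => by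
      obtain ⟨i, rfl⟩ := mem_zpowers_iff.1 hz
      have hk : Commute k uH := Subtype.ext (mem_centralizer_singleton_iff.1 k.2)
      rw [(hk.zpow_right i).eq, mul_inv_cancel_right]
      exact hz⟩
    have hu2 : IsPGroup 2 (zpowers uH) := IsPGroup.of_card (n := 1) (by
      rw [Nat.card_zpowers, ← orderOf_coe, pow_one]; exact c.hu)
    have huP : uH ∈ (P : Subgroup Hu) := hu2.le_sylow_of_normal P (mem_zpowers uH)
    have hcP : Nat.card (P : Subgroup Hu) = 512 := by
      obtain ⟨k, hk⟩ := P.2.exists_card_eq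
      have h9 : 2 ^ 9 ∣ Nat.card (P : Subgroup Hu) :=
        P.pow_dvd_card_of_pow_dvd_card (by rw [hHu, c.cent_u]; norm_num)
      have hle : Nat.card (P : Subgroup Hu) ∣ 7680 := c.cent_u ▸ card_subgroup_dvd_card _
      rw [hk] at h9 hle ⊢
      have : 9 ≤ k := (Nat.pow_dvd_pow_iff_le_right (by norm_num)).1 h9
      have : k ≤ 9 := by
        by_contra h
        have h' := (pow_dvd_pow 2 (show 10 ≤ k by omega)).trans hle
        norm_num at h'
      rw [show k = 9 by omega]; norm_num
    refine ⟨(P : Subgroup Hu).map Hu.subtype, map_subtype_le _, ⟨uH, huP, rfl⟩, ?_⟩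
    rw [← hcP]
    exact (Nat.card_congr ((P : Subgroup Hu).equivMapOfInjective _ Hu.subtype_injective).toEquiv).symm
  obtain ⟨hu0, hc0⟩ := hS₀
  obtain ⟨Q, hQ⟩ := (IsPGroup.of_card (n := 9) (by rw [hc0]; norm_num) : IsPGroup 2 S₀).exists_le_sylow
  obtain ⟨T, hT⟩ : ∃ T : Sylow 2 G, (T : Subgroup G) ≤ centralizer ({c.t} : Set G) := by
    set Ht := centralizer ({c.t} : Set G) with hHt
    obtain ⟨P⟩ := (inferInstance : Nonempty (Sylow 2 Ht))
    obtain ⟨k, hk⟩ := P.2.exists_card_eq
    have h10 : 2 ^ 10 ∣ Nat.card (P : Subgroup Ht) :=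
      P.pow_dvd_card_of_pow_dvd_card (by rw [hHt, c.cent_t]; norm_num)
    set P' := (P : Subgroup Ht).map Ht.subtype with hP'
    have hc' : Nat.card P' = Nat.card (P : Subgroup Ht) :=
      (Nat.card_congr ((P : Subgroup Ht).equivMapOfInjective _ Ht.subtype_injective).toEquiv).symm
    refine ⟨(IsPGroup.of_card (n := k) (hc'.trans hk) : IsPGroup 2 P').toSylow ?_, map_subtype_le _⟩
    intro hdvd
    have h1 := P'.card_mul_index
    rw [hc', c.base.card] at h1
    have h2 := h1 ▸ Nat.mul_dvd_mul h10 hdvd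
    norm_num at h2
  obtain ⟨g, hg⟩ := MulAction.exists_smul_eq G Q T
  have hmap : ∀ s ∈ S₀, g * s * g⁻¹ ∈ (T : Subgroup G) := fun s hs => by
    rw [← hg]
    exact Subgroup.smul_mem_pointwise_smul s (MulAut.conj g) _ (hQ hs)
  refine ⟨g, hT (hmap _ hu0), ?_⟩
  rw [← hc0, Nat.card_congr (S₀.equivMapOfInjective (MulAut.conj g).toMonoidHom
    (MulAut.conj g).injective).toEquiv]
  refine card_dvd_of_le ?_
  rintro _ ⟨s, hs, rfl⟩
  refine ⟨hT (hmap s hs), mem_centralizer_singleton_iff.2 ?_⟩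
  have hsu := mem_centralizer_singleton_iff.1 (hS₀le hs)
  show g * s * g⁻¹ * (g * c.u * g⁻¹) = g * c.u * g⁻¹ * (g * s * g⁻¹)
  calc g * s * g⁻¹ * (g * c.u * g⁻¹) = g * (s * c.u) * g⁻¹ := by group
    _ = g * (c.u * s) * g⁻¹ := by rw [hsu]
    _ = _ := by group

/-- The centralisers in `C(t)`. -/
theorem card_cent_in (c : Loc G) (v : centralizer ({c.t} : Set G)) :
    Nat.card (centralizer ({v} : Set (centralizer ({c.t} : Set G)))) =
      Nat.card (centralizer ({c.t} : Set G) ⊓ centralizer ({(v : G)} : Set G) : Subgroup G) :=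
  Nat.card_congr
    { toFun := fun k => ⟨(k.1 : G), k.1.2, mem_centralizer_singleton_iff.2
        (congrArg Subtype.val (mem_centralizer_singleton_iff.1 k.2))⟩
      invFun := fun k => ⟨⟨k.1, k.2.1⟩, mem_centralizer_singleton_iff.2
        (Subtype.ext (mem_centralizer_singleton_iff.1 k.2.2))⟩
      left_inv := fun _ => rfl
      right_inv := fun _ => rfl }

/-- The setting for the centraliser of `t`. -/
theorem nonempty_ct (c : Loc G) : Nonempty (CT (centralizer ({c.t} : Set G))) := by
  classical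
  obtain ⟨g, hgu, hdvd⟩ := c.exists_conj_u
  set H := centralizer ({c.t} : Set G) with hH
  have : Fact (Nat.Prime 7) := ⟨by norm_num⟩
  obtain ⟨x, hx⟩ := exists_prime_orderOf_dvd_card' (G := H) 7 (by rw [hH, c.cent_t]; norm_num)
  set tH : H := ⟨c.t, mem_centralizer_singleton_iff.2 rfl⟩
  set c' := c.conjU g with hc'
  set uH : H := ⟨g * c.u * g⁻¹, hgu⟩
  have htc : ∀ h : H, h * tH = tH * h := fun h => Subtype.ext (mem_centralizer_singleton_iff.1 h.2)
  have htH : orderOf tH = 2 := by rw [← orderOf_coe]; exact c.ht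
  have hxG : orderOf (x : G) = 7 := by rw [orderOf_coe]; exact hx
  have hcx : Nat.card (centralizer ({x} : Set H)) = 14 := by
    have hd : Nat.card (centralizer ({x} : Set H)) ∣ 42 :=
      c.card_cent_in x ▸ c.base.cent_seven _ hxG ▸ card_dvd_of_le inf_le_right
    have h14 : 14 ∣ Nat.card (centralizer ({x} : Set H)) := by
      refine (Nat.Coprime.mul_dvd_of_dvd_of_dvd (show Nat.Coprime 2 7 by norm_num) ?_ ?_)
      · exact htH ▸ orderOf_dvd_natCard _ (mem_centralizer_singleton_iff.2 (htc x).symm)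
      · exact hx ▸ orderOf_dvd_natCard _ (mem_centralizer_singleton_iff.2 rfl)
    have h3 : ¬ 3 ∣ Nat.card (centralizer ({x} : Set H)) := by
      intro h3
      have : Fact (Nat.Prime 3) := ⟨Nat.prime_three⟩
      obtain ⟨⟨w, hwx⟩, hw⟩ := exists_prime_orderOf_dvd_card' 3 h3
      rw [orderOf_mk] at hw
      have hwx' : Commute w x := mem_centralizer_singleton_iff.1 hwx
      have h21 : orderOf (w * x) = 21 := by
        rw [hwx'.orderOf_mul_eq_mul_orderOf_of_coprime (by rw [hw, hx]; norm_num), hw, hx]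
      have h42 : orderOf (((w * x) * tH : H) : G) = 42 := by
        rw [orderOf_coe, (show Commute (w * x) tH from htc (w * x)).orderOf_mul_eq_mul_orderOf_of_coprime
          (by rw [h21, htH]; norm_num), h21, htH]
      have h0 := c.base.cnt_eq 42
      rw [show tblCnt 42 = 0 from rfl, cnt, Nat.card_eq_zero] at h0
      rcases h0 with h0 | h0
      · exact h0.false ⟨_, h42⟩
      · exact not_finite_iff_infinite.2 h0 inferInstance
    generalize Nat.card (centralizer ({x} : Set H)) = n at hd h14 h3 ⊢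
    have h1 := Nat.le_of_dvd (by norm_num) hd
    interval_cases n <;> first | omega | (norm_num at hd) | (norm_num at h14) | (norm_num at h3)
  have huc : ∀ {K : Subgroup H}, K ≤ centralizer ({uH} : Set H) →
      K.map H.subtype ≤ centralizer ({c'.u} : Set G) := fun hK => by
    rintro _ ⟨k, hk, rfl⟩
    exact mem_centralizer_singleton_iff.2 (congrArg Subtype.val (mem_centralizer_singleton_iff.1 (hK hk)))
  have hcard : ∀ K : Subgroup H, Nat.card (K.map H.subtype) = Nat.card K := fun K =>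
    (Nat.card_congr (K.equivMapOfInjective _ H.subtype_injective).toEquiv).symm
  have hu7680 : Nat.card (centralizer ({(uH : G)} : Set G)) = 7680 := c'.cent_u
  refine ⟨{
    t := tH, u := uH, x := x
    card := by rw [hH, c.cent_t]
    ht := htH
    hu := by rw [← orderOf_coe]; exact c'.hu
    hx := hx
    htc := htc
    hut := fun e => by
      have e' : (uH : G) = c.t := congrArg Subtype.val e
      have := hu7680
      rw [e', ← hH, hH, c.cent_t] at this
      omega
    cent_x := hcx
    cent_u := by rw [c.card_cent_in uH]; exact hdvd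
    cent_u' := fun h => by
      rw [c.card_cent_in uH] at h
      have h' := hu7680 ▸ h.trans (card_dvd_of_le inf_le_right)
      norm_num at h'
    not_ab := fun A hA hAc hab => by
      refine c'.not_abelian_u (huc hA) ((hcard A).trans hAc) ⟨⟨?_⟩⟩
      rintro ⟨_, a, ha, rfl⟩ ⟨_, b, hb, rfl⟩
      exact Subtype.ext (congrArg (fun k : A => ((k : H) : G)) (hab.is_comm.comm ⟨a, ha⟩ ⟨b, hb⟩))
    no_sixteen := ?_ }⟩
  intro S A z hS hSu hAS hA hsq hu hz hz1 hzu hcomm hX hX'
  have hinf : S.map H.subtype ⊓ centralizer ((A.map H.subtype : Subgroup G) : Set G) =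
      (S ⊓ centralizer (A : Set H)).map H.subtype := by
    ext y
    constructor
    · rintro ⟨⟨s, hs, rfl⟩, hy⟩
      exact ⟨s, ⟨hs, fun a ha => Subtype.ext (hy (a : G) ⟨a, ha, rfl⟩)⟩, rfl⟩
    · rintro ⟨s, ⟨hs, hsA⟩, rfl⟩
      refine ⟨⟨s, hs, rfl⟩, ?_⟩
      rintro _ ⟨a, ha, rfl⟩
      exact congrArg Subtype.val (hsA a ha)
  refine c'.no_sixteen (S := S.map H.subtype) (A := A.map H.subtype) (z := (z : G))
    ((hcard S).trans hS) (huc hSu) (map_mono hAS) ((hcard A).trans hA) ?_ ⟨uH, hu, rfl⟩ ⟨z, hz, rfl⟩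
    (fun e => hz1 (Subtype.ext e)) (fun e => hzu (Subtype.ext e)) ?_ ?_ ?_
  · rintro _ ⟨a, ha, rfl⟩
    exact congrArg Subtype.val (hsq a ha)
  · rintro _ ⟨s, hs, rfl⟩ _ ⟨a, ha, rfl⟩
    exact (hcomm s hs a ha).imp (fun e => congrArg Subtype.val e) fun e => congrArg Subtype.val e
  · rw [hinf, hcard, hX]
  · rw [hinf, ← map_commutator, hcard]
    exact hX'

end Loc

end CfsgLib.ClassK.M24Nse
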