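import Cfsg.Agent.Lib.ClassK.SmallSimple
import Cfsg.Agent.Lib.Classical.ExcIsoSeven

/-!
A simple group of order 168 is `SL₃(2)`.
-/

set_option autoImplicit false

namespace CfsgLib.ClassK.M24Nse

universe u

theorem nonempty_equiv_sl_three {X : Type u} [Group X] [Finite X] [IsSimpleGroup X]
    (h : Nat.card X = 168) : Nonempty (X ≃* Matrix.SpecialLinearGroup (Fin 3) (ZMod 2)) := by
  have : Fact (Nat.Prime 7) := ⟨by norm_num⟩
  have : Fact (Nat.Prime 2) := ⟨Nat.prime_two⟩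
  haveI := CfsgLib.ClassK.isSimpleGroup_psl_two (F := ZMod 7) (by simp)
  have h7 : Nat.card (Matrix.ProjectiveSpecialLinearGroup (Fin 2) (ZMod 7)) = 168 :=
    CfsgLib.Classical.card_psl_two_eq (ZMod.card 7) 168 (by norm_num)
  obtain ⟨e₁⟩ := CfsgLib.ClassK.nonempty_equiv_168 h h7
  obtain ⟨e₂⟩ := CfsgLib.Classical.psl_two_seven_equiv
  have hbot : Subgroup.center (Matrix.SpecialLinearGroup (Fin 3) (ZMod 2)) = ⊥ :=
    Subgroup.eq_bot_of_card_eq _
      (by rw [CfsgLib.Classical.card_center_sl, ZMod.card, Fintype.card_fin]; rfl)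
  exact ⟨(e₁.trans e₂).trans ((QuotientGroup.quotientMulEquivOfEq hbot).trans QuotientGroup.quotientBot)⟩

end CfsgLib.ClassK.M24Nse
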