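import Cfsg.Agent.Lib.ClassK.M24Nse.CentTMain
import Cfsg.Agent.Lib.ClassK.M24Nse.CentTBuild
import Cfsg.Agent.Lib.ClassK.M24Nse.CentTQuotIso

/-!
The centralizer of the central involution has the shape `2^(1+6).L₃(2)`.
-/

set_option autoImplicit false

namespace CfsgLib.ClassK.M24Nse

open Subgroup

universe u

namespace Loc

variable {G : Type u} [Group G] [Finite G]

theorem exists_extraspecial (c : Loc G) :
    ∃ (Q : Subgroup (centralizer ({c.t} : Set G))) (_ : Q.Normal),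
      Cfsg.IsExtraspecial 2 Q ∧ Nat.card Q = 2 ^ 7 ∧
      centralizer (Q : Set (centralizer ({c.t} : Set G))) ≤ Q ∧
      Nonempty ((centralizer ({c.t} : Set G)) ⧸ Q ≃* Matrix.SpecialLinearGroup (Fin 3) (ZMod 2)) := by
  obtain ⟨d⟩ := c.nonempty_ct
  obtain ⟨h1, h2, h3, hs, hq⟩ := d.main
  exact ⟨d.R, d.R_normal, h1, by rw [h2]; norm_num, h3, nonempty_equiv_sl_three hq⟩

end Loc

end CfsgLib.ClassK.M24Nse
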