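import Cfsg.Agent.Lib.ClassK.M24Nse.CentTBig

/-!
Small counting facts for the radical of order 128.
-/

set_option autoImplicit false
set_option linter.unusedSectionVars false

namespace CfsgLib.ClassK.M24Nse

open Subgroup
open scoped commutatorElement

universe u

variable {H : Type u} [Group H] [Finite H]

theorem two_mul_card_le {K L : Subgroup H} (h : K ≤ L) {v : H} (hv : v ∈ L) (hv' : v ∉ K) :
    2 * Nat.card K ≤ Nat.card L := by
  obtain ⟨j, hj⟩ := card_dvd_of_le h
  have hlt : Nat.card K < Nat.card L :=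
    lt_of_le_of_ne (card_le_of_le h) fun e => hv' ((eq_of_le_of_card_ge h e.ge).ge hv)
  rcases j with _ | _ | j <;> nlinarith

/-- Fixed points in a coset of an invariant subgroup. -/
theorem exists_fixed_coset {p : ℕ} [Fact p.Prime] {y : H} (hy : y ^ p = 1) {N : Subgroup H}
    (hN : y ∈ normalizer (N : Set H)) (hn : ¬ p ∣ Nat.card N) {r : H} (hr : y * r * y⁻¹ * r⁻¹ ∈ N) :
    ∃ n ∈ N, y * (n * r) * y⁻¹ = n * r := by
  let φ : Equiv.Perm N :=
    { toFun := fun n => ⟨y * n.1 * y⁻¹ * (y * r * y⁻¹ * r⁻¹),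
        mul_mem ((mem_normalizer_iff.1 hN n.1).1 n.2) hr⟩
      invFun := fun n => ⟨y⁻¹ * (n.1 * (y * r * y⁻¹ * r⁻¹)⁻¹) * y,
        (mem_normalizer_iff''.1 hN _).1 (mul_mem n.2 (inv_mem hr))⟩
      left_inv := fun n => Subtype.ext (by simp [mul_assoc])
      right_inv := fun n => Subtype.ext (by simp [mul_assoc]) }
  have hpow : ∀ (k : ℕ) (n : N), (((φ ^ k) n : N) : H) * r = y ^ k * (n * r) * (y ^ k)⁻¹ := by
    intro k
    induction k with
    | zero => intro n; simp
    | succ k ih =>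
      intro n
      rw [pow_succ', Equiv.Perm.mul_apply, pow_succ']
      show y * ((φ ^ k) n : H) * y⁻¹ * (y * r * y⁻¹ * r⁻¹) * r = _
      rw [show y * ((φ ^ k) n : H) * y⁻¹ * (y * r * y⁻¹ * r⁻¹) * r = y * (((φ ^ k) n : H) * r) * y⁻¹ by
        simp [mul_assoc], ih n]
      simp [mul_assoc]
  have h := CfsgLib.StructB.card_fixed_modEq φ (q := p) (k := 1) (Equiv.ext fun n => Subtype.ext
    (mul_right_cancel (b := r) (by rw [pow_one, hpow p n, hy]; simp)))
  have hne : Nat.card {a // φ a = a} ≠ 0 := fun h0 => hn (by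
    rw [h0] at h
    exact Nat.modEq_zero_iff_dvd.1 h.symm)
  obtain ⟨⟨⟨n, hn'⟩, hfix⟩⟩ := (Nat.card_ne_zero.1 hne).1
  refine ⟨n, hn', ?_⟩
  have h1 : y * n * y⁻¹ * (y * r * y⁻¹ * r⁻¹) = n := congrArg Subtype.val hfix
  calc y * (n * r) * y⁻¹ = y * n * y⁻¹ * (y * r * y⁻¹ * r⁻¹) * r := by simp [mul_assoc]
    _ = n * r := by rw [h1]

/-- A subgroup generated by `N` and two involutions modulo `N` which commute modulo `N`. -/
theorem card_gen_two {N : Subgroup H} [N.Normal] {a b : H} (ha : a * a ∈ N) (hb : b * b ∈ N)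
    (hab : ⁅a, b⁆ ∈ N) : Nat.card (closure ((N : Set H) ∪ {a, b})) ≤ 4 * Nat.card N := by
  classical
  let f := QuotientGroup.mk' N
  set W := closure ((N : Set H) ∪ {a, b}) with hW
  have h1 : ∀ w : H, w ∈ N → f w = 1 := fun w hw => (QuotientGroup.eq_one_iff w).2 hw
  have hA : f a * f a = 1 := by rw [← map_mul]; exact h1 _ ha
  have hB : f b * f b = 1 := by rw [← map_mul]; exact h1 _ hb
  have hAB : f a * f b = f b * f a := by
    rw [← commutatorElement_eq_one_iff_mul_comm, ← map_commutatorElement]; exact h1 _ hab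
  have hA' : ∀ w, f a * (f a * w) = w := fun w => by rw [← mul_assoc, hA, one_mul]
  have hB' : ∀ w, f b * (f b * w) = w := fun w => by rw [← mul_assoc, hB, one_mul]
  have hAB' : ∀ w, f b * (f a * w) = f a * (f b * w) := fun w => by rw [← mul_assoc, ← hAB, mul_assoc]
  let V : Subgroup (H ⧸ N) :=
    { carrier := ({1, f a, f b, f a * f b} : Finset (H ⧸ N))
      one_mem' := by simp
      mul_mem' := by
        intro v w hv hw
        simp only [Finset.mem_coe, Finset.mem_insert, Finset.mem_singleton] at hv hw ⊢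
        rcases hv with rfl | rfl | rfl | rfl <;> rcases hw with rfl | rfl | rfl | rfl <;>
          simp [mul_assoc, hA, hB, hA', hB', hAB', ← hAB]
      inv_mem' := by
        intro v hv
        simp only [Finset.mem_coe, Finset.mem_insert, Finset.mem_singleton] at hv ⊢
        have e1 : (f a)⁻¹ = f a := inv_eq_of_mul_eq_one_left hA
        have e2 : (f b)⁻¹ = f b := inv_eq_of_mul_eq_one_left hB
        rcases hv with rfl | rfl | rfl | rfl <;> simp [mul_inv_rev, e1, e2, ← hAB] }
  have hle : W.map f ≤ V := by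
    rw [hW, MonoidHom.map_closure, closure_le]
    rintro _ ⟨w, (hw | rfl | rfl), rfl⟩
    · rw [h1 w hw]; exact one_mem V
    · show f w ∈ (({1, f w, f b, f w * f b} : Finset (H ⧸ N)) : Set (H ⧸ N)); simp
    · show f w ∈ (({1, f a, f w, f a * f w} : Finset (H ⧸ N)) : Set (H ⧸ N)); simp
  have h4 : Nat.card V ≤ 4 := by
    show Nat.card ↥(({1, f a, f b, f a * f b} : Finset (H ⧸ N)) : Set (H ⧸ N)) ≤ 4
    rw [Nat.card_coe_set_eq, Set.ncard_coe_finset]
    exact Finset.card_le_four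
  have h2 := card_map_mk_mul W N
  rw [show W ⊓ N = N from inf_eq_right.2 fun w hw => subset_closure (Or.inl hw)] at h2
  rw [← h2]
  exact Nat.mul_le_mul_right _ ((card_le_of_le hle).trans h4)

/-- Three commuting involutions generate at most eight elements. -/
theorem card_gen_three {p q r : H} (hp : p * p = 1) (hq : q * q = 1) (hr : r * r = 1)
    (hpq : q * p = p * q) (hpr : r * p = p * r) (hqr : r * q = q * r) :
    Nat.card (closure ({p, q, r} : Set H)) ≤ 8 := by
  classical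
  let f : Bool × Bool × Bool → H := fun i =>
    (bif i.1 then p else 1) * ((bif i.2.1 then q else 1) * (bif i.2.2 then r else 1))
  have hp' : ∀ w, p * (p * w) = w := fun w => by rw [← mul_assoc, hp, one_mul]
  have hq' : ∀ w, q * (q * w) = w := fun w => by rw [← mul_assoc, hq, one_mul]
  have hpq' : ∀ w, q * (p * w) = p * (q * w) := fun w => by rw [← mul_assoc, hpq, mul_assoc]
  have hpr' : ∀ w, r * (p * w) = p * (r * w) := fun w => by rw [← mul_assoc, hpr, mul_assoc]
  have hqr' : ∀ w, r * (q * w) = q * (r * w) := fun w => by rw [← mul_assoc, hqr, mul_assoc]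
  have hmul : ∀ i j, f i * f j = f (xor i.1 j.1, xor i.2.1 j.2.1, xor i.2.2 j.2.2) := by
    rintro ⟨i1, i2, i3⟩ ⟨j1, j2, j3⟩
    cases i1 <;> cases i2 <;> cases i3 <;> cases j1 <;> cases j2 <;> cases j3 <;>
      simp [f, mul_assoc, hp, hq, hr, hp', hq', hpq, hpr, hqr, hpq', hpr', hqr']
  let V : Subgroup H :=
    { carrier := Set.range f
      one_mem' := ⟨(false, false, false), by simp [f]⟩
      mul_mem' := by rintro _ _ ⟨i, rfl⟩ ⟨j, rfl⟩; exact ⟨_, (hmul i j).symm⟩
      inv_mem' := by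
        rintro _ ⟨i, rfl⟩
        exact ⟨i, (inv_eq_of_mul_eq_one_left (by rw [hmul]; simp [f])).symm⟩ }
  have hle : closure ({p, q, r} : Set H) ≤ V := by
    rw [closure_le]
    rintro w (rfl | rfl | rfl)
    · exact ⟨(true, false, false), by simp [f]⟩
    · exact ⟨(false, true, false), by simp [f]⟩
    · exact ⟨(false, false, true), by simp [f]⟩
  refine (card_le_of_le hle).trans ?_
  refine (Nat.card_le_card_of_surjective (fun i => (⟨f i, i, rfl⟩ : V)) ?_).trans (by simp)
  rintro ⟨w, i, rfl⟩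
  exact ⟨i, rfl⟩

namespace CT

variable (c : CT H)

theorem x_mem_of_seven_dvd {N : Subgroup H} (hN : N.Normal) (h7 : 7 ∣ Nat.card N) : c.x ∈ N := by
  have : Fact (7 : ℕ).Prime := ⟨by norm_num⟩
  obtain ⟨y, hy⟩ := exists_prime_orderOf_dvd_card' 7 h7
  have hyc : Nat.card (zpowers (y : H)) = 7 := by rw [Nat.card_zpowers, orderOf_coe, hy]
  obtain ⟨P, hP⟩ := (IsPGroup.of_card (p := 7) (n := 1) (by rw [c.card_zx, pow_one])).exists_le_sylow
  obtain ⟨Q, hQ⟩ := (IsPGroup.of_card (p := 7) (n := 1) (by rw [hyc, pow_one])).exists_le_sylow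
  have hQc : Nat.card (Q : Subgroup H) = 7 := by
    rw [Q.card_eq_multiplicity, c.card, show (21504 : ℕ) = 7 * 3072 by norm_num,
      Nat.factorization_mul (by norm_num) (by norm_num), Finsupp.add_apply,
      (by norm_num : (7 : ℕ).Prime).factorization_self, Nat.factorization_eq_zero_of_not_dvd (by norm_num)]
    norm_num
  have hQe := eq_of_le_of_card_ge hQ (by rw [hyc, hQc])
  obtain ⟨g, hg⟩ := MulAction.exists_smul_eq H Q P
  have h' := hP (mem_zpowers c.x)
  rw [← hg, Sylow.coe_subgroup_smul, Subgroup.mem_pointwise_smul_iff_inv_smul_mem, ← hQe] at h'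
  simpa [MulAut.smul_def, mul_assoc] using hN.conj_mem _ (zpowers_le.2 y.2 h') g

theorem x_mem_of_not_le [IsSimpleGroup (H ⧸ c.R)] (hq : Nat.card (H ⧸ c.R) = 168) {N : Subgroup H}
    (hN : N.Normal) (h : ¬ N ≤ c.R) : c.x ∈ N := by
  rcases IsSimpleGroup.eq_bot_or_eq_top_of_normal (N.map (QuotientGroup.mk' c.R))
      (Normal.map hN _ (QuotientGroup.mk'_surjective _)) with hb | ht
  · exact absurd (fun y hy => (QuotientGroup.eq_one_iff y).1
      (mem_bot.1 (hb ▸ mem_map_of_mem _ hy))) h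
  · refine c.x_mem_of_seven_dvd hN ?_
    rw [← card_map_mk_mul N c.R, ht, card_top, hq]
    exact Dvd.dvd.mul_right (by norm_num) _

/-- The elements centralising `R` modulo `N`. -/
def modCent (c : CT H) (N : Subgroup H) [hN : N.Normal] : Subgroup H where
  carrier := {h | ∀ r ∈ c.R, ⁅h, r⁆ ∈ N}
  one_mem' := fun r _ => by simp
  mul_mem' := fun {a b} ha hb r hr => by
    rw [show ⁅a * b, r⁆ = a * ⁅b, r⁆ * a⁻¹ * ⁅a, r⁆ by simp [commutatorElement_def, mul_assoc]]
    exact mul_mem (hN.conj_mem _ (hb r hr) a) (ha r hr)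
  inv_mem' := fun {a} ha r hr => by
    rw [show ⁅a⁻¹, r⁆ = a⁻¹ * ⁅a, r⁆⁻¹ * a⁻¹⁻¹ by simp [commutatorElement_def, mul_assoc]]
    exact hN.conj_mem _ (inv_mem (ha r hr)) _

instance modCent_normal (N : Subgroup H) [hN : N.Normal] : (c.modCent N).Normal :=
  ⟨fun h hh g r hr => by
    rw [show ⁅g * h * g⁻¹, r⁆ = g * ⁅h, g⁻¹ * r * g⁆ * g⁻¹ by simp [commutatorElement_def, mul_assoc]]
    exact hN.conj_mem _ (hh _ (by simpa using c.R_normal.conj_mem r hr g⁻¹)) g⟩

/-- `x` moves `R` modulo a proper subgroup, so only `R` centralises it modulo that subgroup. -/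
theorem modCent_le [IsSimpleGroup (H ⧸ c.R)] (hq : Nat.card (H ⧸ c.R) = 168) (N : Subgroup H) [N.Normal]
    (ht : c.t ∈ N) (hNR : N ≤ c.R) (hne : N ≠ c.R) : c.modCent N ≤ c.R := by
  by_contra hle
  have hx := c.x_mem_of_not_le hq (c.modCent_normal N) hle
  refine hne (le_antisymm hNR fun r hr => ?_)
  have : Fact (7 : ℕ).Prime := ⟨by norm_num⟩
  obtain ⟨k, -, hk⟩ := c.card_two (c.isPGroup_R.to_le hNR)
  obtain ⟨n, hn, hfix⟩ := exists_fixed_coset (p := 7) (c.hx ▸ pow_orderOf_eq_one c.x)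
    (c.x_mem_normalizer N) (fun h => by
      rw [hk] at h
      have := (Nat.prime_dvd_prime_iff_eq (by norm_num) Nat.prime_two).1
        ((by norm_num : (7 : ℕ).Prime).dvd_of_dvd_pow h)
      omega) (r := r) (hx r hr)
  have hmem : n * r ∈ N := by
    rcases c.mem_zt_of_commute c.isPGroup_R (mul_mem (hNR hn) hr)
      (mul_inv_eq_iff_eq_mul.1 hfix).symm with h | h <;> rw [h]
    · exact one_mem _
    · exact ht
  exact (N.mul_mem_cancel_left hn).1 hmem

theorem no_abelian_ge {A : Subgroup H} (hA : IsPGroup 2 A) (hu : A ≤ centralizer ({c.u} : Set H))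
    (hab : IsMulCommutative A) (h : 128 ≤ Nat.card A) : False := by
  have : Fact (2 : ℕ).Prime := ⟨Nat.prime_two⟩
  obtain ⟨n, -, hn⟩ := c.card_two hA
  have h7 : 7 ≤ n := by
    by_contra hlt
    have := Nat.pow_le_pow_right (show 2 > 0 by norm_num) (show n ≤ 6 by omega)
    omega
  obtain ⟨B, hB⟩ := Sylow.exists_subgroup_card_pow_prime 2 (G := A) (n := 7) (hn ▸ pow_dvd_pow 2 h7)
  refine c.not_ab (B.map A.subtype) ((map_subtype_le B).trans hu)
    (by rw [card_map_of_injective A.subtype_injective, hB]; norm_num) ?_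
  refine isMulCommutative_of_comm ?_
  rintro _ ⟨a, -, rfl⟩ _ ⟨b, -, rfl⟩
  exact comm_of_isMulCommutative hab a.2 b.2

end CT

end CfsgLib.ClassK.M24Nse
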