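import Cfsg.Agent.Lib.ClassK.M24Nse.CentTFrame

/-!
The Sylow 2-subgroup of the centralizer is not normal.
-/

set_option autoImplicit false
set_option linter.unusedSectionVars false

namespace CfsgLib.ClassK.M24Nse

open Subgroup
open scoped commutatorElement

universe u

theorem sq_ne_32 (m : ℕ) : m * m ≠ 32 := fun h => by
  have : m ≤ 5 := by nlinarith
  interval_cases m <;> omega

theorem sq_ne_2048 (m : ℕ) : m * m ≠ 2048 := fun h => by
  have : m ≤ 45 := by nlinarith
  interval_cases m <;> omega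

theorem eq_of_sq_16384 (m : ℕ) (h : m * m = 16384) : m = 128 :=
  Nat.mul_self_inj.1 (h.trans (by norm_num))

namespace CT

variable {H : Type u} [Group H] [Finite H] (c : CT H)

/-- The center of a subgroup, inside the whole group. -/
def cen (P : Subgroup H) : Subgroup H := P ⊓ centralizer (P : Set H)

theorem comm_of_mem_cen {P : Subgroup H} {a b : H} (ha : a ∈ cen P) (hb : b ∈ P) : b * a = a * b :=
  mem_centralizer_iff.1 ha.2 b hb

theorem isMulCommutative_of_cen {P : Subgroup H} (h : Nat.card (cen P) = Nat.card P) :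
    IsMulCommutative P :=
  isMulCommutative_of_comm fun a ha b hb =>
    comm_of_mem_cen ((eq_of_le_of_card_ge (inf_le_left : cen P ≤ P) h.ge).ge hb) ha

theorem cen_cases {P : Subgroup H} (hP : IsPGroup 2 P) (hPi : c.Inv P) (htP : c.t ∈ P) :
    Nat.card (cen P) = 2 ∨ Nat.card (cen P) = 16 ∨ Nat.card (cen P) = 128 ∨ Nat.card (cen P) = 1024 :=
  c.card_invariant (hP.to_le inf_le_left) (hPi.inf hPi.cent)
    ⟨htP, mem_centralizer_iff.2 fun a _ => c.htc a⟩

theorem card_cen_le (P : Subgroup H) : Nat.card (cen P) ≤ Nat.card P := card_le_of_le inf_le_left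

/-- Parity for an invariant subgroup with commutators in `⟨t⟩`. -/
theorem parity {P : Subgroup H} (htP : c.t ∈ P) (hder : ∀ a ∈ P, ∀ b ∈ P, ⁅a, b⁆ ∈ zpowers c.t)
    {a0 : H} (ha0 : a0 ∈ P) :
    ∃ B : Subgroup H, B ≤ P ∧ IsMulCommutative B ∧ a0 ∈ B ∧
      Nat.card B * Nat.card B = Nat.card P * Nat.card (cen P) :=
  exists_abelian_sq_sub c.ht htP (fun a _ => c.htc a) hder ha0

theorem comm_closure {P : Subgroup H} {s : Set H}
    (hs : ∀ p ∈ P, ∀ a ∈ s, ⁅p, a⁆ ∈ zpowers c.t) :
    ∀ p ∈ P, ∀ a ∈ closure s, ⁅p, a⁆ ∈ zpowers c.t := by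
  intro p hp a ha
  induction ha using closure_induction with
  | mem a ha => exact hs p hp a ha
  | one => simp
  | mul a b _ _ iha ihb =>
    rw [show ⁅p, a * b⁆ = ⁅p, a⁆ * (a * ⁅p, b⁆ * a⁻¹) by simp [commutatorElement_def, mul_assoc]]
    exact mul_mem iha (c.zt_normal.conj_mem _ ihb a)
  | inv a _ iha =>
    rw [show ⁅p, a⁻¹⁆ = a⁻¹ * ⁅p, a⁆⁻¹ * a⁻¹⁻¹ by simp [commutatorElement_def, mul_assoc]]
    exact c.zt_normal.conj_mem _ (inv_mem iha) a⁻¹

theorem comm_zt_symm {a b : H} (h : ⁅a, b⁆ ∈ zpowers c.t) : ⁅b, a⁆ ∈ zpowers c.t := by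
  rw [← commutatorElement_inv]
  exact inv_mem h

theorem le_cent_u {A : Subgroup H} (hab : IsMulCommutative A) (hu : c.u ∈ A) :
    A ≤ centralizer ({c.u} : Set H) := fun _ ha =>
  mem_centralizer_singleton_iff.2 (comm_of_isMulCommutative hab ha hu)

theorem not_1024 {A : Subgroup H} (hA : A ≤ centralizer ({c.u} : Set H)) : Nat.card A ≠ 1024 :=
  fun h => c.cent_u' (h ▸ card_dvd_of_le hA)

theorem conj_pow_eq {k : ℕ} (hk0 : k % 7 ≠ 0) {V : Subgroup H} (hV : IsPGroup 2 V) {v : H} (hv : v ∈ V)
    (h : c.x ^ k * v * (c.x ^ k)⁻¹ = v) : v = 1 ∨ v = c.t := by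
  obtain ⟨m, hm⟩ : ∃ m, (c.x ^ k) ^ m = c.x := by
    refine ⟨[0, 1, 4, 5, 2, 3, 6].getD (k % 7) 0, ?_⟩
    rw [← pow_mul, ← pow_mod_orderOf, c.hx, Nat.mul_mod]
    have := Nat.mod_lt k (show 7 > 0 by norm_num)
    interval_cases k % 7 <;> first | omega |
      (simp only [List.getD_cons_succ, List.getD_cons_zero]; norm_num)
  have hcm : Commute (c.x ^ k) v := mul_inv_eq_iff_eq_mul.1 h
  have h3 := hcm.pow_left m
  rw [hm] at h3
  exact c.mem_zt_of_commute hV hv h3.eq.symm

/-- The conjugates `x^i u x^-i`. -/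
def U : Set H := Set.range fun i : ℕ => c.x ^ i * c.u * (c.x ^ i)⁻¹

theorem u_mem_U : c.u ∈ c.U := ⟨0, by simp⟩

theorem U_conj {v : H} (h : v ∈ c.U) : c.x * v * c.x⁻¹ ∈ c.U := by
  obtain ⟨i, rfl⟩ := h
  exact ⟨i + 1, by simp [pow_succ', mul_assoc]⟩

/-- The Sylow 2-subgroup is not normal. -/
theorem false_of_big (h : Nat.card c.R = 1024) : False := by
  classical
  obtain ⟨F⟩ := c.nonempty_frame
  have hTR : F.T = c.R := (eq_of_le_of_card_ge F.hR (by rw [h, F.cardT])).symm
  have hTn : F.T.Normal := hTR ▸ c.R_normal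
  have hTi : c.Inv F.T := c.inv_of_normal _
  have hTp := F.hT
  have hconjT : ∀ (y : H) {a : H}, a ∈ F.T → y⁻¹ * a * y ∈ F.T := fun y a ha => by
    simpa using hTn.conj_mem a ha y⁻¹
  have hui : ∀ i : ℕ, c.x ^ i * c.u * (c.x ^ i)⁻¹ ∈ F.T := fun i =>
    hTn.conj_mem _ (F.hST F.uS) _
  have hcomm : ∀ (i : ℕ) (a : H), a ∈ F.T → ⁅a, c.x ^ i * c.u * (c.x ^ i)⁻¹⁆ = 1 ∨
      ⁅a, c.x ^ i * c.u * (c.x ^ i)⁻¹⁆ = c.x ^ i * F.z * (c.x ^ i)⁻¹ := fun i a ha => by
    have h1 : ⁅a, c.x ^ i * c.u * (c.x ^ i)⁻¹⁆ =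
        c.x ^ i * ⁅(c.x ^ i)⁻¹ * a * c.x ^ i, c.u⁆ * (c.x ^ i)⁻¹ := by
      simp [commutatorElement_def, mul_assoc]
    rw [h1]
    rcases F.comm_u (hconjT (c.x ^ i) ha) with h | h <;> rw [h]
    · exact Or.inl (by simp)
    · exact Or.inr rfl
  have hZi : c.Inv (cen F.T) := hTi.inf hTi.cent
  have htZ : c.t ∈ cen F.T := ⟨F.t_mem_T, mem_centralizer_iff.2 fun a _ => c.htc a⟩
  have hzZ : F.z ∈ cen F.T := ⟨F.z_mem_T, mem_centralizer_iff.2 fun a ha => F.z_central ha⟩
  have huZ : c.u ∉ cen F.T := fun hu => F.hgS (F.mem_S _ F.hg (comm_of_mem_cen hu F.hg))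
  have huzt : c.u ∉ zpowers c.t := fun hu => by
    rcases c.mem_zt.1 hu with h | h
    · exact c.u_ne h
    · exact c.hut h
  have hU_T : c.U ⊆ (F.T : Set H) := by rintro _ ⟨i, rfl⟩; exact hui i
  -- first, `z = t`
  have hzt : F.z = c.t := by
    by_contra hzne
    have hcm : ∀ i j : ℕ, ⁅c.x ^ i * c.u * (c.x ^ i)⁻¹, c.x ^ j * c.u * (c.x ^ j)⁻¹⁆ = 1 := by
      intro i j
      by_contra hne
      have h1 := (hcomm j _ (hui i)).resolve_left hne
      have hne' : ⁅c.x ^ j * c.u * (c.x ^ j)⁻¹, c.x ^ i * c.u * (c.x ^ i)⁻¹⁆ ≠ 1 := fun h => hne (by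
        rw [← commutatorElement_inv, h, inv_one])
      have h2 := (hcomm i _ (hui j)).resolve_left hne'
      have hzi : c.x ^ j * F.z * (c.x ^ j)⁻¹ = c.x ^ i * F.z * (c.x ^ i)⁻¹ := by
        rw [← h1, ← commutatorElement_inv, h2]
        refine inv_eq_of_mul_eq_one_left ?_
        calc c.x ^ i * F.z * (c.x ^ i)⁻¹ * (c.x ^ i * F.z * (c.x ^ i)⁻¹)
            = c.x ^ i * (F.z * F.z) * (c.x ^ i)⁻¹ := by simp [mul_assoc]
          _ = 1 := by rw [F.z_sq]; simp
      have key : ∀ a b : ℕ, a ≤ b → c.x ^ a * F.z * (c.x ^ a)⁻¹ = c.x ^ b * F.z * (c.x ^ b)⁻¹ →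
          c.x ^ a = c.x ^ b := by
        intro a b hab he
        obtain ⟨d, rfl⟩ := Nat.exists_eq_add_of_le hab
        by_cases hd : d % 7 = 0
        · rw [pow_add, ← pow_mod_orderOf c.x d, c.hx, hd, pow_zero, mul_one]
        · exfalso
          have : c.x ^ d * F.z * (c.x ^ d)⁻¹ = F.z := by
            have h' := congrArg (fun w => (c.x ^ a)⁻¹ * w * c.x ^ a) he
            simp [pow_add, mul_assoc] at h'
            simp only [← mul_assoc] at h'
            exact h'.symm
          rcases c.conj_pow_eq hd hTp F.z_mem_T this with h | h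
          · exact F.z_ne h
          · exact hzne h
      have hij : c.x ^ i = c.x ^ j := by
        rcases le_total i j with hle | hle
        · exact key i j hle hzi.symm
        · exact (key j i hle hzi).symm
      exact hne (by rw [hij, commutatorElement_self])
    set B := closure (c.U ∪ (cen F.T : Set H)) with hB
    have hBT : B ≤ F.T := (closure_le _).2 (Set.union_subset hU_T fun a ha => ha.1)
    have hBab : IsMulCommutative B := by
      refine isMulCommutative_closure ?_
      rintro a (⟨i, rfl⟩ | ha) b (⟨j, rfl⟩ | hb)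
      · exact commutatorElement_eq_one_iff_mul_comm.1 (hcm i j)
      · exact comm_of_mem_cen hb (hui i)
      · exact (comm_of_mem_cen ha (hui j)).symm
      · exact (comm_of_mem_cen ha hb.1).symm
    have hBi : c.Inv B := c.inv_closure fun v hv => subset_closure (hv.imp c.U_conj hZi.conj)
    have hZB : cen F.T ≤ B := fun a ha => subset_closure (Or.inr ha)
    have huB : c.u ∈ B := subset_closure (Or.inl c.u_mem_U)
    have hBu := c.le_cent_u hBab huB
    have hZ2 := c.two_lt_card htZ hzZ (fun h => by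
      rcases c.mem_zt.1 h with h | h
      · exact F.z_ne h
      · exact hzne h)
    have hle := card_le_of_le hZB
    rcases c.card_invariant (hTp.to_le hBT) hBi (hZB htZ) with h' | h' | h' | h'
    · omega
    · refine huZ ((eq_of_le_of_card_ge hZB ?_).ge huB)
      rcases c.cen_cases hTp hTi F.t_mem_T with e | e | e | e <;> omega
    · exact c.not_ab B hBu h' hBab
    · exact c.not_1024 hBu h'
  -- the subgroup generated by the conjugates of `u`
  set A := closure (c.U ∪ {c.t}) with hA
  have hAT : A ≤ F.T := (closure_le _).2 (Set.union_subset hU_T (Set.singleton_subset_iff.2 F.t_mem_T))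
  have htA : c.t ∈ A := subset_closure (Or.inr rfl)
  have huA : c.u ∈ A := subset_closure (Or.inl c.u_mem_U)
  have hpair : ∀ p ∈ F.T, ∀ a ∈ A, ⁅p, a⁆ ∈ zpowers c.t := by
    refine c.comm_closure ?_
    rintro p hp a (⟨i, rfl⟩ | rfl)
    · rcases hcomm i p hp with e | e <;> rw [e]
      · exact one_mem _
      · rw [hzt, c.htc, mul_inv_cancel_right]; exact mem_zpowers _
    · rw [commutatorElement_eq_one_iff_mul_comm.2 (c.htc p)]; exact one_mem _
  have hzA : zpowers c.t ≤ A := zpowers_le.2 htA
  have hTA : F.T ≤ normalizer (A : Set H) := by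
    have hone : ∀ p ∈ F.T, ∀ a ∈ A, p * a * p⁻¹ ∈ A := fun p hp a ha => by
      rw [show p * a * p⁻¹ = ⁅p, a⁆ * a by simp [commutatorElement_def]]
      exact mul_mem (hzA (hpair p hp a ha)) ha
    intro p hp
    refine mem_normalizer_iff.2 fun a => ⟨hone p hp a, fun hb => ?_⟩
    simpa [mul_assoc] using hone p⁻¹ (inv_mem hp) _ hb
  have hAi : c.Inv A := c.inv_closure fun v hv => by
    rcases hv with hv | rfl
    · exact subset_closure (Or.inl (c.U_conj hv))
    · rw [c.htc, mul_inv_cancel_right]; exact htA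
  have hidx := pair_index c.card_zt c.zt_le_center hAT hTA hpair
  have huA' : 2 < Nat.card A := c.two_lt_card htA huA huzt
  have hAp := hTp.to_le hAT
  rcases c.cen_cases hTp hTi F.t_mem_T with hZ | hZ | hZ | hZ
  · -- trivial center
    have hZt : cen F.T = zpowers c.t :=
      (eq_of_le_of_card_ge (zpowers_le.2 htZ) (by rw [hZ, c.card_zt])).symm
    have hAZ : A ⊓ centralizer (F.T : Set H) = zpowers c.t := by
      refine le_antisymm (fun a ha => hZt ▸ ⟨hAT ha.1, ha.2⟩) (le_inf hzA ?_)
      exact fun a ha => (hZt.ge ha).2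
    rw [hAZ, c.card_zt, F.cardT] at hidx
    have hderA : ∀ a ∈ A, ∀ b ∈ A, ⁅a, b⁆ ∈ zpowers c.t := fun a ha b hb => hpair a (hAT ha) b hb
    have hcAi : c.Inv (cen A) := hAi.inf hAi.cent
    have htcA : c.t ∈ cen A := ⟨htA, mem_centralizer_iff.2 fun a _ => c.htc a⟩
    obtain ⟨B, hBA, hBab, huB, hB⟩ := c.parity htA hderA huA
    rcases c.card_invariant hAp hAi htA with e | e | e | e
    · omega
    · rw [e] at hidx hB
      have hab : IsMulCommutative A := by
        rcases c.cen_cases hAp hAi htA with e' | e' | e' | e'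
        · exact (sq_ne_32 _ (by rw [hB, e'])).elim
        · exact isMulCommutative_of_cen (by rw [e', e])
        all_goals
          have := card_cen_le A
          omega
      have hel : ∀ a ∈ A, a * a = 1 := by
        intro a ha
        induction ha using closure_induction with
        | mem a ha =>
          rcases ha with ⟨i, rfl⟩ | rfl
          · calc _ = c.x ^ i * (c.u * c.u) * (c.x ^ i)⁻¹ := by simp [mul_assoc]
              _ = 1 := by rw [c.u_sq]; simp
          · exact c.t_sq
        | one => simp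
        | mul a b ha hb iha ihb =>
          calc a * b * (a * b) = a * (b * a) * b := by simp [mul_assoc]
            _ = a * (a * b) * b := by rw [comm_of_isMulCommutative hab hb ha]
            _ = 1 := by rw [← mul_assoc a a b, iha, one_mul, ihb]
        | inv a _ iha => rw [← mul_inv_rev, iha, inv_one]
      have hAS : A ≤ F.S := fun a ha => F.mem_S _ (hAT ha) (comm_of_isMulCommutative hab ha huA)
      have hSX : F.S ⊓ centralizer (A : Set H) = F.T ⊓ centralizer (A : Set H) := by
        refine le_antisymm (inf_le_inf_right _ F.hST) (le_inf (fun a ha => ?_) inf_le_right)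
        exact F.mem_S _ ha.1 ((mem_centralizer_iff.1 ha.2 _ huA).symm)
      refine c.no_sixteen F.S A c.t F.cardS F.hSu hAS e hel huA htA c.t_ne c.hut.symm ?_ ?_ ?_
      · intro s hs a ha
        exact c.mem_zt.1 (hpair s (F.hST hs) a ha)
      · rw [hSX]; omega
      · rw [hSX]
        intro h4
        have hXi : c.Inv (F.T ⊓ centralizer (A : Set H)) := hTi.inf hAi.cent
        have hle : ⁅F.T ⊓ centralizer (A : Set H), F.T ⊓ centralizer (A : Set H)⁆ ≤ F.T :=
          (commutator_le_self _).trans inf_le_left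
        have := card_le_of_le (c.le_zt_of_small (hTp.to_le hle) (hXi.commutator hXi) h4.le)
        rw [h4, c.card_zt] at this
        omega
    · rw [e] at hidx hB
      set C := F.T ⊓ centralizer (A : Set H) with hC
      have hC16 : Nat.card C = 16 := by omega
      have hCi : c.Inv C := hTi.inf hAi.cent
      have htC : c.t ∈ C := ⟨F.t_mem_T, mem_centralizer_iff.2 fun a _ => c.htc a⟩
      have hCp := hTp.to_le (inf_le_left : C ≤ F.T)
      have hcA : cen A = zpowers c.t := by
        rcases c.cen_cases hAp hAi htA with e' | e' | e' | e'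
        · exact (eq_of_le_of_card_ge (zpowers_le.2 htcA) (by rw [e', c.card_zt])).symm
        · exact (sq_ne_2048 _ (by rw [hB, e'])).elim
        · have hab := isMulCommutative_of_cen (P := A) (by rw [e', e])
          exact (c.not_ab A (c.le_cent_u hab huA) e hab).elim
        · have := card_cen_le A
          omega
      have hCder := (c.step hCp hCi (c.inv_of_normal _) (mem_zpowers c.t) (zpowers_le.2 htC)
        (le_top.trans (normalizer_eq_top_iff.2 c.zt_normal).ge) (by rw [hC16, c.card_zt])).1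
      obtain ⟨B', hB'C, -, -, hB'⟩ := c.parity htC hCder htC
      have hCab : IsMulCommutative C := by
        rcases c.cen_cases (P := C) hCp hCi htC with e' | e' | e' | e'
        · exact (sq_ne_32 _ (by rw [hB', hC16, e'])).elim
        · exact isMulCommutative_of_cen (e'.trans hC16.symm)
        all_goals
          have := card_cen_le C
          omega
      set W := closure ((A : Set H) ∪ C) with hW
      have hWT : W ≤ F.T := (closure_le _).2 (Set.union_subset hAT fun a ha => ha.1)
      have hAW : A ≤ W := fun a ha => subset_closure (Or.inl ha)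
      have hWc : W = F.T := by
        refine eq_of_le_of_card_ge hWT ?_
        rw [F.cardT]
        have hlt : Nat.card A < Nat.card W := lt_of_le_of_ne (card_le_of_le hAW) fun hh => by
          have hCA : C ≤ cen A := fun a ha =>
            ⟨(eq_of_le_of_card_ge hAW hh.ge).ge (subset_closure (Or.inr ha)), ha.2⟩
          have := card_le_of_le (hCA.trans hcA.le)
          rw [c.card_zt, hC16] at this
          omega
        rcases c.card_invariant (hTp.to_le hWT)
          (c.inv_closure fun v hv => subset_closure (hv.imp hAi.conj hCi.conj)) (hAW htA) with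
          e' | e' | e' | e' <;> omega
      have hCZ : C ≤ cen F.T := fun a ha => ⟨ha.1, by
        rw [← hWc, hW, centralizer_closure]
        refine mem_centralizer_iff.2 ?_
        rintro b (hb | hb)
        · exact mem_centralizer_iff.1 ha.2 b hb
        · exact comm_of_isMulCommutative hCab hb ha⟩
      have := card_le_of_le hCZ
      omega
    · rw [e] at hB
      have hAe : A = F.T := eq_of_le_of_card_ge hAT (by rw [e, F.cardT])
      rw [hAe, hZ] at hB
      exact sq_ne_2048 _ hB
  · -- center of order 16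
    set W := closure (c.U ∪ (cen F.T : Set H)) with hW
    have hWT : W ≤ F.T := (closure_le _).2 (Set.union_subset hU_T fun a ha => ha.1)
    have hZW : cen F.T ≤ W := fun a ha => subset_closure (Or.inr ha)
    have huW : c.u ∈ W := subset_closure (Or.inl c.u_mem_U)
    have hWi : c.Inv W := c.inv_closure fun v hv => subset_closure (hv.imp c.U_conj hZi.conj)
    have hWp := hTp.to_le hWT
    have hder : ∀ a ∈ W, ∀ b ∈ W, ⁅a, b⁆ ∈ zpowers c.t := by
      intro a ha
      refine c.comm_closure ?_ a ha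
      rintro p hp b (hb | hb)
      · exact hpair p (hWT hp) b (subset_closure (Or.inl hb))
      · rw [commutatorElement_eq_one_iff_mul_comm.2 (comm_of_mem_cen hb (hWT hp))]; exact one_mem _
    obtain ⟨B, hBW, hBab, huB, hB⟩ := c.parity (hZW htZ) hder huW
    have hcW : cen F.T ≤ cen W := fun a ha =>
      ⟨hZW ha, mem_centralizer_iff.2 fun b hb => comm_of_mem_cen ha (hWT hb)⟩
    have hcW' := card_le_of_le hcW
    have hcW'' := card_cen_le W
    have hcWc := c.cen_cases hWp hWi (hZW htZ)
    rcases c.card_invariant hWp hWi (hZW htZ) with e | e | e | e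
    · omega
    · exact huZ ((eq_of_le_of_card_ge hZW (by omega)).ge huW)
    · rcases hcWc with e' | e' | e' | e'
      · omega
      · exact sq_ne_2048 _ (by rw [hB, e, e'])
      · have hab := isMulCommutative_of_cen (P := W) (e'.trans e.symm)
        exact c.not_ab W (c.le_cent_u hab huW) e hab
      · omega
    · have hWe : W = F.T := eq_of_le_of_card_ge hWT (by rw [e, F.cardT])
      rw [hWe, F.cardT, hZ] at hB
      exact c.not_ab B (c.le_cent_u hBab huB) (eq_of_sq_16384 _ hB) hBab
  · exact c.not_ab_conj 1 (fun a ha => by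
      simpa using (comm_of_mem_cen ha (F.hST F.uS)).symm) hZ
      (isMulCommutative_of_comm fun a ha b hb => comm_of_mem_cen hb ha.1)
  · exact huZ ((eq_of_le_of_card_ge (inf_le_left : cen F.T ≤ F.T) (le_of_eq (F.cardT.trans hZ.symm))).ge (F.hST F.uS))

end CT

end CfsgLib.ClassK.M24Nse
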