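import Cfsg.Agent.Lib.ClassK.M24Nse.CentTQuot
import Cfsg.Agent.Lib.Comp.Subnormal
import Cfsg.Agent.Lib.Amalgam.PCore

/-!
The hypotheses on the centralizer of the central involution, and the action of its element of
order 7 on 2-subgroups.
-/

set_option autoImplicit false
set_option linter.unusedSectionVars false

namespace CfsgLib.ClassK.M24Nse

open Subgroup
open scoped commutatorElement

universe u

/-- The setting: `H` is the centralizer of `t`, and `u` a non-central involution with a large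
centralizer in `H`. -/
structure CT (H : Type u) [Group H] [Finite H] where
  t : H
  u : H
  x : H
  card : Nat.card H = 21504
  ht : orderOf t = 2
  hu : orderOf u = 2
  hx : orderOf x = 7
  htc : ∀ h : H, h * t = t * h
  hut : u ≠ t
  cent_x : Nat.card (centralizer ({x} : Set H)) = 14
  cent_u : 512 ∣ Nat.card (centralizer ({u} : Set H))
  cent_u' : ¬ 1024 ∣ Nat.card (centralizer ({u} : Set H))
  not_ab : ∀ A : Subgroup H, A ≤ centralizer ({u} : Set H) → Nat.card A = 128 → ¬ IsMulCommutative A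
  no_sixteen : ∀ (S A : Subgroup H) (z : H), Nat.card S = 512 → S ≤ centralizer ({u} : Set H) →
    A ≤ S → Nat.card A = 16 → (∀ a ∈ A, a * a = 1) → u ∈ A → z ∈ A → z ≠ 1 → z ≠ u →
    (∀ s ∈ S, ∀ a ∈ A, s * a * s⁻¹ * a⁻¹ = 1 ∨ s * a * s⁻¹ * a⁻¹ = z) →
    Nat.card (S ⊓ centralizer (A : Set H) : Subgroup H) = 128 →
    Nat.card ↥⁅(S ⊓ centralizer (A : Set H) : Subgroup H), (S ⊓ centralizer (A : Set H) : Subgroup H)⁆ ≠ 4 →
    False

namespace CT

variable {H : Type u} [Group H] [Finite H] (c : CT H)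

theorem t_ne : c.t ≠ 1 := fun h => by
  have := c.ht
  rw [h, orderOf_one] at this
  omega

theorem t_sq : c.t * c.t = 1 := by
  rw [← pow_two, ← c.ht, pow_orderOf_eq_one]

theorem t_inv : c.t⁻¹ = c.t := inv_eq_of_mul_eq_one_left c.t_sq

theorem u_sq : c.u * c.u = 1 := by
  rw [← pow_two, ← c.hu, pow_orderOf_eq_one]

theorem u_ne : c.u ≠ 1 := fun h => by
  have := c.hu
  rw [h, orderOf_one] at this
  omega

theorem card_zt : Nat.card (zpowers c.t) = 2 := by rw [Nat.card_zpowers, c.ht]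

theorem mem_zt {y : H} : y ∈ zpowers c.t ↔ y = 1 ∨ y = c.t := by
  constructor
  · intro h
    obtain ⟨k, rfl⟩ := mem_zpowers_iff.1 h
    rcases Int.even_or_odd k with ⟨m, rfl⟩ | ⟨m, rfl⟩
    · exact Or.inl (by rw [← two_mul, zpow_mul, zpow_two, c.t_sq, one_zpow])
    · exact Or.inr (by rw [zpow_add, zpow_mul, zpow_two, c.t_sq, one_zpow, one_mul, zpow_one])
  · rintro (rfl | rfl)
    · exact one_mem _
    · exact mem_zpowers _

theorem t_mem_center : c.t ∈ center H := mem_center_iff.2 c.htc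

theorem zt_le_center : zpowers c.t ≤ center H := zpowers_le.2 c.t_mem_center

instance zt_normal : (zpowers c.t).Normal :=
  ⟨fun y hy g => by
    rw [(mem_center_iff.1 (c.zt_le_center hy) g), mul_inv_cancel_right]; exact hy⟩

include c in
theorem card_two {V : Subgroup H} (hV : IsPGroup 2 V) : ∃ n ≤ 10, Nat.card V = 2 ^ n := by
  have : Fact (2 : ℕ).Prime := ⟨Nat.prime_two⟩
  obtain ⟨n, hn⟩ := IsPGroup.iff_card.1 hV
  refine ⟨n, ?_, hn⟩
  have h := card_subgroup_dvd_card V
  rw [hn, c.card] at h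
  by_contra hlt
  have := (pow_dvd_pow 2 (show 11 ≤ n by omega)).trans h
  norm_num at this

/-- The only 2-elements centralised by `x` are `1` and `t`. -/
theorem mem_zt_of_commute {V : Subgroup H} (hV : IsPGroup 2 V) {v : H} (hv : v ∈ V)
    (hc : v * c.x = c.x * v) : v = 1 ∨ v = c.t := by
  have : Fact (2 : ℕ).Prime := ⟨Nat.prime_two⟩
  obtain ⟨n, -, hn⟩ := c.card_two hV
  have h1 : orderOf v ∣ 14 := c.cent_x ▸ orderOf_dvd_natCard _ (mem_centralizer_singleton_iff.2 hc)
  have h2 : orderOf v ∣ 2 ^ n := hn ▸ orderOf_dvd_natCard V hv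
  have h7 : (7 : ℕ).Coprime (2 ^ n) := Nat.Coprime.pow_right n (by norm_num)
  have h3 : orderOf v ∣ 2 := (Nat.Coprime.coprime_dvd_right h2 h7).symm.dvd_of_dvd_mul_left
    (by simpa using h1)
  -- the group `⟨v⟩ ⊔ ⟨t⟩` has order dividing 14
  by_contra hne
  push Not at hne
  have hv2 : v * v = 1 := by rw [← pow_two]; exact orderOf_dvd_iff_pow_eq_one.1 h3
  have hvt : v * c.t = c.t * v := c.htc v
  let W : Subgroup H :=
    { carrier := {y | y = 1 ∨ y = v ∨ y = c.t ∨ y = v * c.t}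
      one_mem' := Or.inl rfl
      mul_mem' := by
        have hv3 : ∀ y, v * (v * y) = y := fun y => by rw [← mul_assoc, hv2, one_mul]
        have htt : ∀ y, c.t * (c.t * y) = y := fun y => by rw [← mul_assoc, c.t_sq, one_mul]
        have hvt' : ∀ y, c.t * (v * y) = v * (c.t * y) := fun y => by
          rw [← mul_assoc, ← hvt, mul_assoc]
        rintro a b (rfl | rfl | rfl | rfl) (rfl | rfl | rfl | rfl) <;>
          simp [mul_assoc, hv2, hv3, htt, hvt', c.t_sq, ← hvt]
      inv_mem' := by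
        rintro a (rfl | rfl | rfl | rfl)
        · simp
        · exact Or.inr (Or.inl (inv_eq_of_mul_eq_one_left hv2))
        · exact Or.inr (Or.inr (Or.inl c.t_inv))
        · exact Or.inr (Or.inr (Or.inr (by
            rw [mul_inv_rev, c.t_inv, inv_eq_of_mul_eq_one_left hv2, hvt]))) }
  have hW : W ≤ centralizer ({c.x} : Set H) := by
    rintro y (rfl | rfl | rfl | rfl) <;> rw [mem_centralizer_singleton_iff]
    · simp
    · exact hc
    · exact (c.htc c.x).symm
    · rw [mul_assoc, ← c.htc c.x, ← mul_assoc, hc, mul_assoc]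
  have h4 : Nat.card W = 4 := by
    have hmem : ∀ y, y ∈ W ↔ y ∈ ({1, v, c.t, v * c.t} : Set H) := fun y => Iff.rfl
    rw [← SetLike.coe_sort_coe, Nat.card_coe_set_eq, show (W : Set H) = {1, v, c.t, v * c.t} from Set.ext hmem,
      Set.ncard_insert_of_notMem, Set.ncard_insert_of_notMem, Set.ncard_pair]
    · exact fun h => hne.1 (mul_eq_right.1 h.symm)
    · simp only [Set.mem_insert_iff, Set.mem_singleton_iff, not_or]
      exact ⟨hne.2, fun h => c.t_ne (left_eq_mul.1 h)⟩
    · simp only [Set.mem_insert_iff, Set.mem_singleton_iff, not_or]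
      exact ⟨fun h => hne.1 h.symm, fun h => c.t_ne h.symm,
        fun h => hne.2 ((eq_inv_of_mul_eq_one_left h.symm).trans c.t_inv)⟩
  have := card_dvd_of_le hW
  rw [h4, c.cent_x] at this
  omega

theorem inf_cent_le {V : Subgroup H} (hV : IsPGroup 2 V) :
    V ⊓ centralizer ({c.x} : Set H) ≤ zpowers c.t := fun _ hv =>
  c.mem_zt.2 (c.mem_zt_of_commute hV hv.1 (mem_centralizer_singleton_iff.1 hv.2))

theorem card_invariant {V : Subgroup H} (hV : IsPGroup 2 V) (hx : c.x ∈ normalizer (V : Set H))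
    (htV : c.t ∈ V) : Nat.card V = 2 ∨ Nat.card V = 16 ∨ Nat.card V = 128 ∨ Nat.card V = 1024 := by
  have : Fact (7 : ℕ).Prime := ⟨by norm_num⟩
  have h := card_modEq_inf_cent (p := 7) (c.hx ▸ pow_orderOf_eq_one c.x) hx
  have h2 : V ⊓ centralizer ({c.x} : Set H) = zpowers c.t := le_antisymm (c.inf_cent_le hV)
    (le_inf (zpowers_le.2 htV) (zpowers_le.2 (mem_centralizer_singleton_iff.2 (c.htc c.x).symm)))
  obtain ⟨n, hn10, hn⟩ := c.card_two hV
  rw [h2, c.card_zt, hn] at h
  rw [hn]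
  revert h
  unfold Nat.ModEq
  interval_cases n <;> norm_num

theorem card_invariant' {V : Subgroup H} (hV : IsPGroup 2 V) (hx : c.x ∈ normalizer (V : Set H))
    (htV : c.t ∉ V) : Nat.card V = 1 ∨ Nat.card V = 8 ∨ Nat.card V = 64 ∨ Nat.card V = 512 := by
  have : Fact (7 : ℕ).Prime := ⟨by norm_num⟩
  have h := card_modEq_inf_cent (p := 7) (c.hx ▸ pow_orderOf_eq_one c.x) hx
  have h2 : V ⊓ centralizer ({c.x} : Set H) = ⊥ := eq_bot_iff.2 fun y hy => by
    rcases c.mem_zt.1 (c.inf_cent_le hV hy) with rfl | rfl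
    · exact one_mem _
    · exact absurd hy.1 htV
  obtain ⟨n, hn10, hn⟩ := c.card_two hV
  rw [h2, card_bot, hn] at h
  rw [hn]
  revert h
  unfold Nat.ModEq
  interval_cases n <;> norm_num

theorem conj_pow_mem {W : Set H} (hW : ∀ w ∈ W, c.x * w * c.x⁻¹ ∈ W) {w : H} (hw : w ∈ W) (k : ℕ) :
    c.x ^ k * w * (c.x ^ k)⁻¹ ∈ W := by
  induction k with
  | zero => simpa using hw
  | succ k ih => rw [pow_succ']; simpa [mul_assoc] using hW _ ih

/-- A set closed under conjugation by `x` and multiplication by `t` which has a 2-element outside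
`⟨t⟩` has at least 14 elements. -/
theorem fourteen_le {W : Set H} (hW : ∀ w ∈ W, c.x * w * c.x⁻¹ ∈ W) (hWt : ∀ w ∈ W, w * c.t ∈ W)
    {V : Subgroup H} (hV : IsPGroup 2 V) {v : H} (hvW : v ∈ W) (hvV : v ∈ V) (hv1 : v ≠ 1)
    (hvt : v ≠ c.t) : 14 ≤ W.ncard := by
  let f : Fin 7 × Bool → W := fun p =>
    ⟨bif p.2 then c.x ^ p.1.val * v * (c.x ^ p.1.val)⁻¹ * c.t else c.x ^ p.1.val * v * (c.x ^ p.1.val)⁻¹,
      by cases p.2 <;> simp [c.conj_pow_mem hW hvW, hWt _ (c.conj_pow_mem hW hvW _)]⟩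
  have hx7 : c.x ^ 7 = 1 := c.hx ▸ pow_orderOf_eq_one c.x
  -- no power of `x` moves `v` into `v⟨t⟩`
  have key : ∀ k : ℕ, k < 7 → (c.x ^ k * v * (c.x ^ k)⁻¹ = v ∨ c.x ^ k * v * (c.x ^ k)⁻¹ = v * c.t) →
      k = 0 := by
    intro k hk h
    by_contra hk0
    have h2 : c.x ^ (k + k) * v * (c.x ^ (k + k))⁻¹ = v := by
      rw [pow_add, mul_inv_rev, show c.x ^ k * c.x ^ k * v * ((c.x ^ k)⁻¹ * (c.x ^ k)⁻¹) =
        c.x ^ k * (c.x ^ k * v * (c.x ^ k)⁻¹) * (c.x ^ k)⁻¹ by simp [mul_assoc]]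
      rcases h with h | h
      · rw [h, h]
      · rw [h, show c.x ^ k * (v * c.t) * (c.x ^ k)⁻¹ = c.x ^ k * v * (c.x ^ k)⁻¹ * c.t by
          simp [mul_assoc, ← c.htc], h, mul_assoc, c.t_sq, mul_one]
    obtain ⟨m, hm⟩ : ∃ m, (c.x ^ (k + k)) ^ m = c.x := by
      refine ⟨[0, 4, 2, 6, 1, 5, 3].getD k 0, ?_⟩
      rw [← pow_mul]
      interval_cases k <;> first | omega |
        (simp only [List.getD_cons_succ, List.getD_cons_zero]; norm_num; rw [← pow_mod_orderOf, c.hx]; norm_num)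
    have hcm : Commute (c.x ^ (k + k)) v := mul_inv_eq_iff_eq_mul.1 h2
    have h3 := hcm.pow_left m
    rw [hm] at h3
    rcases c.mem_zt_of_commute hV hvV h3.eq.symm with h | h
    · exact hv1 h
    · exact hvt h
  have hinj : Function.Injective f := by
    have step : ∀ i j : Fin 7, ∀ e : H, e ∈ zpowers c.t →
        c.x ^ i.val * v * (c.x ^ i.val)⁻¹ = c.x ^ j.val * v * (c.x ^ j.val)⁻¹ * e → i = j := by
      intro i j e he h
      set k := (i.val + (7 - j.val)) % 7 with hk
      have hk' : c.x ^ k = (c.x ^ j.val)⁻¹ * c.x ^ i.val := by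
        rw [show c.x ^ k = c.x ^ (i.val + (7 - j.val)) by
            conv_rhs => rw [← pow_mod_orderOf, c.hx]
            , eq_inv_mul_iff_mul_eq, ← pow_add,
          show j.val + (i.val + (7 - j.val)) = 7 + i.val by omega, pow_add, hx7, one_mul]
      have h4 : c.x ^ k * v * (c.x ^ k)⁻¹ = v * e := by
        have h' : (c.x ^ j.val)⁻¹ * (c.x ^ i.val * v * (c.x ^ i.val)⁻¹) * c.x ^ j.val = v * e := by
          rw [h, mul_assoc, mul_assoc _ e, ← mem_center_iff.1 (c.zt_le_center he) (c.x ^ j.val)]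
          simp [mul_assoc]
        rw [hk', ← h']
        simp [mul_assoc]
      have h5 := key k (Nat.mod_lt _ (by norm_num))
        ((c.mem_zt.1 he).imp (fun h => by rw [h4, h, mul_one]) (fun h => by rw [h4, h]))
      exact Fin.ext (by omega)
    rintro ⟨i, b⟩ ⟨j, b'⟩ h
    have h' := congrArg Subtype.val h
    cases b <;> cases b' <;> simp only [f, cond_true, cond_false] at h'
    · rw [step i j 1 (one_mem _) (by rw [h', mul_one])]
    · have hij := step i j c.t (mem_zpowers _) h'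
      subst hij
      exact absurd (left_eq_mul.1 h') c.t_ne
    · have hij := step j i c.t (mem_zpowers _) h'.symm
      subst hij
      exact absurd (mul_eq_left.1 h') c.t_ne
    · rw [step i j 1 (one_mem _) (by rw [mul_right_cancel h', mul_one])]
  have := Nat.card_le_card_of_injective f hinj
  rw [Nat.card_prod, Nat.card_fin, Nat.card_eq_fintype_card, Fintype.card_bool, Nat.card_coe_set_eq] at this
  omega

end CT

end CfsgLib.ClassK.M24Nse
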