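import Cfsg.Agent.Lib.ClassK.M24Nse.CentTPair

/-!
A Sylow 2-subgroup `T` of the centralizer with the subgroup `S = T ∩ C(u)` of index 2, and the central
involution `z = u·u'` it gives.
-/

set_option autoImplicit false
set_option linter.unusedSectionVars false

namespace CfsgLib.ClassK.M24Nse

open Subgroup
open scoped commutatorElement

universe u

namespace CT

variable {H : Type u} [Group H] [Finite H]

/-- The frame. -/
structure Frame (c : CT H) where
  T : Subgroup H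
  S : Subgroup H
  g : H
  hT : IsPGroup 2 T
  cardT : Nat.card T = 1024
  cardS : Nat.card S = 512
  hST : S ≤ T
  hSu : S ≤ centralizer ({c.u} : Set H)
  mem_S : ∀ a ∈ T, a * c.u = c.u * a → a ∈ S
  uS : c.u ∈ S
  hg : g ∈ T
  hgS : g ∉ S
  hR : c.R ≤ T

theorem nonempty_frame (c : CT H) : Nonempty (Frame c) := by
  classical
  have : Fact (2 : ℕ).Prime := ⟨Nat.prime_two⟩
  set C := centralizer ({c.u} : Set H) with hC
  have huC : c.u ∈ C := mem_centralizer_singleton_iff.2 rfl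
  obtain ⟨P⟩ := (inferInstance : Nonempty (Sylow 2 C))
  have hPc : Nat.card (P : Subgroup C) = 512 := by
    obtain ⟨n, hn10, hn⟩ := c.card_two (P.2.map C.subtype)
    rw [card_map_of_injective C.subtype_injective] at hn
    have h9 : 2 ^ 9 ∣ Nat.card (P : Subgroup C) :=
      P.pow_dvd_card_of_pow_dvd_card (by simpa using c.cent_u)
    rw [hn] at h9 ⊢
    have h9' := (Nat.pow_dvd_pow_iff_le_right (by norm_num : 1 < 2)).1 h9
    interval_cases n
    · norm_num
    · exfalso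
      refine c.cent_u' ?_
      have := card_subgroup_dvd_card (P : Subgroup C)
      rw [hn] at this
      simpa using this
  let uC : C := ⟨c.u, huC⟩
  have huP : uC ∈ (P : Subgroup C) := by
    have hn : (zpowers uC).Normal := ⟨fun y hy a => by
      obtain ⟨k, rfl⟩ := mem_zpowers_iff.1 hy
      have hcm : Commute a uC := Subtype.ext (mem_centralizer_singleton_iff.1 a.2)
      rw [(hcm.zpow_right k).eq, mul_inv_cancel_right]
      exact hy⟩
    have hp : IsPGroup 2 (zpowers uC) := IsPGroup.of_card (n := 1) (by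
      rw [Nat.card_zpowers, pow_one, orderOf_mk, c.hu])
    obtain ⟨Q, hQ⟩ := hp.exists_le_sylow
    obtain ⟨h, hh⟩ := MulAction.exists_smul_eq C Q P
    rw [← hh, Sylow.coe_subgroup_smul, Subgroup.mem_pointwise_smul_iff_inv_smul_mem]
    exact hQ (by simpa [MulAut.smul_def, mul_assoc] using hn.conj_mem _ (mem_zpowers uC) h⁻¹)
  set S := (P : Subgroup C).map C.subtype with hS
  have hSc : Nat.card S = 512 := by rw [hS, card_map_of_injective C.subtype_injective, hPc]
  have hSC : S ≤ C := map_subtype_le _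
  obtain ⟨T, hT⟩ := (P.2.map C.subtype).exists_le_sylow
  have hTc : Nat.card (T : Subgroup H) = 1024 := by
    rw [T.card_eq_multiplicity, c.card, show (21504 : ℕ) = 2 ^ 10 * 21 by norm_num,
      Nat.factorization_mul (by norm_num) (by norm_num), Nat.factorization_pow]
    simp [Nat.prime_two.factorization, Nat.factorization_eq_zero_of_not_dvd]
  have hmem : ∀ a ∈ (T : Subgroup H), a * c.u = c.u * a → a ∈ S := by
    have h1 : Nat.card ((T : Subgroup H) ⊓ C : Subgroup H) ≤ 512 := by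
      obtain ⟨n, hn10, hn⟩ := c.card_two (T.2.to_le (inf_le_left : (T : Subgroup H) ⊓ C ≤ _))
      rw [hn]
      interval_cases n <;> try norm_num
      exfalso
      refine c.cent_u' ?_
      have := card_dvd_of_le (inf_le_right : (T : Subgroup H) ⊓ C ≤ C)
      rw [hn] at this
      simpa using this
    intro a ha hc
    exact (eq_of_le_of_card_ge (le_inf hT hSC) (by rw [hSc]; exact h1)).ge
      ⟨ha, mem_centralizer_singleton_iff.2 hc⟩
  obtain ⟨g, hg, hgS⟩ : ∃ g ∈ (T : Subgroup H), g ∉ S := by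
    by_contra hall
    push Not at hall
    have := card_le_of_le hall
    omega
  exact ⟨{
    T := T, S := S, g := g, hT := T.2, cardT := hTc, cardS := hSc, hST := hT, hSu := hSC
    mem_S := hmem, uS := ⟨uC, huP, rfl⟩, hg := hg, hgS := hgS
    hR := by
      obtain ⟨T', hT'⟩ := c.isPGroup_R.exists_le_sylow
      obtain ⟨h, hh⟩ := MulAction.exists_smul_eq H T' T
      intro r hr
      rw [← hh, Sylow.coe_subgroup_smul, Subgroup.mem_pointwise_smul_iff_inv_smul_mem]
      exact hT' (by simpa [MulAut.smul_def, mul_assoc] using c.R_normal.conj_mem _ hr h⁻¹) }⟩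

/-- No abelian subgroup of order 128 centralises a conjugate of `u`. -/
theorem not_ab_conj (c : CT H) (h : H) {A : Subgroup H} (hA : ∀ a ∈ A, a * (h * c.u * h⁻¹) = h * c.u * h⁻¹ * a)
    (hc : Nat.card A = 128) (hab : IsMulCommutative A) : False := by
  refine c.not_ab (A.map (MulAut.conj h⁻¹).toMonoidHom) ?_
    (by rw [card_map_of_injective (MulAut.conj h⁻¹).injective, hc]) ?_
  · rintro _ ⟨a, ha, rfl⟩
    refine mem_centralizer_singleton_iff.2 ?_
    calc h⁻¹ * a * h⁻¹⁻¹ * c.u = h⁻¹ * (a * (h * c.u * h⁻¹)) * h := by simp [mul_assoc]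
      _ = h⁻¹ * (h * c.u * h⁻¹ * a) * h := by rw [hA a ha]
      _ = c.u * (h⁻¹ * a * h⁻¹⁻¹) := by simp [mul_assoc]
  · refine isMulCommutative_of_comm ?_
    rintro _ ⟨a, ha, rfl⟩ _ ⟨b, hb, rfl⟩
    rw [← map_mul, ← map_mul, comm_of_isMulCommutative hab ha hb]

namespace Frame

variable {c : CT H} (F : Frame c)

/-- The conjugate `u' = g u g⁻¹`. -/
def u' : H := F.g * c.u * F.g⁻¹

/-- The product `u u'`. -/
def z : H := c.u * F.u'

theorem t_mem_T : c.t ∈ F.T := F.hR c.t_mem_R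

theorem T_le_norm_S : F.T ≤ normalizer (F.S : Set H) := by
  have : Fact (2 : ℕ).Prime := ⟨Nat.prime_two⟩
  have hne : F.S ≠ F.T := fun h => F.hgS (h.ge F.hg)
  have hlt := lt_inf_normalizer_of_lt F.hT (lt_of_le_of_ne F.hST hne)
  have h1 := card_dvd_of_le hlt.le
  have h2 : Nat.card F.S < Nat.card (F.T ⊓ normalizer (F.S : Set H) : Subgroup H) :=
    lt_of_le_of_ne (card_le_of_le hlt.le) fun h => hlt.ne (eq_of_le_of_card_ge hlt.le h.ge)
  have h3 := card_le_of_le (inf_le_left : F.T ⊓ normalizer (F.S : Set H) ≤ _)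
  rw [F.cardS] at h1 h2
  rw [F.cardT] at h3
  obtain ⟨j, hj⟩ := h1
  exact inf_eq_left.1 (eq_of_le_of_card_ge inf_le_left (by
    have h4 : Nat.card (F.T ⊓ normalizer (F.S : Set H) : Subgroup H) = 512 * j := hj
    rw [F.cardT]; omega))

theorem mul_mem_S {a b : H} (ha : a ∈ F.T) (hb : b ∈ F.T) (ha' : a ∉ F.S) (hb' : b ∉ F.S) :
    a⁻¹ * b ∈ F.S := by
  have h2 : (F.S.subgroupOf F.T).index = 2 := by
    have h := (F.S.subgroupOf F.T).index_mul_card
    rw [F.cardT, Nat.card_congr (subgroupOfEquivOfLe F.hST).toEquiv, F.cardS] at h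
    omega
  have h := mul_mem_iff_of_index_two h2 (a := (⟨a, ha⟩ : F.T)⁻¹) (b := ⟨b, hb⟩)
  simp only [inv_mem_iff, mem_subgroupOf] at h
  simpa using h.2 (iff_of_false ha' hb')

theorem conj_mem {a : H} (ha : a ∈ F.T) :
    (a ∈ F.S ∧ a * c.u * a⁻¹ = c.u) ∨ (a ∉ F.S ∧ a * c.u * a⁻¹ = F.u') := by
  by_cases h : a ∈ F.S
  · refine Or.inl ⟨h, ?_⟩
    rw [mem_centralizer_singleton_iff.1 (F.hSu h), mul_inv_cancel_right]
  · refine Or.inr ⟨h, ?_⟩
    have h1 := mem_centralizer_singleton_iff.1 (F.hSu (F.mul_mem_S F.hg ha F.hgS h))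
    have h2 : a = F.g * (F.g⁻¹ * a) := by simp
    rw [h2]
    calc F.g * (F.g⁻¹ * a) * c.u * (F.g * (F.g⁻¹ * a))⁻¹
        = F.g * ((F.g⁻¹ * a) * c.u * (F.g⁻¹ * a)⁻¹) * F.g⁻¹ := by simp [mul_assoc]
      _ = F.u' := by rw [h1, mul_inv_cancel_right]; rfl

theorem u'_mem_S : F.u' ∈ F.S := ((mem_normalizer_iff.1 (F.T_le_norm_S F.hg)) c.u).1 F.uS

theorem u_comm_u' : c.u * F.u' = F.u' * c.u := (mem_centralizer_singleton_iff.1 (F.hSu F.u'_mem_S)).symm

theorem u'_sq : F.u' * F.u' = 1 := by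
  have := c.u_sq
  calc F.u' * F.u' = F.g * (c.u * c.u) * F.g⁻¹ := by simp [u', mul_assoc]
    _ = 1 := by rw [this]; simp

theorem z_ne : F.z ≠ 1 := fun h => by
  have h1 : F.u' = c.u := by
    have := eq_inv_of_mul_eq_one_left h
    rw [inv_eq_of_mul_eq_one_left F.u'_sq] at this
    exact this.symm
  exact F.hgS (F.mem_S _ F.hg (mul_inv_eq_iff_eq_mul.1 h1))

theorem z_sq : F.z * F.z = 1 := by
  unfold z
  rw [show c.u * F.u' * (c.u * F.u') = c.u * (F.u' * c.u) * F.u' by simp [mul_assoc], ← F.u_comm_u',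
    ← mul_assoc, c.u_sq, one_mul, F.u'_sq]

theorem comm_u {a : H} (ha : a ∈ F.T) : ⁅a, c.u⁆ = 1 ∨ ⁅a, c.u⁆ = F.z := by
  rw [commutatorElement_def, inv_eq_of_mul_eq_one_left c.u_sq]
  rcases F.conj_mem ha with ⟨-, h⟩ | ⟨-, h⟩ <;> rw [h]
  · exact Or.inl c.u_sq
  · exact Or.inr F.u_comm_u'.symm

theorem z_central {a : H} (ha : a ∈ F.T) : a * F.z = F.z * a := by
  classical
  refine mul_inv_eq_iff_eq_mul.1 ?_
  have h1 : a * F.u' * a⁻¹ = (a * F.g) * c.u * (a * F.g)⁻¹ := by simp [u', mul_assoc]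
  have h2 := F.conj_mem ha
  have h3 := F.conj_mem (mul_mem ha F.hg)
  have hiff : a * F.g ∈ F.S ↔ a ∉ F.S := by
    constructor
    · intro h haS
      exact F.hgS ((F.S.mul_mem_cancel_left haS).1 h)
    · intro haS
      simpa using F.mul_mem_S (inv_mem ha) F.hg (fun h => haS (by simpa using inv_mem h)) F.hgS
  rw [show a * F.z * a⁻¹ = (a * c.u * a⁻¹) * (a * F.u' * a⁻¹) by simp [z, mul_assoc], h1]
  unfold z
  rcases h2 with ⟨h, e⟩ | ⟨h, e⟩ <;> rcases h3 with ⟨h', e'⟩ | ⟨h', e'⟩ <;> rw [e, e']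
  · exact absurd h (hiff.1 h')
  · exact F.u_comm_u'.symm
  · exact absurd (hiff.2 h) h'

theorem z_mem_T : F.z ∈ F.T := mul_mem (F.hST F.uS) (F.hST F.u'_mem_S)

end Frame

end CT

end CfsgLib.ClassK.M24Nse
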