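import Cfsg.Agent.Lib.ClassK.M24Nse.CentTAux

/-!
The center of the radical of order 128 does not have order 16.
-/

set_option autoImplicit false
set_option linter.unusedSectionVars false

namespace CfsgLib.ClassK.M24Nse

open Subgroup
open scoped commutatorElement

universe u

namespace CT

variable {H : Type u} [Group H] [Finite H] (c : CT H)

/-- The elements commuting with the `j`-th conjugate of `u` modulo `⟨t⟩`. -/
def commMod (c : CT H) (j : ℕ) : Subgroup H where
  carrier := {v | ⁅v, c.x ^ j * c.u * (c.x ^ j)⁻¹⁆ ∈ zpowers c.t}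
  one_mem' := by simp
  mul_mem' := fun {a b} ha hb => by
    show ⁅a * b, c.x ^ j * c.u * (c.x ^ j)⁻¹⁆ ∈ zpowers c.t
    rw [show ⁅a * b, c.x ^ j * c.u * (c.x ^ j)⁻¹⁆ = a * ⁅b, c.x ^ j * c.u * (c.x ^ j)⁻¹⁆ * a⁻¹ *
      ⁅a, c.x ^ j * c.u * (c.x ^ j)⁻¹⁆ by simp [commutatorElement_def, mul_assoc]]
    exact mul_mem (c.zt_normal.conj_mem _ hb a) ha
  inv_mem' := fun {a} ha => by
    show ⁅a⁻¹, c.x ^ j * c.u * (c.x ^ j)⁻¹⁆ ∈ zpowers c.t
    rw [show ⁅a⁻¹, c.x ^ j * c.u * (c.x ^ j)⁻¹⁆ = a⁻¹ * ⁅a, c.x ^ j * c.u * (c.x ^ j)⁻¹⁆⁻¹ * a⁻¹⁻¹ by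
      simp [commutatorElement_def, mul_assoc]]
    exact c.zt_normal.conj_mem _ (inv_mem ha) _

theorem false_of_sixteen (F : Frame c) (h128 : Nat.card c.R = 128) (huR : c.u ∈ c.R)
    (hzC : F.z ∈ cen c.R)
    (hU : ∀ i j : ℕ, ⁅c.x ^ i * c.u * (c.x ^ i)⁻¹, c.x ^ j * c.u * (c.x ^ j)⁻¹⁆ ∈ zpowers c.t)
    (h16 : Nat.card (cen c.R) = 16) : False := by
  classical
  have : Fact (2 : ℕ).Prime := ⟨Nat.prime_two⟩
  set E := cen c.R with hE
  have hER : E ≤ c.R := inf_le_left
  have hEn : E.Normal := by rw [hE]; unfold cen; infer_instance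
  have hEi : c.Inv E := c.inv_of_normal E
  have hRi : c.Inv c.R := c.inv_of_normal _
  have hRp := c.isPGroup_R
  have htE : c.t ∈ E := ⟨c.t_mem_R, mem_centralizer_iff.2 fun a _ => c.htc a⟩
  obtain ⟨hab, hsq⟩ := c.step hRp hRi hEi htE hER
    ((normalizer_eq_top_iff.2 hEn).ge.trans' le_top) (by omega)
  have hnot : ¬ ∀ a ∈ c.R, ∀ b ∈ c.R, ⁅a, b⁆ ∈ zpowers c.t := fun h => by
    obtain ⟨B, -, -, -, hB⟩ := c.parity c.t_mem_R h huR
    rw [h128, ← hE, h16] at hB
    exact sq_ne_2048 _ hB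
  have hzt2 : zpowers c.t ≤ E := zpowers_le.2 htE
  have hE16 : (E : Set H).ncard = 16 := (Nat.card_coe_set_eq _).symm.trans h16
  by_cases huE : c.u ∈ E
  swap
  · -- `R` is generated by `E` and the conjugates of `u`
    set W := closure ((E : Set H) ∪ c.U) with hW
    have hWR : W ≤ c.R := (closure_le _).2 (Set.union_subset hER
      (by rintro _ ⟨i, rfl⟩; exact c.R_normal.conj_mem _ huR _))
    have hEW : E ≤ W := fun a ha => subset_closure (Or.inl ha)
    have hWe : W = c.R := by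
      refine eq_of_le_of_card_ge hWR ?_
      have h2 : 2 * Nat.card E ≤ Nat.card W :=
        two_mul_card_le hEW (subset_closure (Or.inr c.u_mem_U)) huE
      rcases c.card_invariant (hRp.to_le hWR)
        (c.inv_closure fun v hv => subset_closure (hv.imp hEi.conj c.U_conj)) (hEW htE) with
        e | e | e | e <;> omega
    have key0 : ∀ j : ℕ, ∀ w ∈ W, ⁅w, c.x ^ j * c.u * (c.x ^ j)⁻¹⁆ ∈ zpowers c.t := by
      intro j w hw
      refine (closure_le (K := c.commMod j)).2 ?_ hw
      rintro v (hv | ⟨i, rfl⟩)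
      · show ⁅v, c.x ^ j * c.u * (c.x ^ j)⁻¹⁆ ∈ zpowers c.t
        rw [commutatorElement_eq_one_iff_mul_comm.2
          (comm_of_mem_cen hv (c.R_normal.conj_mem _ huR _)).symm]
        exact one_mem _
      · exact hU i j
    refine hnot fun p hp => ?_
    refine fun b hb => ?_
    refine c.comm_closure (P := c.R) (s := (E : Set H) ∪ c.U) ?_ p hp b (hWe.ge hb)
    rintro p hp v (hv | ⟨j, rfl⟩)
    · rw [commutatorElement_eq_one_iff_mul_comm.2 (comm_of_mem_cen hv hp)]; exact one_mem _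
    · exact key0 j p (hWe.ge hp)
  -- now `u ∈ E`
  have hconjR : ∀ (h : H) {v : H}, v ∈ E → h * v * h⁻¹ ∈ E := fun h v hv => hEn.conj_mem v hv h
  have hzt : F.z = c.t := by
    by_contra hne
    set W : Set H := {v | v ∈ E ∧ ¬ 1024 ∣ Nat.card (centralizer ({v} : Set H))} with hW
    have hWx : ∀ w ∈ W, c.x * w * c.x⁻¹ ∈ W := fun w hw => ⟨hconjR c.x hw.1, by
      have hh : Nat.card (centralizer ({c.x * w * c.x⁻¹} : Set H)) =
          Nat.card (centralizer ({w} : Set H)) := by
        have : centralizer ({c.x * w * c.x⁻¹} : Set H) =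
            (centralizer ({w} : Set H)).map (MulAut.conj c.x).toMonoidHom := by
          ext y
          rw [mem_map_equiv, mem_centralizer_singleton_iff, mem_centralizer_singleton_iff]
          rw [MulAut.conj_symm_apply]
          constructor
          · intro h
            calc c.x⁻¹ * y * c.x * w = c.x⁻¹ * (y * (c.x * w * c.x⁻¹)) * c.x := by simp [mul_assoc]
              _ = _ := by rw [h]; simp [mul_assoc]
          · intro h
            calc y * (c.x * w * c.x⁻¹) = c.x * (c.x⁻¹ * y * c.x * w) * c.x⁻¹ := by simp [mul_assoc]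
              _ = _ := by rw [h]; simp [mul_assoc]
        rw [this, card_map_of_injective (MulAut.conj c.x).injective]
      rw [hh]; exact hw.2⟩
    have hcent_t : ∀ w : H, centralizer ({w * c.t} : Set H) = centralizer ({w} : Set H) := fun w => by
      ext y
      rw [mem_centralizer_singleton_iff, mem_centralizer_singleton_iff, ← mul_assoc, mul_assoc w c.t y,
        ← c.htc y, ← mul_assoc, mul_left_inj]
    have hWt : ∀ w ∈ W, w * c.t ∈ W := fun w hw => ⟨mul_mem hw.1 htE, by rw [hcent_t]; exact hw.2⟩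
    have h14 := c.fourteen_le hWx hWt (hRp.to_le hER) (show c.u ∈ W from ⟨huE, c.cent_u'⟩) huE c.u_ne c.hut
    have hsub : W ⊆ (E : Set H) \ {1, c.t, F.z} := by
      intro w hw
      refine ⟨hw.1, ?_⟩
      rintro (rfl | rfl | rfl)
      · exact hw.2 (by
          rw [show centralizer ({1} : Set H) = ⊤ from top_le_iff.1 fun y _ =>
            mem_centralizer_singleton_iff.2 (by simp), card_top, c.card]
          norm_num)
      · exact hw.2 (by
          rw [show centralizer ({c.t} : Set H) = ⊤ from top_le_iff.1 fun y _ =>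
            mem_centralizer_singleton_iff.2 (c.htc y), card_top, c.card]
          norm_num)
      · exact hw.2 (F.cardT ▸ card_dvd_of_le fun y hy => mem_centralizer_singleton_iff.2 (F.z_central hy))
    have h3 := Set.ncard_le_ncard hsub (Set.toFinite _)
    rw [Set.ncard_sdiff] at h3
    · rw [hE16,
        Set.ncard_insert_of_notMem (by
          simp only [Set.mem_insert_iff, Set.mem_singleton_iff, not_or]
          exact ⟨fun h => c.t_ne h.symm, fun h => F.z_ne h.symm⟩),
        Set.ncard_pair (Ne.symm hne)] at h3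
      omega
    · rintro v (rfl | rfl | rfl)
      · exact one_mem E
      · exact htE
      · exact hzC
  have hu' : F.u' = c.u * c.t := by
    have h : c.u * (c.u * F.u') = c.u * c.t := congrArg (c.u * ·) hzt
    rwa [← mul_assoc, c.u_sq, one_mul] at h
  set O : Set H := {v | v ∈ E ∧ ∃ h : H, h * c.u * h⁻¹ = v} with hO
  have hOx : ∀ w ∈ O, c.x * w * c.x⁻¹ ∈ O := by
    rintro w ⟨hw, h, rfl⟩
    exact ⟨hconjR _ hw, c.x * h, by simp [mul_assoc]⟩
  have hOt : ∀ w ∈ O, w * c.t ∈ O := by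
    rintro w ⟨hw, h, rfl⟩
    refine ⟨mul_mem hw htE, h * F.g, ?_⟩
    rw [show h * F.g * c.u * (h * F.g)⁻¹ = h * F.u' * h⁻¹ by simp [Frame.u', mul_assoc], hu']
    simp [mul_assoc, ← c.htc]
  have h14 := c.fourteen_le hOx hOt (hRp.to_le hER) (show c.u ∈ O from ⟨huE, 1, by simp⟩) huE c.u_ne c.hut
  have hOs : O ⊆ (E : Set H) \ {1, c.t} := by
    rintro w ⟨hw, h, rfl⟩
    refine ⟨hw, ?_⟩
    rintro (e | e)
    · exact c.u_ne (conj_eq_one_iff.1 e)
    · exact c.hut (by
        calc c.u = h⁻¹ * (h * c.u * h⁻¹) * h := by simp [mul_assoc]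
          _ = h⁻¹ * c.t * h := by rw [e]
          _ = c.t := by rw [c.htc, mul_assoc, inv_mul_cancel, mul_one])
  have hOe : O = (E : Set H) \ {1, c.t} := by
    refine Set.eq_of_subset_of_ncard_le hOs ?_ (Set.toFinite _)
    rw [Set.ncard_sdiff (by rintro v (rfl | rfl); exacts [one_mem E, htE]), hE16,
      Set.ncard_pair (Ne.symm c.t_ne)]
    omega
  have hEsq : ∀ v ∈ E, v * v = 1 := by
    intro v hv
    by_cases h1 : v ∈ ({1, c.t} : Set H)
    · rcases h1 with rfl | rfl
      · exact one_mul 1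
      · exact c.t_sq
    · obtain ⟨-, h, rfl⟩ := hOe.ge ⟨hv, h1⟩
      calc _ = h * (c.u * c.u) * h⁻¹ := by simp [mul_assoc]
        _ = 1 := by rw [c.u_sq]; simp
  -- three generators of `R` modulo `E`
  obtain ⟨a, haR, haE⟩ : ∃ a ∈ c.R, a ∉ E := by
    by_contra hall
    push Not at hall
    have := card_le_of_le (show c.R ≤ E from hall)
    omega
  set a1 := c.x * a * c.x⁻¹ with ha1
  set a2 := c.x * a1 * c.x⁻¹ with ha2
  have ha1R : a1 ∈ c.R := hRi.conj haR
  have ha2R : a2 ∈ c.R := hRi.conj ha1R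
  have gen : ∀ b ∈ c.R, ∀ d ∈ c.R, Nat.card (closure ((E : Set H) ∪ {b, d})) ≤ 64 := fun b hb d hd =>
    (card_gen_two (hsq b hb) (hsq d hd) (hab b hb d hd)).trans (by omega)
  have noinv : ∀ b ∈ c.R, ∀ d ∈ c.R, (b = a ∨ d = a) → c.Inv (closure ((E : Set H) ∪ {b, d})) → False := by
    intro b hb d hd hbd hi
    have hle : closure ((E : Set H) ∪ {b, d}) ≤ c.R := (closure_le _).2 (Set.union_subset hER
      (by rintro v (rfl | rfl); exacts [hb, hd]))
    have hEV : E ≤ closure ((E : Set H) ∪ {b, d}) := fun v hv => subset_closure (Or.inl hv)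
    have h2 := two_mul_card_le hEV (subset_closure (Or.inr (by rcases hbd with rfl | rfl <;> simp))) haE
    have h3 := gen b hb d hd
    rcases c.card_invariant (hRp.to_le hle) hi (hEV htE) with e | e | e | e <;> omega
  set W1 := closure ((E : Set H) ∪ {a, a}) with hW1
  set W2 := closure ((E : Set H) ∪ {a, a1}) with hW2
  set W3 := closure ((E : Set H) ∪ {a, a1, a2}) with hW3
  have ha1W : a1 ∉ W1 := fun h => noinv a haR a haR (Or.inl rfl) (c.inv_closure (by
    rintro v (hv | rfl | rfl)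
    · exact subset_closure (Or.inl (hEi.conj hv))
    · exact h
    · exact h))
  have ha2W : a2 ∉ W2 := fun h => noinv a haR a1 ha1R (Or.inl rfl) (c.inv_closure (by
    rintro v (hv | rfl | rfl)
    · exact subset_closure (Or.inl (hEi.conj hv))
    · exact subset_closure (Or.inr (Or.inr rfl))
    · exact h))
  have hW3R : W3 ≤ c.R := (closure_le _).2 (Set.union_subset hER
    (by rintro v (rfl | rfl | rfl); exacts [haR, ha1R, ha2R]))
  have hW3e : W3 = c.R := by
    refine eq_of_le_of_card_ge hW3R ?_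
    have h1 : 2 * Nat.card E ≤ Nat.card W1 :=
      two_mul_card_le (fun v hv => subset_closure (Or.inl hv)) (subset_closure (Or.inr (Or.inl rfl))) haE
    have h2 : 2 * Nat.card W1 ≤ Nat.card W2 :=
      two_mul_card_le ((closure_le _).2 (by
        rintro v (hv | rfl | rfl)
        · exact subset_closure (Or.inl hv)
        all_goals exact subset_closure (Or.inr (Or.inl rfl))))
        (subset_closure (Or.inr (Or.inr rfl))) ha1W
    have h3 : 2 * Nat.card W2 ≤ Nat.card W3 :=
      two_mul_card_le ((closure_le _).2 (by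
        rintro v (hv | rfl | rfl)
        · exact subset_closure (Or.inl hv)
        · exact subset_closure (Or.inr (Or.inl rfl))
        · exact subset_closure (Or.inr (Or.inr (Or.inl rfl)))))
        (subset_closure (Or.inr (Or.inr (Or.inr rfl)))) ha2W
    omega
  set D := closure ({⁅a, a1⁆, ⁅a, a2⁆, ⁅a1, a2⁆} : Set H) with hD
  have hcE : ∀ {b d : H}, b ∈ E → d ∈ E → b * d = d * b := fun hb hd => comm_of_mem_cen hd (hER hb)
  have hD8 : Nat.card D ≤ 8 := card_gen_three (hEsq _ (hab a haR a1 ha1R)) (hEsq _ (hab a haR a2 ha2R))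
    (hEsq _ (hab a1 ha1R a2 ha2R)) (hcE (hab a haR a2 ha2R) (hab a haR a1 ha1R))
    (hcE (hab a1 ha1R a2 ha2R) (hab a haR a1 ha1R)) (hcE (hab a1 ha1R a2 ha2R) (hab a haR a2 ha2R))
  have hbl : ∀ p ∈ c.R, (∀ v ∈ ({a, a1, a2} : Set H), ⁅p, v⁆ ∈ D) → ∀ q ∈ c.R, ⁅p, q⁆ ∈ D := by
    intro p hp hgen q hq
    rw [← hW3e] at hq
    suffices q ∈ c.R ∧ ⁅p, q⁆ ∈ D from this.2
    induction hq using closure_induction with
    | mem v hv =>
      refine ⟨hW3R (subset_closure hv), ?_⟩
      rcases hv with hv | hv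
      · rw [commutatorElement_eq_one_iff_mul_comm.2 (comm_of_mem_cen hv hp)]; exact one_mem _
      · exact hgen v hv
    | one => exact ⟨one_mem _, by simp⟩
    | mul b d _ _ ihb ihd =>
      refine ⟨mul_mem ihb.1 ihd.1, ?_⟩
      rw [show ⁅p, b * d⁆ = ⁅p, b⁆ * (b * ⁅p, d⁆ * b⁻¹) by simp [commutatorElement_def, mul_assoc],
        comm_of_mem_cen (hab p hp d ihd.1) ihb.1, mul_inv_cancel_right]
      exact mul_mem ihb.2 ihd.2
    | inv b _ ih =>
      refine ⟨inv_mem ih.1, ?_⟩
      rw [show ⁅p, b⁻¹⁆ = b⁻¹ * ⁅p, b⁆⁻¹ * b by simp [commutatorElement_def, mul_assoc],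
        comm_of_mem_cen (inv_mem (hab p hp b ih.1)) (inv_mem ih.1), inv_mul_cancel_right]
      exact inv_mem ih.2
  have hgen : ∀ v ∈ ({a, a1, a2} : Set H), ∀ q ∈ c.R, ⁅v, q⁆ ∈ D := by
    have m1 : ⁅a, a1⁆ ∈ D := subset_closure (by simp)
    have m2 : ⁅a, a2⁆ ∈ D := subset_closure (by simp)
    have m3 : ⁅a1, a2⁆ ∈ D := subset_closure (by simp)
    rintro v (rfl | rfl | rfl)
    · refine hbl _ haR ?_
      rintro w (rfl | rfl | rfl)
      exacts [by simp, m1, m2]
    · refine hbl _ ha1R ?_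
      rintro w (rfl | rfl | rfl)
      exacts [by rw [← commutatorElement_inv]; exact inv_mem m1, by simp, m3]
    · refine hbl _ ha2R ?_
      rintro w (rfl | rfl | rfl)
      exacts [by rw [← commutatorElement_inv]; exact inv_mem m2,
        by rw [← commutatorElement_inv]; exact inv_mem m3, by simp]
  have hall : ⁅c.R, c.R⁆ ≤ D := commutator_le.2 fun p hp q hq => hbl p hp (fun v hv => by
    rw [← commutatorElement_inv]; exact inv_mem (hgen v hv p hp)) q hq
  obtain ⟨p, hp, q, hq, hpq⟩ : ∃ p ∈ c.R, ∃ q ∈ c.R, ⁅p, q⁆ ∉ zpowers c.t := by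
    by_contra h; push Not at h; exact hnot h
  have hu : c.u ∈ ⁅c.R, c.R⁆ := by
    have hv : ⁅p, q⁆ ∈ O := hOe.ge ⟨hab p hp q hq, fun h => hpq (c.mem_zt.2 h)⟩
    obtain ⟨-, h, hh⟩ := hv
    have := (inferInstance : (⁅c.R, c.R⁆).Normal).conj_mem _ (commutator_mem_commutator hp hq) h⁻¹
    rw [← hh] at this
    simpa [mul_assoc] using this
  have hOD : O ∪ {1} ⊆ (D : Set H) := by
    rintro v (⟨-, h, rfl⟩ | rfl)
    · exact hall ((inferInstance : (⁅c.R, c.R⁆).Normal).conj_mem _ hu h)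
    · exact one_mem D
  have hle := Set.ncard_le_ncard hOD (Set.toFinite _)
  rw [Set.ncard_union_eq (Set.disjoint_singleton_right.2 fun h => (hOs h).2 (Or.inl rfl)) (Set.toFinite _)
    (Set.toFinite _), Set.ncard_singleton, ← Nat.card_coe_set_eq (D : Set H)] at hle
  have : Nat.card ((D : Set H) : Type u) = Nat.card D := rfl
  omega

end CT

end CfsgLib.ClassK.M24Nse
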