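import Cfsg.Agent.Lib.ClassK.M24Nse.CentTAux
import Cfsg.Agent.Lib.ClassK.M24Nse.CentTSixteen
import Cfsg.Agent.Lib.Coprime.SymplecticType

/-!
The largest normal 2-subgroup of the centralizer is extraspecial of order 128.
-/

set_option autoImplicit false
set_option linter.unusedSectionVars false

namespace CfsgLib.ClassK.M24Nse

open Subgroup
open scoped commutatorElement

universe u

namespace CT

variable {H : Type u} [Group H] [Finite H] (c : CT H)

theorem extraspecial_of (h128 : Nat.card c.R = 128)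
    (hder : ∀ a ∈ c.R, ∀ b ∈ c.R, ⁅a, b⁆ ∈ zpowers c.t) (hsq : ∀ a ∈ c.R, a * a ∈ zpowers c.t)
    (hcen : cen c.R = zpowers c.t) : Cfsg.IsExtraspecial 2 c.R := by
  have : Fact (2 : ℕ).Prime := ⟨Nat.prime_two⟩
  have hKR : zpowers c.t ≤ c.R := zpowers_le.2 c.t_mem_R
  refine CfsgLib.Coprime.isExtraspecial_of_central c.isPGroup_R ((zpowers c.t).subgroupOf c.R)
    (by rw [Nat.card_congr (subgroupOfEquivOfLe hKR).toEquiv, c.card_zt]) ?_
    (fun a b => mem_subgroupOf.2 (hder a a.2 b b.2))
    (fun a => mem_subgroupOf.2 (by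
      rw [SubgroupClass.coe_pow, pow_two]
      exact hsq a a.2)) ?_
  · ext y
    rw [mem_center_iff, mem_subgroupOf, ← hcen]
    exact ⟨fun h => ⟨y.2, mem_centralizer_iff.2 fun g hg => congrArg Subtype.val (h ⟨g, hg⟩)⟩,
      fun h g => Subtype.ext (comm_of_mem_cen h g.2)⟩
  · intro h
    have h1 := congrArg (fun K : Subgroup c.R => Nat.card K) h
    simp only [card_top, Nat.card_congr (subgroupOfEquivOfLe hKR).toEquiv, c.card_zt, h128] at h1
    omega

theorem sq_mem_closure {s : Set H} (hder : ∀ a ∈ closure s, ∀ b ∈ closure s, ⁅a, b⁆ ∈ zpowers c.t)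
    (hs : ∀ a ∈ s, a * a ∈ zpowers c.t) : ∀ a ∈ closure s, a * a ∈ zpowers c.t := by
  intro a ha
  induction ha using closure_induction with
  | mem a ha => exact hs a ha
  | one => simp
  | mul a b ha hb iha ihb =>
    rw [show a * b * (a * b) = a * ⁅b, a⁆ * a⁻¹ * (a * a) * (b * b) by simp [commutatorElement_def, mul_assoc]]
    exact mul_mem (mul_mem (c.zt_normal.conj_mem _ (hder b hb a ha) a) iha) ihb
  | inv a _ iha => rw [← mul_inv_rev]; exact inv_mem iha

/-- An element of order 3 normalising `⟨x⟩`. -/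
theorem exists_three : ∃ y : H, y ^ 3 = 1 ∧
    ∀ {V : Subgroup H}, IsPGroup 2 V → ∀ v ∈ V, v * y = y * v →
      v * (c.x * y * c.x⁻¹) = c.x * y * c.x⁻¹ * v → v = 1 ∨ v = c.t := by
  have : Fact (3 : ℕ).Prime := ⟨Nat.prime_three⟩
  have : Fact (7 : ℕ).Prime := ⟨by norm_num⟩
  obtain ⟨⟨y, hyN⟩, hy⟩ := exists_prime_orderOf_dvd_card' 3
    (G := normalizer (zpowers c.x : Set H)) (by rw [c.card_norm_x]; norm_num)
  rw [Subgroup.orderOf_mk] at hy
  refine ⟨y, hy ▸ pow_orderOf_eq_one y, fun {V} hV v hv h1 h2 => ?_⟩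
  have hd : y⁻¹ * (c.x * y * c.x⁻¹) ∈ zpowers c.x := by
    rw [show y⁻¹ * (c.x * y * c.x⁻¹) = (y⁻¹ * c.x * y) * c.x⁻¹ by simp [mul_assoc]]
    exact mul_mem ((mem_normalizer_iff''.1 hyN c.x).1 (mem_zpowers _)) (inv_mem (mem_zpowers _))
  have hd1 : y⁻¹ * (c.x * y * c.x⁻¹) ≠ 1 := fun h => by
    have h' : c.x * y * c.x⁻¹ = y := (inv_mul_eq_one.1 h).symm
    have hc : y ∈ centralizer ({c.x} : Set H) :=
      mem_centralizer_singleton_iff.2 (mul_inv_eq_iff_eq_mul.1 h').symm
    have := orderOf_dvd_natCard _ hc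
    rw [hy, c.cent_x] at this
    omega
  have hcm : Commute v (y⁻¹ * (c.x * y * c.x⁻¹)) := by
    have h1' : Commute v y := h1
    have h2' : Commute v (c.x * y * c.x⁻¹) := h2
    exact h1'.inv_right.mul_right h2'
  obtain ⟨m, hm⟩ := mem_zpowers_iff.1 (mem_zpowers_of_prime_card c.card_zx
    (g := ⟨_, hd⟩) (g' := ⟨c.x, mem_zpowers _⟩) (fun h => hd1 (congrArg Subtype.val h)))
  have hm' : (y⁻¹ * (c.x * y * c.x⁻¹)) ^ m = c.x := congrArg Subtype.val hm
  have h3 := hcm.zpow_right m
  rw [hm'] at h3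
  exact c.mem_zt_of_commute hV hv h3.eq

variable {c}

/-- The conjugates of `u` by powers of `x` inside `R` have commutators in `⟨t⟩`. -/
theorem Frame.U_comm (F : Frame c) (hu : c.u ∈ c.R) (i j : ℕ) :
    ⁅c.x ^ i * c.u * (c.x ^ i)⁻¹, c.x ^ j * c.u * (c.x ^ j)⁻¹⁆ ∈ zpowers c.t := by
  have hui : ∀ k : ℕ, c.x ^ k * c.u * (c.x ^ k)⁻¹ ∈ c.R := fun k => c.R_normal.conj_mem _ hu _
  have hc : ∀ (k : ℕ) (a : H), a ∈ c.R → ⁅a, c.x ^ k * c.u * (c.x ^ k)⁻¹⁆ = 1 ∨
      ⁅a, c.x ^ k * c.u * (c.x ^ k)⁻¹⁆ = c.x ^ k * F.z * (c.x ^ k)⁻¹ := fun k a ha => by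
    rw [show ⁅a, c.x ^ k * c.u * (c.x ^ k)⁻¹⁆ = c.x ^ k * ⁅(c.x ^ k)⁻¹ * a * c.x ^ k, c.u⁆ * (c.x ^ k)⁻¹ by
      simp [commutatorElement_def, mul_assoc]]
    rcases F.comm_u (F.hR (show (c.x ^ k)⁻¹ * a * c.x ^ k ∈ c.R by
      simpa using c.R_normal.conj_mem a ha (c.x ^ k)⁻¹)) with h | h <;> rw [h]
    · exact Or.inl (by simp)
    · exact Or.inr rfl
  by_cases hne : ⁅c.x ^ i * c.u * (c.x ^ i)⁻¹, c.x ^ j * c.u * (c.x ^ j)⁻¹⁆ = 1
  · rw [hne]; exact one_mem _
  by_cases hzt : F.z = c.t
  · rw [(hc j _ (hui i)).resolve_left hne, hzt, c.htc, mul_inv_cancel_right]; exact mem_zpowers _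
  exfalso
  have hne' : ⁅c.x ^ j * c.u * (c.x ^ j)⁻¹, c.x ^ i * c.u * (c.x ^ i)⁻¹⁆ ≠ 1 := fun h => hne (by
    rw [← commutatorElement_inv, h, inv_one])
  have hzi : c.x ^ j * F.z * (c.x ^ j)⁻¹ = c.x ^ i * F.z * (c.x ^ i)⁻¹ := by
    rw [← (hc j _ (hui i)).resolve_left hne, ← commutatorElement_inv, (hc i _ (hui j)).resolve_left hne']
    refine inv_eq_of_mul_eq_one_left ?_
    calc c.x ^ i * F.z * (c.x ^ i)⁻¹ * (c.x ^ i * F.z * (c.x ^ i)⁻¹)
        = c.x ^ i * (F.z * F.z) * (c.x ^ i)⁻¹ := by simp [mul_assoc]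
      _ = 1 := by rw [F.z_sq]; simp
  have key : ∀ a b : ℕ, a ≤ b → c.x ^ a * F.z * (c.x ^ a)⁻¹ = c.x ^ b * F.z * (c.x ^ b)⁻¹ →
      c.x ^ a = c.x ^ b := by
    intro a b hab he
    obtain ⟨d, rfl⟩ := Nat.exists_eq_add_of_le hab
    by_cases hd : d % 7 = 0
    · rw [pow_add, ← pow_mod_orderOf c.x d, c.hx, hd, pow_zero, mul_one]
    · exfalso
      have : c.x ^ d * F.z * (c.x ^ d)⁻¹ = F.z := by
        have h' := congrArg (fun w => (c.x ^ a)⁻¹ * w * c.x ^ a) he
        simp [pow_add, mul_assoc] at h'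
        simp only [← mul_assoc] at h'
        exact h'.symm
      rcases c.conj_pow_eq hd F.hT F.z_mem_T this with h | h
      · exact F.z_ne h
      · exact hzt h
  have hij : c.x ^ i = c.x ^ j := by
    rcases le_total i j with hle | hle
    · exact key i j hle hzi.symm
    · exact (key j i hle hzi).symm
  exact hne (by rw [hij, commutatorElement_self])

variable (c)

/-- The radical in the case of order 128. -/
theorem small [IsSimpleGroup (H ⧸ c.R)] (h128 : Nat.card c.R = 128) (hq : Nat.card (H ⧸ c.R) = 168)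
    (hC : centralizer (c.R : Set H) ≤ c.R) : Cfsg.IsExtraspecial 2 c.R := by
  classical
  obtain ⟨F⟩ := c.nonempty_frame
  have : Fact (2 : ℕ).Prime := ⟨Nat.prime_two⟩
  have hRi : c.Inv c.R := c.inv_of_normal _
  have hRp := c.isPGroup_R
  have huzt : c.u ∉ zpowers c.t := fun hu => by
    rcases c.mem_zt.1 hu with h | h
    · exact c.u_ne h
    · exact c.hut h
  -- `R` is not abelian
  have hnab : ¬ IsMulCommutative c.R := by
    intro hab
    by_cases hu : c.u ∈ c.R
    · exact c.not_ab c.R (c.le_cent_u hab hu) h128 hab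
    set P := c.R ⊓ F.S with hP
    have hPab : ∀ a ∈ P, ∀ b ∈ P, a * b = b * a := fun a ha b hb =>
      comm_of_isMulCommutative hab ha.1 hb.1
    have h64 : 128 ≤ 2 * Nat.card P := by
      rw [← h128]
      by_cases hle : c.R ≤ F.S
      · rw [hP, inf_eq_left.2 hle]; omega
      obtain ⟨a, ha, haS⟩ := SetLike.not_le_iff_exists.1 hle
      let f : c.R → P × Bool := fun b => if hb : (b : H) ∈ F.S then (⟨b, mem_inf.2 ⟨b.2, hb⟩⟩, true) else
        (⟨a⁻¹ * b, mem_inf.2 ⟨mul_mem (inv_mem ha) b.2, F.mul_mem_S (F.hR ha) (F.hR b.2) haS hb⟩⟩, false)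
      have hf : Function.Injective f := by
        intro b b' h
        simp only [f] at h
        split_ifs at h <;> simpa using congrArg (fun p : P × Bool => ((p.1 : H), p.2)) h
      have := Nat.card_le_card_of_injective f hf
      rw [Nat.card_prod, Nat.card_eq_fintype_card (α := Bool), Fintype.card_bool] at this
      omega
    set B := closure ((P : Set H) ∪ {c.u}) with hB
    have hBc : B ≤ centralizer ({c.u} : Set H) := by
      rw [hB, closure_le]
      rintro v (hv | rfl)
      · exact F.hSu hv.2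
      · exact mem_centralizer_singleton_iff.2 rfl
    have hBab : IsMulCommutative B := by
      refine isMulCommutative_closure ?_
      rintro a (ha | rfl) b (hb | rfl)
      · exact hPab a ha b hb
      · exact mem_centralizer_singleton_iff.1 (F.hSu ha.2)
      · exact (mem_centralizer_singleton_iff.1 (F.hSu hb.2)).symm
      · rfl
    have hBS : B ≤ F.S := (closure_le _).2
      (Set.union_subset (fun a ha => ha.2) (Set.singleton_subset_iff.2 F.uS))
    refine c.no_abelian_ge (F.hT.to_le (hBS.trans F.hST)) hBc hBab ?_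
    have h2 : 2 * Nat.card P ≤ Nat.card B := two_mul_card_le (fun a ha => subset_closure (Or.inl ha) : P ≤ B)
      (subset_closure (Or.inr rfl) : c.u ∈ B) (fun h => hu h.1)
    omega
  have hEn : (cen c.R).Normal := by
    unfold cen; infer_instance
  have hzC : F.z ∈ cen c.R := by
    have h1 : F.z ∈ centralizer (c.R : Set H) :=
      mem_centralizer_iff.2 fun a ha => F.z_central (F.hR ha)
    exact ⟨hC h1, h1⟩
  have htE : c.t ∈ cen c.R := ⟨c.t_mem_R, mem_centralizer_iff.2 fun a _ => c.htc a⟩
  -- `u` lies in `R`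
  have huR : c.u ∈ c.R := by
    refine c.modCent_le hq (cen c.R) htE inf_le_left (fun h => hnab
      (isMulCommutative_of_cen (P := c.R) (by rw [h]))) ?_
    intro r hr
    rw [← commutatorElement_inv]
    rcases F.comm_u (F.hR hr) with h | h <;> rw [h]
    · simp
    · exact inv_mem hzC
  have hui : ∀ k : ℕ, c.x ^ k * c.u * (c.x ^ k)⁻¹ ∈ c.R := fun k => c.R_normal.conj_mem _ huR _
  have hU : c.U ⊆ (c.R : Set H) := by rintro _ ⟨i, rfl⟩; exact hui i
  rcases c.cen_cases hRp hRi c.t_mem_R with hE | hE | hE | hE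
  · -- the center is `⟨t⟩`
    have hEt : cen c.R = zpowers c.t :=
      (eq_of_le_of_card_ge (zpowers_le.2 htE) (by rw [hE, c.card_zt])).symm
    have hzt : F.z = c.t := (c.mem_zt.1 (hEt.le hzC)).resolve_left F.z_ne
    set A := closure (Set.range (fun h : H => h * c.u * h⁻¹) ∪ {c.t}) with hA
    have hAn : A.Normal := by
      refine ⟨fun a ha g => ?_⟩
      have hle : A ≤ A.comap (MulAut.conj g).toMonoidHom := (closure_le _).2 fun v hv => subset_closure (by
        rcases hv with ⟨h, rfl⟩ | rfl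
        · exact Or.inl ⟨g * h, by simp [mul_assoc]⟩
        · exact Or.inr (show g * c.t * g⁻¹ = c.t by rw [c.htc, mul_inv_cancel_right]))
      exact hle ha
    have hAR : A ≤ c.R := (closure_le _).2 (Set.union_subset
      (by rintro _ ⟨h, rfl⟩; exact c.R_normal.conj_mem _ huR h) (Set.singleton_subset_iff.2 c.t_mem_R))
    have htA : c.t ∈ A := subset_closure (Or.inr rfl)
    have huA : c.u ∈ A := subset_closure (Or.inl ⟨1, by simp⟩)
    have hpair : ∀ p ∈ c.R, ∀ a ∈ A, ⁅p, a⁆ ∈ zpowers c.t := by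
      refine c.comm_closure ?_
      rintro p hp a (⟨h, rfl⟩ | rfl)
      · show ⁅p, h * c.u * h⁻¹⁆ ∈ zpowers c.t
        rw [show ⁅p, h * c.u * h⁻¹⁆ = h * ⁅h⁻¹ * p * h, c.u⁆ * h⁻¹ by
          simp [commutatorElement_def, mul_assoc]]
        refine c.zt_normal.conj_mem _ ?_ _
        rcases F.comm_u (F.hR (show h⁻¹ * p * h ∈ c.R by
          simpa using c.R_normal.conj_mem p hp h⁻¹)) with e | e <;> rw [e]
        · exact one_mem _
        · rw [hzt]; exact mem_zpowers _
      · rw [commutatorElement_eq_one_iff_mul_comm.2 (c.htc p)]; exact one_mem _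
    have hzA : zpowers c.t ≤ A := zpowers_le.2 htA
    have hRA : c.R ≤ normalizer (A : Set H) := (normalizer_eq_top_iff.2 hAn).ge.trans' le_top
    have hAi : c.Inv A := c.inv_of_normal A
    have hAp := hRp.to_le hAR
    have hderA : ∀ a ∈ A, ∀ b ∈ A, ⁅a, b⁆ ∈ zpowers c.t := fun a ha b hb => hpair a (hAR ha) b hb
    have hsA : ∀ a ∈ Set.range (fun h : H => h * c.u * h⁻¹) ∪ ({c.t} : Set H), a * a = 1 := by
      rintro a (⟨h, rfl⟩ | rfl)
      · calc _ = h * (c.u * c.u) * h⁻¹ := by simp [mul_assoc]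
          _ = 1 := by rw [c.u_sq]; simp
      · exact c.t_sq
    have huA' : 2 < Nat.card A := c.two_lt_card htA huA huzt
    have hAR' := card_le_of_le hAR
    rcases c.card_invariant hAp hAi htA with e | e | e | e
    · omega
    · -- `A` has order 16: show that all squares lie in `⟨t⟩`
      have hidx := pair_index c.card_zt c.zt_le_center hAR hRA hpair
      have hAZ : A ⊓ centralizer (c.R : Set H) = zpowers c.t :=
        le_antisymm (fun a ha => hEt ▸ ⟨hAR ha.1, ha.2⟩) (le_inf hzA fun a ha => (hEt.ge ha).2)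
      rw [hAZ, c.card_zt, h128, e] at hidx
      have hab : IsMulCommutative A := by
        obtain ⟨B, hBA, hBab, huB, hB⟩ := c.parity htA hderA huA
        rcases c.cen_cases hAp hAi htA with e' | e' | e' | e'
        · exact (sq_ne_32 _ (by rw [hB, e, e'])).elim
        · exact isMulCommutative_of_cen (e'.trans e.symm)
        all_goals
          have := card_cen_le A
          omega
      have hCA : c.R ⊓ centralizer (A : Set H) = A := (eq_of_le_of_card_ge
        (le_inf hAR fun a ha => mem_centralizer_iff.2 fun b hb => comm_of_isMulCommutative hab hb ha)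
        (by omega)).symm
      have hel : ∀ a ∈ A, a * a = 1 := by
        intro a ha
        induction ha using closure_induction with
        | mem a ha => exact hsA a ha
        | one => simp
        | mul a b ha hb iha ihb =>
          calc a * b * (a * b) = a * (b * a) * b := by simp [mul_assoc]
            _ = a * (a * b) * b := by rw [comm_of_isMulCommutative hab hb ha]
            _ = 1 := by rw [← mul_assoc a a b, iha, one_mul, ihb]
        | inv a _ iha => rw [← mul_inv_rev, iha, inv_one]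
      obtain ⟨hab', hsq'⟩ := c.step hRp hRi hAi htA hAR hRA (by omega)
      obtain ⟨y, hy3, hyx⟩ := c.exists_three
      have : Fact (3 : ℕ).Prime := ⟨Nat.prime_three⟩
      have : Fact (7 : ℕ).Prime := ⟨by norm_num⟩
      have hyA : y ∈ normalizer (A : Set H) := normalizer_eq_top_iff.2 hAn ▸ mem_top y
      -- an element outside `A` fixed by `y`
      obtain ⟨a0, ha0, ha0y, ha0A⟩ : ∃ a0 ∈ c.R, a0 * y = y * a0 ∧ a0 ∉ A := by
        by_contra hno
        push Not at hno
        have h1 := card_modEq_inf_cent (p := 3) hy3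
          (V := c.R) (normalizer_eq_top_iff.2 c.R_normal ▸ mem_top y)
        have h2 := card_modEq_inf_cent (p := 3) hy3 hyA
        have h3 : c.R ⊓ centralizer ({y} : Set H) = A ⊓ centralizer ({y} : Set H) :=
          le_antisymm (fun a ha => ⟨hno a ha.1 (mem_centralizer_singleton_iff.1 ha.2), ha.2⟩)
            (inf_le_inf_right _ hAR)
        rw [h3, h128] at h1
        rw [e] at h2
        unfold Nat.ModEq at h1 h2
        omega
      -- its square lies in `⟨t⟩`
      have hq0 : a0 * a0 ∈ zpowers c.t := by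
        by_contra hq
        set Aa := A ⊓ centralizer ({a0} : Set H) with hAa
        obtain ⟨b, hb, hbc⟩ : ∃ b ∈ A, b * a0 ≠ a0 * b := by
          by_contra hno
          push Not at hno
          exact ha0A (hCA.le ⟨ha0, mem_centralizer_iff.2 hno⟩)
        have hAa8 : Nat.card Aa = 8 := by
          have hlo : 2 * Nat.card Aa ≤ Nat.card A := two_mul_card_le (inf_le_left : Aa ≤ A) hb
            (fun h => hbc (mem_centralizer_singleton_iff.1 h.2))
          have hcm : ∀ v ∈ A, a0 * v * a0⁻¹ = v ∨ a0 * v * a0⁻¹ = v * c.t := fun v hv => by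
            have h' := c.mem_zt.1 (hpair a0 ha0 v hv)
            rw [show a0 * v * a0⁻¹ = ⁅a0, v⁆ * v by simp [commutatorElement_def]]
            rcases h' with h' | h' <;> rw [h']
            · exact Or.inl (one_mul v)
            · exact Or.inr (c.htc v).symm
          have hab2 : ∀ v ∈ A, v * a0 ≠ a0 * v → b⁻¹ * v ∈ Aa := fun v hv hvc => by
            refine mem_inf.2 ⟨mul_mem (inv_mem hb) hv, mem_centralizer_singleton_iff.2 ?_⟩
            have e1 := (hcm b hb).resolve_left fun h => hbc (mul_inv_eq_iff_eq_mul.1 h).symm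
            have e2 := (hcm v hv).resolve_left fun h => hvc (mul_inv_eq_iff_eq_mul.1 h).symm
            refine (mul_inv_eq_iff_eq_mul.1 ?_).symm
            calc a0 * (b⁻¹ * v) * a0⁻¹ = (a0 * b * a0⁻¹)⁻¹ * (a0 * v * a0⁻¹) := by simp [mul_assoc]
              _ = b⁻¹ * v := by
                rw [e1, e2, mul_inv_rev, c.t_inv, mul_assoc, ← mul_assoc b⁻¹ v, ← c.htc (b⁻¹ * v * c.t),
                  mul_assoc (b⁻¹ * v), c.t_sq, mul_one]
          let f : A → Aa × Bool := fun v => if hv : (v : H) * a0 = a0 * v then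
            (⟨v, mem_inf.2 ⟨v.2, mem_centralizer_singleton_iff.2 hv⟩⟩, true) else
            (⟨b⁻¹ * v, hab2 v v.2 hv⟩, false)
          have hf : Function.Injective f := by
            intro v v' h
            simp only [f] at h
            split_ifs at h <;> simpa using congrArg (fun p : Aa × Bool => ((p.1 : H), p.2)) h
          have := Nat.card_le_card_of_injective f hf
          rw [Nat.card_prod, Nat.card_eq_fintype_card (α := Bool), Fintype.card_bool, e] at this
          omega
        have hyAa : y ∈ normalizer (Aa : Set H) := by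
          refine mem_normalizer_iff.2 fun v => ?_
          have hc : a0 * y = y * a0 := ha0y
          have hc' : y⁻¹ * a0 * y = a0 := by rw [mul_assoc, hc, inv_mul_cancel_left]
          simp only [hAa, mem_inf, mem_centralizer_singleton_iff]
          refine and_congr (mem_normalizer_iff.1 hyA v) ⟨fun h => ?_, fun h => ?_⟩
          · calc y * v * y⁻¹ * a0 = y * (v * (y⁻¹ * a0 * y)) * y⁻¹ := by simp [mul_assoc]
              _ = y * (a0 * v) * y⁻¹ := by rw [hc', h]
              _ = a0 * (y * v * y⁻¹) := by rw [← mul_assoc y a0, ← hc]; simp [mul_assoc]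
          · calc v * a0 = y⁻¹ * (y * v * y⁻¹ * (y * a0 * y⁻¹)) * y := by simp [mul_assoc]
              _ = y⁻¹ * (a0 * (y * v * y⁻¹)) * y := by rw [← hc, mul_inv_cancel_right, h]
              _ = (y⁻¹ * a0 * y) * v := by simp [mul_assoc]
              _ = a0 * v := by rw [hc']
        obtain ⟨d, hd, hdc⟩ : ∃ d ∈ A ⊓ centralizer ({y} : Set H), d ∉ Aa := by
          by_contra hno
          push Not at hno
          have h1 := card_modEq_inf_cent (p := 3) hy3 hyA
          have h2 := card_modEq_inf_cent (p := 3) hy3 hyAa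
          have h3 : A ⊓ centralizer ({y} : Set H) = Aa ⊓ centralizer ({y} : Set H) :=
            le_antisymm (fun v hv => ⟨hno v hv, hv.2⟩) (inf_le_inf_right _ inf_le_left)
          rw [h3, e] at h1
          rw [hAa8] at h2
          unfold Nat.ModEq at h1 h2
          omega
        set K := A ⊓ centralizer ({y} : Set H) with hK
        have hK8 : 8 ≤ Nat.card K := by
          have h1 := two_mul_card_le (K := Aa ⊓ K) inf_le_right hd fun h => hdc h.1
          have h2 := two_mul_card_le (K := zpowers c.t) (L := Aa ⊓ K) (v := a0 * a0) (zpowers_le.2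
            ⟨⟨htA, mem_centralizer_singleton_iff.2 (c.htc a0).symm⟩, htA,
              mem_centralizer_singleton_iff.2 (c.htc y).symm⟩)
            ⟨⟨hsq' a0 ha0, mem_centralizer_singleton_iff.2 (mul_assoc _ _ _)⟩, hsq' a0 ha0,
              mem_centralizer_singleton_iff.2 (by rw [mul_assoc, ha0y, ← mul_assoc, ha0y, mul_assoc])⟩ hq
          rw [c.card_zt] at h2
          omega
        set K' := K.map (MulAut.conj c.x).toMonoidHom with hK'
        have hK'A : K' ≤ A := by
          rintro _ ⟨v, hv, rfl⟩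
          exact hAi.conj hv.1
        have h1 : K' ⊓ K ≤ zpowers c.t := by
          rintro v ⟨⟨w, hw, rfl⟩, hv⟩
          refine c.mem_zt.2 (hyx hAp _ hv.1 (mem_centralizer_singleton_iff.1 hv.2) ?_)
          have := mem_centralizer_singleton_iff.1 hw.2
          calc c.x * w * c.x⁻¹ * (c.x * y * c.x⁻¹) = c.x * (w * y) * c.x⁻¹ := by simp [mul_assoc]
            _ = c.x * (y * w) * c.x⁻¹ := by rw [this]
            _ = _ := by simp [mul_assoc]
        have hkA : Nat.card K' * Nat.card K ≤ Nat.card A * Nat.card (K' ⊓ K : Subgroup H) := by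
          let f : K' × K → A × (K' ⊓ K : Subgroup H) := fun p =>
            (⟨p.1 * p.2, mul_mem (hK'A p.1.2) p.2.2.1⟩,
              if h : ∃ q : K' × K, (q.1 : H) * q.2 = p.1 * p.2 then
                ⟨(h.choose.1 : H)⁻¹ * p.1, mem_inf.2 ⟨mul_mem (inv_mem h.choose.1.2) p.1.2, by
                  have := h.choose_spec
                  rw [show (h.choose.1 : H)⁻¹ * p.1 = (h.choose.2 : H) * (p.2 : H)⁻¹ by
                    rw [inv_mul_eq_iff_eq_mul, ← mul_assoc, this, mul_inv_cancel_right]]
                  exact mul_mem h.choose.2.2 (inv_mem p.2.2)⟩⟩ else 1)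
          have hf : Function.Injective f := by
            rintro ⟨p1, p2⟩ ⟨q1, q2⟩ h
            simp only [f] at h
            have hm : (p1 : H) * p2 = q1 * q2 := congrArg (fun r => ((r.1 : A) : H)) h
            rw [dif_pos ⟨(p1, p2), rfl⟩, dif_pos ⟨(q1, q2), rfl⟩] at h
            have h' : p1 = q1 := Subtype.ext (by
              simpa [hm] using congrArg (fun r => ((r.2 : (K' ⊓ K : Subgroup H)) : H)) h)
            subst h'
            exact Prod.ext rfl (Subtype.ext (mul_left_cancel hm))
          have := Nat.card_le_card_of_injective f hf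
          rwa [Nat.card_prod, Nat.card_prod] at this
        rw [hK', card_map_of_injective (MulAut.conj c.x).injective, e] at hkA
        have := card_le_of_le h1
        rw [c.card_zt] at this
        nlinarith
      -- all squares lie in `⟨t⟩`
      have hsq : ∀ r ∈ c.R, r * r ∈ zpowers c.t := by
        have hcoset : ∀ (k : ℕ), ∀ v ∈ A, (c.x ^ k * a0 * (c.x ^ k)⁻¹ * v) *
            (c.x ^ k * a0 * (c.x ^ k)⁻¹ * v) ∈ zpowers c.t := by
          intro k v hv
          set a := c.x ^ k * a0 * (c.x ^ k)⁻¹ with ha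
          have haR : a ∈ c.R := c.R_normal.conj_mem _ ha0 _
          have haa : a * a ∈ zpowers c.t := by
            rw [show a * a = c.x ^ k * (a0 * a0) * (c.x ^ k)⁻¹ by simp [ha, mul_assoc]]
            exact c.zt_normal.conj_mem _ hq0 _
          rw [show a * v * (a * v) = a * a * (⁅a⁻¹, v⁆ * (v * v)) by simp [commutatorElement_def, mul_assoc],
            hel v hv, mul_one]
          exact mul_mem haa (hpair _ (inv_mem haR) v hv)
        intro r hr
        by_cases hrA : r ∈ A
        · rw [hel r hrA]; exact one_mem _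
        let f : Fin 7 × A → {w : c.R // (w : H) ∉ A} := fun p =>
          ⟨⟨c.x ^ p.1.val * a0 * (c.x ^ p.1.val)⁻¹ * p.2,
            mul_mem (c.R_normal.conj_mem _ ha0 _) (hAR p.2.2)⟩, fun h => ha0A (by
              have := hAn.conj_mem _ ((A.mul_mem_cancel_right p.2.2).1 h) (c.x ^ p.1.val)⁻¹
              simpa [mul_assoc] using this)⟩
        have hinj : Function.Injective f := by
          have hstep : ∀ (i j : ℕ), i ≤ j → j < 7 →
              (c.x ^ i * a0 * (c.x ^ i)⁻¹)⁻¹ * (c.x ^ j * a0 * (c.x ^ j)⁻¹) ∈ A → i = j := by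
            intro i j hij hj hm
            obtain ⟨d, rfl⟩ := Nat.exists_eq_add_of_le hij
            by_contra hne
            have hm2 : a0⁻¹ * (c.x ^ d * a0 * (c.x ^ d)⁻¹) ∈ A := by
              have := hAn.conj_mem _ hm (c.x ^ i)⁻¹
              simpa [pow_add, mul_assoc] using this
            have hm3 : c.x ^ d * a0 * (c.x ^ d)⁻¹ * a0⁻¹ ∈ A := by
              have := hAn.conj_mem _ hm2 a0
              simpa [mul_assoc] using this
            have hd7 : c.x ^ d ∈ normalizer (A : Set H) := normalizer_eq_top_iff.2 hAn ▸ mem_top _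
            obtain ⟨n, hn, hfix⟩ := exists_fixed_coset (p := 7)
              (show (c.x ^ d) ^ 7 = 1 by rw [← pow_mul, mul_comm, pow_mul, ← c.hx, pow_orderOf_eq_one, one_pow])
              hd7 (by rw [e]; norm_num) hm3
            have hd0 : d % 7 ≠ 0 := by omega
            rcases c.conj_pow_eq hd0 hRp (mul_mem (hAR hn) ha0) hfix with h | h
            · exact ha0A ((A.mul_mem_cancel_left hn).1 (h ▸ one_mem A))
            · exact ha0A ((A.mul_mem_cancel_left hn).1 (h ▸ htA))
          rintro ⟨i, v⟩ ⟨j, w⟩ h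
          have hh : c.x ^ i.val * a0 * (c.x ^ i.val)⁻¹ * (v : H) =
              c.x ^ j.val * a0 * (c.x ^ j.val)⁻¹ * w :=
            congrArg (fun q : {w : c.R // (w : H) ∉ A} => ((q.1 : c.R) : H)) h
          have hij : i = j := by
            rcases le_total i.val j.val with hle | hle
            · refine Fin.ext (hstep _ _ hle j.isLt ?_)
              rw [show c.x ^ j.val * a0 * (c.x ^ j.val)⁻¹ =
                c.x ^ i.val * a0 * (c.x ^ i.val)⁻¹ * v * (w : H)⁻¹ by rw [hh, mul_inv_cancel_right],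
                mul_assoc (c.x ^ i.val * a0 * (c.x ^ i.val)⁻¹), inv_mul_cancel_left]
              exact mul_mem v.2 (inv_mem w.2)
            · refine (Fin.ext (hstep _ _ hle i.isLt ?_)).symm
              rw [show c.x ^ i.val * a0 * (c.x ^ i.val)⁻¹ =
                c.x ^ j.val * a0 * (c.x ^ j.val)⁻¹ * w * (v : H)⁻¹ by rw [← hh, mul_inv_cancel_right],
                mul_assoc (c.x ^ j.val * a0 * (c.x ^ j.val)⁻¹), inv_mul_cancel_left]
              exact mul_mem w.2 (inv_mem v.2)
          subst hij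
          exact Prod.ext rfl (Subtype.ext (mul_left_cancel hh))
        have hsurj : Function.Surjective f := by
          refine ((Nat.bijective_iff_injective_and_card f).2 ⟨hinj, ?_⟩).2
          rw [Nat.card_prod, Nat.card_fin, e]
          have hA' : Nat.card {w : c.R // (w : H) ∈ A} = 16 :=
            (Nat.card_congr (subgroupOfEquivOfLe hAR).toEquiv).trans e
          have hs := Nat.card_congr (Equiv.sumCompl fun w : c.R => (w : H) ∈ A)
          rw [Nat.card_sum, hA', h128] at hs
          omega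
        obtain ⟨⟨k, v⟩, hkv⟩ := hsurj ⟨⟨r, hr⟩, hrA⟩
        have hkv' : c.x ^ k.val * a0 * (c.x ^ k.val)⁻¹ * v = r :=
          congrArg (fun q : {w : c.R // (w : H) ∉ A} => ((q.1 : c.R) : H)) hkv
        rw [← hkv']
        exact hcoset _ _ v.2
      refine c.extraspecial_of h128 (fun a ha b hb => ?_) hsq hEt
      rw [show ⁅a, b⁆ = (a * b * (a * b)) * ((b⁻¹ * (a⁻¹ * a⁻¹) * b⁻¹⁻¹) * (b⁻¹ * b⁻¹)) by
        simp [commutatorElement_def, mul_assoc]]
      exact mul_mem (hsq _ (mul_mem ha hb))
        (mul_mem (c.zt_normal.conj_mem _ (hsq _ (inv_mem ha)) _) (hsq _ (inv_mem hb)))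
    · have hAe : A = c.R := eq_of_le_of_card_ge hAR (by rw [e, h128])
      refine c.extraspecial_of h128 (fun a ha b hb => hpair a ha b (hAe.ge hb)) (fun a ha => ?_) hEt
      refine c.sq_mem_closure hderA (fun v hv => ?_) a (hAe.ge ha)
      rw [hsA v hv]; exact one_mem _
    · omega
  · exact (c.false_of_sixteen F h128 huR hzC (fun i j => F.U_comm huR i j) hE).elim
  · exact absurd (isMulCommutative_of_cen (P := c.R) (by rw [hE, h128])) hnab
  · have := card_cen_le c.R
    omega

/-- `R = O₂(H)` is extraspecial of order 128 with quotient of order 168. -/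
theorem main : Cfsg.IsExtraspecial 2 c.R ∧ Nat.card c.R = 128 ∧ centralizer (c.R : Set H) ≤ c.R ∧
    IsSimpleGroup (H ⧸ c.R) ∧ Nat.card (H ⧸ c.R) = 168 := by
  rcases c.rad with ⟨h128, hq, hs, -, hC⟩ | h
  · exact ⟨c.small h128 hq hC, h128, hC, hs, hq⟩
  · exact (c.false_of_big h).elim

end CT

end CfsgLib.ClassK.M24Nse
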