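import Cfsg.Agent.Lib.Trans3.InnerCentral
import Mathlib.GroupTheory.QuotientGroup.Basic
import Mathlib.GroupTheory.SpecificGroups.Cyclic

/-!
A group whose commutators lie in a central subgroup of order two has, through any element, an abelian
subgroup `B` with `|B|² = |P| |Z(P)|`.
-/

set_option autoImplicit false
set_option linter.unusedSectionVars false

namespace CfsgLib.ClassK.M24Nse

open Subgroup
open scoped commutatorElement

universe u

variable {P : Type u} [Group P] [Finite P]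

theorem isMulCommutative_of_comm {S : Subgroup P} (h : ∀ a ∈ S, ∀ b ∈ S, a * b = b * a) :
    IsMulCommutative S := ⟨⟨fun a b => Subtype.ext (h a a.2 b b.2)⟩⟩

theorem comm_of_isMulCommutative {S : Subgroup P} (h : IsMulCommutative S) {a b : P} (ha : a ∈ S)
    (hb : b ∈ S) : a * b = b * a :=
  congrArg Subtype.val (h.is_comm.comm ⟨a, ha⟩ ⟨b, hb⟩)

variable {K : Subgroup P} (hK : Nat.card K = 2) (hKc : K ≤ center P) (hder : ∀ a b : P, ⁅a, b⁆ ∈ K)

include hKc hder in
theorem comm_mul_left (a a' b : P) : ⁅a * a', b⁆ = ⁅a, b⁆ * ⁅a', b⁆ := by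
  have h := mem_center_iff.1 (hKc (hder a' b))
  calc ⁅a * a', b⁆ = a * ⁅a', b⁆ * a⁻¹ * ⁅a, b⁆ := by simp [commutatorElement_def, mul_assoc]
    _ = ⁅a', b⁆ * ⁅a, b⁆ := by rw [h a, mul_inv_cancel_right]
    _ = _ := (h _).symm

include hKc hder in
theorem comm_mul_right (a b b' : P) : ⁅a, b * b'⁆ = ⁅a, b⁆ * ⁅a, b'⁆ := by
  have h := mem_center_iff.1 (hKc (hder a b'))
  calc ⁅a, b * b'⁆ = ⁅a, b⁆ * (b * ⁅a, b'⁆ * b⁻¹) := by simp [commutatorElement_def, mul_assoc]
    _ = _ := by rw [h b, mul_inv_cancel_right]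

include hK hKc hder in
/-- The abelian subgroup of maximal possible order. -/
theorem exists_abelian_sq (a0 : P) :
    ∃ B : Subgroup P, IsMulCommutative B ∧ a0 ∈ B ∧
      Nat.card B * Nat.card B = Nat.card P * Nat.card (center P) := by
  classical
  let p : Subgroup P → Prop := fun B => IsMulCommutative B ∧ a0 ∈ B ∧ center P ≤ B
  have h0 : p (centralizer ({a0} : Set P) ⊓ centralizer (centralizer ({a0} : Set P) : Set P)) := by
    refine ⟨isMulCommutative_of_comm fun a ha b hb => mem_centralizer_iff.1 hb.2 a ha.1,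
      ⟨mem_centralizer_singleton_iff.2 rfl, mem_centralizer_iff.2 fun y hy =>
        mem_centralizer_singleton_iff.1 hy⟩, le_inf (center_le_centralizer _) (center_le_centralizer _)⟩
  obtain ⟨B, -, hB, hmax⟩ := (Set.toFinite {B : Subgroup P | p B}).exists_le_maximal h0
  obtain ⟨hBc, ha0, hZB⟩ := hB
  refine ⟨B, hBc, ha0, ?_⟩
  have hcent : ∀ y : P, (∀ b ∈ B, y * b = b * y) → y ∈ B := by
    intro y hy
    have hcl : IsMulCommutative (closure ((B : Set P) ∪ {y})) := by
      refine isMulCommutative_closure ?_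
      rintro a (ha | rfl) b (hb | rfl)
      · exact comm_of_isMulCommutative hBc ha hb
      · exact (hy a ha).symm
      · exact hy b hb
      · rfl
    have hle : B ≤ closure ((B : Set P) ∪ {y}) := fun b hb => subset_closure (Or.inl hb)
    exact hmax ⟨hcl, hle ha0, hZB.trans hle⟩ hle (subset_closure (Or.inr rfl))
  have hBn : B.Normal := ⟨fun b hb g => by
    have h1 := hZB (hKc (hder g b))
    have : g * b * g⁻¹ = ⁅g, b⁆ * b := by simp [commutatorElement_def]
    rw [this]
    exact mul_mem h1 hb⟩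
  have hKcl : ∀ {a b : P} (h : ⁅a, b⁆ ∈ K), (⟨⁅a, b⁆, h⟩ : K) = 1 ↔ a * b = b * a := fun h =>
    ⟨fun e => commutatorElement_eq_one_iff_mul_comm.1 (congrArg Subtype.val e),
      fun e => Subtype.ext (commutatorElement_eq_one_iff_mul_comm.2 e)⟩
  -- cosets of `B` as homomorphisms of `B` modulo the centre
  let Z' := (center P).subgroupOf B
  have hZ'n : Z'.Normal := (inferInstance : ((center P).subgroupOf B).Normal)
  let f : P → (B ⧸ Z' →* K) := fun a => QuotientGroup.lift Z'
    { toFun := fun b => ⟨⁅a, (b : P)⁆, hder a b⟩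
      map_one' := Subtype.ext (commutatorElement_one_right a)
      map_mul' := fun b b' => Subtype.ext (comm_mul_right hKc hder a b b') }
    fun b hb => (hKcl (hder a b)).2 (mem_center_iff.1 (mem_subgroupOf.1 hb) a)
  have h1 : Nat.card (P ⧸ B) ≤ Nat.card (B ⧸ Z') := by
    refine le_trans ?_ (CfsgLib.Trans3.card_hom_to_order_two_le hK)
    have : Finite (B ⧸ Z' →* K) := Finite.of_injective _ DFunLike.coe_injective
    refine Nat.card_le_card_of_injective (fun q : P ⧸ B => f q.out) fun q q' hqq => ?_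
    rw [← QuotientGroup.out_eq' q, ← QuotientGroup.out_eq' q', QuotientGroup.eq]
    refine hcent _ fun b hb => commutatorElement_eq_one_iff_mul_comm.1 ?_
    have h : ⁅q.out, b⁆ = ⁅q'.out, b⁆ :=
      congrArg Subtype.val (DFunLike.congr_fun hqq (QuotientGroup.mk' Z' ⟨b, hb⟩))
    have h' : ⁅q.out * (q.out⁻¹ * q'.out), b⁆ = ⁅q.out, b⁆ := by rw [mul_inv_cancel_left, h]
    rw [comm_mul_left hKc hder] at h'
    exact mul_eq_left.1 h'
  let g : B → (P ⧸ B →* K) := fun b => QuotientGroup.lift B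
    { toFun := fun a => ⟨⁅a, (b : P)⁆, hder a b⟩
      map_one' := Subtype.ext (commutatorElement_one_left _)
      map_mul' := fun a a' => Subtype.ext (comm_mul_left hKc hder a a' b) }
    fun a ha => (hKcl (hder a b)).2 (comm_of_isMulCommutative hBc ha b.2)
  have h2 : Nat.card (B ⧸ Z') ≤ Nat.card (P ⧸ B) := by
    refine le_trans ?_ (CfsgLib.Trans3.card_hom_to_order_two_le hK)
    have : Finite (P ⧸ B →* K) := Finite.of_injective _ DFunLike.coe_injective
    refine Nat.card_le_card_of_injective (fun q : B ⧸ Z' => g q.out) fun q q' hqq => ?_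
    rw [← QuotientGroup.out_eq' q, ← QuotientGroup.out_eq' q', QuotientGroup.eq, mem_subgroupOf]
    refine mem_center_iff.2 fun a => commutatorElement_eq_one_iff_mul_comm.1 ?_
    have h : ⁅a, (q.out : P)⁆ = ⁅a, (q'.out : P)⁆ :=
      congrArg Subtype.val (DFunLike.congr_fun hqq (QuotientGroup.mk' B a))
    have h' : ⁅a, (q.out : P) * ((q.out : P)⁻¹ * q'.out)⁆ = ⁅a, (q.out : P)⁆ := by
      rw [mul_inv_cancel_left, h]
    rw [comm_mul_right hKc hder] at h'
    push_cast
    exact mul_eq_left.1 h'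
  have h3 := card_eq_card_quotient_mul_card_subgroup B
  have h4 := card_eq_card_quotient_mul_card_subgroup Z'
  have h5 : Nat.card Z' = Nat.card (center P) := Nat.card_congr (subgroupOfEquivOfLe hZB).toEquiv
  rw [h5] at h4
  rw [h3]
  have h6 : Nat.card (P ⧸ B) = Nat.card (B ⧸ Z') := le_antisymm h1 h2
  rw [h6]
  calc Nat.card B * Nat.card B = Nat.card (B ⧸ Z') * Nat.card (center P) * Nat.card B := by rw [← h4]
    _ = _ := by ring

/-- The same inside a subgroup. -/
theorem exists_abelian_sq_sub {H : Type u} [Group H] [Finite H] {P : Subgroup H} {t : H}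
    (ht : orderOf t = 2) (htP : t ∈ P) (htc : ∀ a ∈ P, a * t = t * a)
    (hder : ∀ a ∈ P, ∀ b ∈ P, ⁅a, b⁆ ∈ zpowers t) {a0 : H} (ha0 : a0 ∈ P) :
    ∃ B : Subgroup H, B ≤ P ∧ IsMulCommutative B ∧ a0 ∈ B ∧
      Nat.card B * Nat.card B = Nat.card P * Nat.card (P ⊓ centralizer (P : Set H) : Subgroup H) := by
  have hKP : zpowers t ≤ P := zpowers_le.2 htP
  obtain ⟨B, h1, h2, h3⟩ := exists_abelian_sq (K := (zpowers t).subgroupOf P)
    (by rw [Nat.card_congr (subgroupOfEquivOfLe hKP).toEquiv, Nat.card_zpowers, ht])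
    (fun k hk => mem_center_iff.2 fun g => Subtype.ext (by
      obtain ⟨i, hi⟩ := mem_zpowers_iff.1 (mem_subgroupOf.1 hk)
      show (g : H) * k = k * g
      rw [← hi]
      exact ((show Commute (g : H) t from htc g g.2).zpow_right i).eq))
    (fun a b => mem_subgroupOf.2 (hder a a.2 b b.2)) (⟨a0, ha0⟩ : P)
  refine ⟨B.map P.subtype, map_subtype_le B, ?_, ⟨_, h2, rfl⟩, ?_⟩
  · refine isMulCommutative_of_comm ?_
    rintro _ ⟨a, ha, rfl⟩ _ ⟨b, hb, rfl⟩
    exact congrArg Subtype.val (comm_of_isMulCommutative h1 ha hb)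
  · rw [card_map_of_injective P.subtype_injective, h3]
    congr 1
    rw [← card_map_of_injective P.subtype_injective]
    congr 2
    ext y
    constructor
    · rintro ⟨z, hz, rfl⟩
      exact ⟨z.2, mem_centralizer_iff.2 fun w hw =>
        congrArg Subtype.val (mem_center_iff.1 hz ⟨w, hw⟩)⟩
    · rintro ⟨hy, hy'⟩
      exact ⟨⟨y, hy⟩, mem_center_iff.2 fun w => Subtype.ext (mem_centralizer_iff.1 hy' _ w.2), rfl⟩

end CfsgLib.ClassK.M24Nse
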