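import Cfsg.Agent.Lib.ClassK.M24Nse.CentTRad
import Cfsg.Agent.Lib.ClassK.M24Nse.CentTParity

/-!
The commutator pairing of two subgroups into `⟨t⟩`, and steps between subgroups invariant under the
element of order 7.
-/

set_option autoImplicit false
set_option linter.unusedSectionVars false

namespace CfsgLib.ClassK.M24Nse

open Subgroup
open scoped commutatorElement

universe u

section Pair

variable {H : Type u} [Group H] [Finite H]

/-- The commutator pairing has isomorphic sides. -/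
theorem pair_index {P A K : Subgroup H} (hK : Nat.card K = 2) (hKc : K ≤ center H) (hAP : A ≤ P)
    (hn : P ≤ normalizer (A : Set H)) (hpair : ∀ p ∈ P, ∀ a ∈ A, ⁅p, a⁆ ∈ K) :
    Nat.card P * Nat.card (A ⊓ centralizer (P : Set H) : Subgroup H) =
      Nat.card A * Nat.card (P ⊓ centralizer (A : Set H) : Subgroup H) := by
  classical
  have hcen : ∀ {p a : H}, p ∈ P → a ∈ A → ∀ g : H, g * ⁅p, a⁆ = ⁅p, a⁆ * g := fun hp ha =>
    mem_center_iff.1 (hKc (hpair _ hp _ ha))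
  have hml : ∀ p ∈ P, ∀ q ∈ P, ∀ a ∈ A, ⁅p * q, a⁆ = ⁅p, a⁆ * ⁅q, a⁆ := fun p hp q hq a ha => by
    calc ⁅p * q, a⁆ = p * ⁅q, a⁆ * p⁻¹ * ⁅p, a⁆ := by simp [commutatorElement_def, mul_assoc]
      _ = ⁅q, a⁆ * ⁅p, a⁆ := by rw [hcen hq ha p, mul_inv_cancel_right]
      _ = _ := (hcen hq ha _).symm
  have hmr : ∀ p ∈ P, ∀ a ∈ A, ∀ b ∈ A, ⁅p, a * b⁆ = ⁅p, a⁆ * ⁅p, b⁆ := fun p hp a ha b hb => by
    calc ⁅p, a * b⁆ = ⁅p, a⁆ * (a * ⁅p, b⁆ * a⁻¹) := by simp [commutatorElement_def, mul_assoc]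
      _ = _ := by rw [hcen hp hb a, mul_inv_cancel_right]
  set C := P ⊓ centralizer (A : Set H) with hC
  set Z := A ⊓ centralizer (P : Set H) with hZ
  let C' := C.subgroupOf P
  let Z' := Z.subgroupOf A
  have hC'n : C'.Normal := ⟨fun c hc g => by
    refine mem_subgroupOf.2 ⟨(g * c * g⁻¹).2, mem_centralizer_iff.2 fun a ha => ?_⟩
    have h1 : (g : H)⁻¹ * a * g ∈ A := (mem_normalizer_iff''.1 (hn g.2) a).1 ha
    have h2 := mem_centralizer_iff.1 (mem_subgroupOf.1 hc).2 _ h1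
    push_cast
    calc a * (g * c * (g : H)⁻¹) = g * (((g : H)⁻¹ * a * g) * c) * (g : H)⁻¹ := by simp [mul_assoc]
      _ = g * (c * ((g : H)⁻¹ * a * g)) * (g : H)⁻¹ := by rw [h2]
      _ = _ := by simp [mul_assoc]⟩
  have hZ'n : Z'.Normal := ⟨fun z hz g => by
    have h2 := mem_centralizer_iff.1 (mem_subgroupOf.1 hz).2 (g : H) (hAP g.2)
    refine mem_subgroupOf.2 ?_
    push_cast
    rw [h2, mul_inv_cancel_right]
    exact mem_subgroupOf.1 hz⟩
  let f : P → (A ⧸ Z' →* K) := fun p => QuotientGroup.lift Z'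
    { toFun := fun a => ⟨⁅(p : H), (a : H)⁆, hpair p p.2 a a.2⟩
      map_one' := Subtype.ext (commutatorElement_one_right _)
      map_mul' := fun a b => Subtype.ext (hmr p p.2 a a.2 b b.2) }
    fun a ha => Subtype.ext (commutatorElement_eq_one_iff_mul_comm.2
      (mem_centralizer_iff.1 (mem_subgroupOf.1 ha).2 p p.2))
  let g : A → (P ⧸ C' →* K) := fun a => QuotientGroup.lift C'
    { toFun := fun p => ⟨⁅(p : H), (a : H)⁆, hpair p p.2 a a.2⟩
      map_one' := Subtype.ext (commutatorElement_one_left _)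
      map_mul' := fun p q => Subtype.ext (hml p p.2 q q.2 a a.2) }
    fun p hp => Subtype.ext (commutatorElement_eq_one_iff_mul_comm.2
      (mem_centralizer_iff.1 (mem_subgroupOf.1 hp).2 a a.2).symm)
  have h1 : Nat.card (P ⧸ C') ≤ Nat.card (A ⧸ Z') := by
    refine le_trans ?_ (CfsgLib.Trans3.card_hom_to_order_two_le hK)
    have : Finite (A ⧸ Z' →* K) := Finite.of_injective _ DFunLike.coe_injective
    refine Nat.card_le_card_of_injective (fun q : P ⧸ C' => f q.out) fun q q' hqq => ?_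
    rw [← QuotientGroup.out_eq' q, ← QuotientGroup.out_eq' q', QuotientGroup.eq, mem_subgroupOf]
    refine ⟨((q.out)⁻¹ * q'.out).2, mem_centralizer_iff.2 fun a ha => ?_⟩
    have h : ⁅(q.out : H), a⁆ = ⁅(q'.out : H), a⁆ :=
      congrArg Subtype.val (DFunLike.congr_fun hqq (QuotientGroup.mk' Z' ⟨a, ha⟩))
    have h' := hml q.out q.out.2 _ (mul_mem (inv_mem q.out.2) q'.out.2) a ha
    rw [mul_inv_cancel_left, ← h] at h'
    push_cast
    exact (commutatorElement_eq_one_iff_mul_comm.1 (mul_eq_left.1 h'.symm)).symm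
  have h2 : Nat.card (A ⧸ Z') ≤ Nat.card (P ⧸ C') := by
    refine le_trans ?_ (CfsgLib.Trans3.card_hom_to_order_two_le hK)
    have : Finite (P ⧸ C' →* K) := Finite.of_injective _ DFunLike.coe_injective
    refine Nat.card_le_card_of_injective (fun q : A ⧸ Z' => g q.out) fun q q' hqq => ?_
    rw [← QuotientGroup.out_eq' q, ← QuotientGroup.out_eq' q', QuotientGroup.eq, mem_subgroupOf]
    refine ⟨((q.out)⁻¹ * q'.out).2, mem_centralizer_iff.2 fun p hp => ?_⟩
    have h : ⁅p, (q.out : H)⁆ = ⁅p, (q'.out : H)⁆ :=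
      congrArg Subtype.val (DFunLike.congr_fun hqq (QuotientGroup.mk' C' ⟨p, hp⟩))
    have h' := hmr p hp q.out q.out.2 _ (mul_mem (inv_mem q.out.2) q'.out.2)
    rw [mul_inv_cancel_left, ← h] at h'
    push_cast
    exact commutatorElement_eq_one_iff_mul_comm.1 (mul_eq_left.1 h'.symm)
  have h3 := card_eq_card_quotient_mul_card_subgroup C'
  have h4 := card_eq_card_quotient_mul_card_subgroup Z'
  rw [Nat.card_congr (subgroupOfEquivOfLe (inf_le_left : C ≤ P)).toEquiv] at h3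
  rw [Nat.card_congr (subgroupOfEquivOfLe (inf_le_left : Z ≤ A)).toEquiv] at h4
  rw [h3, h4, le_antisymm h1 h2]
  ring

end Pair

namespace CT

variable {H : Type u} [Group H] [Finite H] (c : CT H)

/-- Invariance under `x`. -/
def Inv (c : CT H) (V : Subgroup H) : Prop := c.x ∈ normalizer (V : Set H)

theorem inv_of_map {V : Subgroup H} (h : ∀ v ∈ V, c.x * v * c.x⁻¹ ∈ V) : c.Inv V := by
  refine mem_normalizer_iff.2 fun v => ⟨h v, fun hv => ?_⟩
  have hfin : Set.MapsTo (fun y => c.x * y * c.x⁻¹) (V : Set H) V := fun y hy => h y hy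
  have hinj : Function.Injective fun y : H => c.x * y * c.x⁻¹ := fun a b h => by simpa using h
  obtain ⟨w, hw, hwv⟩ := (((Set.toFinite (V : Set H)).injOn_iff_bijOn_of_mapsTo hfin).1 hinj.injOn).surjOn hv
  rwa [← hinj hwv]

theorem Inv.conj {c : CT H} {V : Subgroup H} (h : c.Inv V) {v : H} (hv : v ∈ V) :
    c.x * v * c.x⁻¹ ∈ V := (mem_normalizer_iff.1 h v).1 hv

theorem inv_of_normal (V : Subgroup H) [V.Normal] : c.Inv V := c.x_mem_normalizer V

theorem Inv.inf {c : CT H} {V W : Subgroup H} (hV : c.Inv V) (hW : c.Inv W) : c.Inv (V ⊓ W) :=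
  c.inv_of_map fun _ hv => ⟨hV.conj hv.1, hW.conj hv.2⟩

theorem Inv.cent {c : CT H} {V : Subgroup H} (hV : c.Inv V) : c.Inv (centralizer (V : Set H)) :=
  c.inv_of_map fun v hv => mem_centralizer_iff.2 fun a ha => by
    have h1 : c.x⁻¹ * a * c.x ∈ V := (mem_normalizer_iff''.1 hV a).1 ha
    have h2 := mem_centralizer_iff.1 hv _ h1
    calc a * (c.x * v * c.x⁻¹) = c.x * ((c.x⁻¹ * a * c.x) * v) * c.x⁻¹ := by simp [mul_assoc]
      _ = c.x * (v * (c.x⁻¹ * a * c.x)) * c.x⁻¹ := by rw [h2]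
      _ = _ := by simp [mul_assoc]

theorem inv_closure {s : Set H} (hs : ∀ v ∈ s, c.x * v * c.x⁻¹ ∈ closure s) : c.Inv (closure s) :=
  c.inv_of_map fun v hv => by
    induction hv using closure_induction with
    | mem a ha => exact hs a ha
    | one => simp
    | mul a b _ _ iha ihb => simpa [mul_assoc] using mul_mem iha ihb
    | inv a _ iha => simpa [mul_assoc] using inv_mem iha

theorem Inv.commutator {c : CT H} {V W : Subgroup H} (hV : c.Inv V) (hW : c.Inv W) :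
    c.Inv ⁅V, W⁆ := by
  rw [Subgroup.commutator_def]
  refine c.inv_closure ?_
  rintro _ ⟨a, ha, b, hb, rfl⟩
  exact subset_closure ⟨_, hV.conj ha, _, hW.conj hb, by simp [commutatorElement_def, mul_assoc]⟩

/-- A small invariant 2-subgroup lies in `⟨t⟩`. -/
theorem le_zt_of_small {V : Subgroup H} (hV : IsPGroup 2 V) (hi : c.Inv V) (h : Nat.card V ≤ 4) :
    V ≤ zpowers c.t := by
  by_cases ht : c.t ∈ V
  · rcases c.card_invariant hV hi ht with h' | h' | h' | h'
    · exact (eq_of_le_of_card_ge (zpowers_le.2 ht) (by rw [h', c.card_zt])).ge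
    all_goals omega
  · rcases c.card_invariant' hV hi ht with h' | h' | h' | h'
    · rw [card_eq_one.1 h']; exact bot_le
    all_goals omega

theorem two_lt_card {V : Subgroup H} (ht : c.t ∈ V) {v : H} (hv : v ∈ V) (hv' : v ∉ zpowers c.t) :
    2 < Nat.card V := by
  rw [← c.card_zt]
  exact lt_of_le_of_ne (card_le_of_le (zpowers_le.2 ht)) fun h =>
    hv' ((eq_of_le_of_card_ge (zpowers_le.2 ht) h.ge).ge hv)

/-- Between `N` and a subgroup eight times as large there is nothing invariant: the quotient is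
elementary abelian. -/
theorem step {P N : Subgroup H} (hP : IsPGroup 2 P) (hPi : c.Inv P) (hNi : c.Inv N) (htN : c.t ∈ N)
    (hNP : N ≤ P) (hn : P ≤ normalizer (N : Set H)) (hcard : Nat.card P = 8 * Nat.card N) :
    (∀ a ∈ P, ∀ b ∈ P, ⁅a, b⁆ ∈ N) ∧ ∀ a ∈ P, a * a ∈ N := by
  classical
  have : Fact (2 : ℕ).Prime := ⟨Nat.prime_two⟩
  have hno : ∀ K : Subgroup H, N ≤ K → K ≤ P → c.Inv K → (∃ k ∈ K, k ∉ N) → K = P := by
    intro K h1 h2 h3 ⟨k, hk, hk'⟩
    refine eq_of_le_of_card_ge h2 ?_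
    have hlt : Nat.card N < Nat.card K := lt_of_le_of_ne (card_le_of_le h1) fun h =>
      hk' ((eq_of_le_of_card_ge h1 h.ge).ge hk)
    have hle := card_le_of_le h2
    rcases c.card_invariant (hP.to_le (hNP.trans le_rfl)) hNi htN with h | h | h | h <;>
      rcases c.card_invariant (hP.to_le h2) h3 (h1 htN) with h' | h' | h' | h' <;>
      rcases c.card_invariant hP hPi (hNP htN) with h'' | h'' | h'' | h'' <;> omega
  let N' := N.subgroupOf P
  have hN'n : N'.Normal := normal_subgroupOf_iff_le_normalizer hNP |>.2 hn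
  have hQ : IsPGroup 2 (P ⧸ N') := hP.to_quotient N'
  have hnt : Nontrivial (P ⧸ N') := by
    rw [← Finite.one_lt_card_iff_nontrivial]
    have h := card_eq_card_quotient_mul_card_subgroup N'
    rw [Nat.card_congr (subgroupOfEquivOfLe hNP).toEquiv, hcard] at h
    have := Nat.eq_of_mul_eq_mul_right Nat.card_pos h
    omega
  have hzt := hQ.center_nontrivial
  obtain ⟨⟨q, hq⟩, hq1⟩ := exists_ne (1 : center (P ⧸ N'))
  obtain ⟨a0, rfl⟩ := QuotientGroup.mk_surjective q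
  have hbil : ∀ a b, a ∈ P → b ∈ P → ∀ d ∈ P, ⁅a, d⁆ ∈ N → ⁅b, d⁆ ∈ N → ⁅a * b, d⁆ ∈ N := by
    intro a b ha hb d hd h1 h2
    rw [show ⁅a * b, d⁆ = a * ⁅b, d⁆ * a⁻¹ * ⁅a, d⁆ by simp [commutatorElement_def, mul_assoc]]
    exact mul_mem ((mem_normalizer_iff.1 (hn ha) _).1 h2) h1
  let D : Subgroup H :=
    { carrier := {a | a ∈ P ∧ ∀ d ∈ P, ⁅a, d⁆ ∈ N}
      one_mem' := ⟨one_mem _, fun d _ => by simp⟩
      mul_mem' := fun {a b} ha hb => ⟨mul_mem ha.1 hb.1, fun d hd =>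
        hbil a b ha.1 hb.1 d hd (ha.2 d hd) (hb.2 d hd)⟩
      inv_mem' := fun {a} ha => ⟨inv_mem ha.1, fun d hd => by
        have := (mem_normalizer_iff.1 (hn (inv_mem ha.1)) _).1 (inv_mem (ha.2 d hd))
        simpa [commutatorElement_def, mul_assoc] using this⟩ }
  have hD : D = P := by
    refine hno D (fun a ha => ⟨hNP ha, fun d hd => ?_⟩) (fun a ha => ha.1) (c.inv_of_map ?_) ⟨a0, ⟨a0.2, fun d hd => ?_⟩, ?_⟩
    · rw [show ⁅a, d⁆ = a * (d * a⁻¹ * d⁻¹) by simp [commutatorElement_def, mul_assoc]]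
      exact mul_mem ha ((mem_normalizer_iff.1 (hn hd) _).1 (inv_mem ha))
    · rintro a ⟨ha, h⟩
      refine ⟨hPi.conj ha, fun d hd => ?_⟩
      have h1 := hNi.conj (h _ ((mem_normalizer_iff''.1 hPi d).1 hd))
      simpa [commutatorElement_def, mul_assoc] using h1
    · have h1 : QuotientGroup.mk' N' ⁅a0, ⟨d, hd⟩⁆ = 1 := by
        rw [map_commutatorElement, commutatorElement_eq_one_iff_mul_comm]
        exact (mem_center_iff.1 hq _).symm
      exact mem_subgroupOf.1 ((QuotientGroup.eq_one_iff _).1 h1)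
    · exact fun h => hq1 (Subtype.ext ((QuotientGroup.eq_one_iff _).2 (mem_subgroupOf.2 h)))
  have hab : ∀ a ∈ P, ∀ b ∈ P, ⁅a, b⁆ ∈ N := fun a ha b hb => (hD.ge ha).2 b hb
  refine ⟨hab, fun a ha => ?_⟩
  let E : Subgroup H :=
    { carrier := {a | a ∈ P ∧ a * a ∈ N}
      one_mem' := ⟨one_mem _, by simp⟩
      mul_mem' := fun {a b} ha hb => ⟨mul_mem ha.1 hb.1, by
        rw [show a * b * (a * b) = a * ⁅b, a⁆ * a⁻¹ * (a * a) * (b * b) by
          simp [commutatorElement_def, mul_assoc]]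
        exact mul_mem (mul_mem ((mem_normalizer_iff.1 (hn ha.1) _).1 (hab _ hb.1 _ ha.1)) ha.2) hb.2⟩
      inv_mem' := fun {a} ha => ⟨inv_mem ha.1, by rw [← mul_inv_rev]; exact inv_mem ha.2⟩ }
  suffices E = P from (this.ge ha).2
  have hq8 : (2 : ℕ) ∣ Nat.card (P ⧸ N') := by
    obtain ⟨n, hn'⟩ := IsPGroup.iff_card.1 hQ
    rw [hn']
    refine dvd_pow_self 2 fun h => ?_
    rw [h, pow_zero] at hn'
    exact absurd hn' (Finite.one_lt_card.ne')
  obtain ⟨w, hw⟩ := exists_prime_orderOf_dvd_card' 2 hq8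
  obtain ⟨w, rfl⟩ := QuotientGroup.mk_surjective w
  refine hno E (fun a ha => ⟨hNP ha, mul_mem ha ha⟩) (fun a ha => ha.1) (c.inv_of_map ?_) ⟨w, ⟨w.2, ?_⟩, ?_⟩
  · rintro a ⟨ha, h⟩
    refine ⟨hPi.conj ha, ?_⟩
    simpa [mul_assoc] using hNi.conj h
  · have h := pow_orderOf_eq_one (w : P ⧸ N')
    rw [hw, pow_two, ← QuotientGroup.mk_mul, QuotientGroup.eq_one_iff] at h
    exact mem_subgroupOf.1 h
  · intro h
    rw [(QuotientGroup.eq_one_iff w).2 (mem_subgroupOf.2 h), orderOf_one] at hw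
    omega

end CT

end CfsgLib.ClassK.M24Nse
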