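import Cfsg.Agent.Lib.StructB.Misc
import Cfsg.Agent.Lib.Char.Burnside
import Cfsg.Agent.Lib.Solvable.MinNormal
import Mathlib.GroupTheory.Sylow

/-!
A group of order `2^a * 21` without normal 2-subgroups, in which an element of order 7 has
centralizer of order 7 and normalizer of order 21, is simple.
-/

set_option autoImplicit false
set_option linter.unusedSectionVars false

namespace CfsgLib.ClassK.M24Nse

open Subgroup

universe u

variable {X : Type u} [Group X] [Finite X]

/-- Fixed points of a `p`-element acting on a subgroup. -/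
theorem card_modEq_inf_cent {p : ℕ} [Fact p.Prime] {x : X} (hx : x ^ p = 1) {V : Subgroup X}
    (hV : x ∈ normalizer (V : Set X)) :
    Nat.card (V ⊓ centralizer ({x} : Set X) : Subgroup X) ≡ Nat.card V [MOD p] := by
  let φ : Equiv.Perm V :=
    { toFun := fun v => ⟨x * v.1 * x⁻¹, (mem_normalizer_iff.1 hV v.1).1 v.2⟩
      invFun := fun v => ⟨x⁻¹ * v.1 * x, ((mem_normalizer_iff''.1 hV v.1).1 v.2)⟩
      left_inv := fun v => Subtype.ext (by simp [mul_assoc])
      right_inv := fun v => Subtype.ext (by simp [mul_assoc]) }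
  have hpow : ∀ (k : ℕ) (v : V), (((φ ^ k) v : V) : X) = x ^ k * v * (x ^ k)⁻¹ := by
    intro k
    induction k with
    | zero => intro v; simp
    | succ k ih =>
      intro v
      rw [pow_succ', Equiv.Perm.mul_apply, pow_succ']
      show x * ((φ ^ k) v : X) * x⁻¹ = _
      rw [ih]
      simp [mul_assoc]
  have h := CfsgLib.StructB.card_fixed_modEq φ (q := p) (k := 1) (Equiv.ext fun v => Subtype.ext (by
    rw [pow_one, hpow p v, hx]
    simp))
  refine Eq.trans (congrArg (· % p) (Nat.card_congr ?_)) h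
  exact
    { toFun := fun v => ⟨⟨v.1, v.2.1⟩, Subtype.ext (by
        show x * v.1 * x⁻¹ = v.1
        rw [← mem_centralizer_singleton_iff.1 v.2.2, mul_inv_cancel_right])⟩
      invFun := fun v => ⟨v.1.1, v.1.2, mem_centralizer_singleton_iff.2
        (mul_inv_eq_iff_eq_mul.1 (congrArg Subtype.val v.2)).symm⟩
      left_inv := fun v => rfl
      right_inv := fun v => rfl }

theorem isSolvable_of_card_dvd {p : ℕ} (hp : p.Prime) {a : ℕ} {N : Subgroup X}
    (h : Nat.card N ∣ 2 ^ a * p) : Group.IsSolvable N := by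
  obtain ⟨i, j, hi, hj, hij⟩ := Nat.dvd_mul.1 h
  obtain ⟨k, -, rfl⟩ := (Nat.dvd_prime_pow Nat.prime_two).1 hi
  rcases (Nat.dvd_prime hp).1 hj with rfl | rfl
  · exact CfsgLib.Char.burnside_pq 2 p Nat.prime_two hp k 0 N (by rw [← hij, pow_zero])
  · exact CfsgLib.Char.burnside_pq 2 j Nat.prime_two hp k 1 N (by rw [← hij, pow_one])

/-- The simplicity criterion. -/
theorem isSimpleGroup_of_seven {a : ℕ} (ha : 0 < a) (hX : Nat.card X = 2 ^ a * 21)
    (h2 : ∀ N : Subgroup X, N.Normal → IsPGroup 2 N → N = ⊥) {x : X} (hx : orderOf x = 7)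
    (hC : Nat.card (centralizer ({x} : Set X)) = 7)
    (hN : Nat.card (normalizer (zpowers x : Set X)) = 21) :
    IsSimpleGroup X ∧ ¬ IsMulCommutative X := by
  have : Fact (7 : ℕ).Prime := ⟨by norm_num⟩
  have : Fact (3 : ℕ).Prime := ⟨Nat.prime_three⟩
  have h7 : ∀ m : ℕ, ¬ 7 ∣ 2 ^ m := fun m h => by
    have := (Nat.prime_dvd_prime_iff_eq (by norm_num) Nat.prime_two).1
      ((by norm_num : (7 : ℕ).Prime).dvd_of_dvd_pow h)
    omega
  have hxc : Nat.card (zpowers x) = 7 := by rw [Nat.card_zpowers, hx]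
  obtain ⟨P, hP⟩ : ∃ P : Sylow 7 X, (P : Subgroup X) = zpowers x := by
    obtain ⟨P, hP⟩ := (IsPGroup.of_card (p := 7) (n := 1) (by rw [hxc, pow_one])).exists_le_sylow
    refine ⟨P, (eq_of_le_of_card_ge hP ?_).symm⟩
    rw [P.card_eq_multiplicity, hX, hxc, show 2 ^ a * 21 = 2 ^ a * 3 * 7 by ring,
      Nat.factorization_mul (by positivity) (by norm_num), Finsupp.add_apply,
      Nat.factorization_eq_zero_of_not_dvd (fun h => by
        rcases (Nat.Prime.dvd_mul (by norm_num)).1 h with h | h
        · exact h7 a h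
        · omega), (by norm_num : (7 : ℕ).Prime).factorization_self]
    norm_num
  -- every minimal normal subgroup is the whole group
  have key : ∀ N : Subgroup X, N.Normal → N ≠ ⊥ →
      (∀ K : Subgroup X, K.Normal → K ≤ N → K = ⊥ ∨ K = N) → N = ⊤ := by
    intro N hNn hne hmin
    have hdvd : Nat.card N ∣ 2 ^ a * 21 := hX ▸ card_subgroup_dvd_card N
    have hxN : x ∈ normalizer (N : Set X) := normalizer_eq_top_iff.2 hNn ▸ mem_top x
    have hfix := card_modEq_inf_cent (p := 7) (hx ▸ pow_orderOf_eq_one x) hxN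
    have hnsol : ¬ Group.IsSolvable N := by
      intro hs
      obtain ⟨p, hp, hpN, hexp, -⟩ := CfsgLib.Solvable.exists_isPGroup_of_minimal_normal hne hmin
      have : Fact p.Prime := ⟨hp⟩
      obtain ⟨m, hm⟩ := IsPGroup.iff_card.1 hpN
      have hm0 : 0 < m := Nat.pos_of_ne_zero fun h => hne (card_eq_one.1 (by rw [hm, h, pow_zero]))
      have hpd : p ∣ 2 ^ a * 21 := (dvd_pow_self p hm0.ne').trans (hm ▸ hdvd)
      have hp237 : p = 2 ∨ p = 3 ∨ p = 7 := by
        rcases hp.dvd_mul.1 hpd with h | h
        · exact Or.inl ((Nat.prime_dvd_prime_iff_eq hp Nat.prime_two).1 (hp.dvd_of_dvd_pow h))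
        · have := Nat.le_of_dvd (by norm_num) h
          interval_cases p <;> revert h hp <;> norm_num
      have hcop : ∀ q : ℕ, q.Coprime 2 → p ^ m ∣ 2 ^ a * 21 → p = q → p ^ m ∣ 21 := fun q hq h he =>
        (Nat.Coprime.pow m a (he ▸ hq)).dvd_of_dvd_mul_left h
      rcases hp237 with rfl | rfl | rfl
      · exact hne (h2 N hNn hpN)
      · -- order 3: fixed by `x`
        have h3 : 3 ^ m ∣ 21 := hcop 3 (by norm_num) (hm ▸ hdvd) rfl
        have hm1 : m = 1 := by
          by_contra h
          have := (pow_dvd_pow 3 (show 2 ≤ m by omega)).trans h3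
          omega
        subst hm1
        have hd := card_dvd_of_le (inf_le_right : N ⊓ centralizer ({x} : Set X) ≤ _)
        have hd' := card_dvd_of_le (inf_le_left : N ⊓ centralizer ({x} : Set X) ≤ _)
        rw [hC] at hd
        rw [hm] at hd' hfix
        have := Nat.eq_one_of_dvd_coprimes (by norm_num : Nat.Coprime (3 ^ 1) 7) hd' hd
        rw [this] at hfix
        revert hfix
        unfold Nat.ModEq
        norm_num
      · -- order 7: the Sylow subgroup
        have hnP : N ≤ (P : Subgroup X) := by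
          obtain ⟨Q, hQ⟩ := hpN.exists_le_sylow
          obtain ⟨g, hg⟩ := MulAction.exists_smul_eq X Q P
          intro y hy
          have hy' : g⁻¹ * y * g ∈ (Q : Subgroup X) := hQ (by simpa using hNn.conj_mem y hy g⁻¹)
          rw [← hg, Sylow.coe_subgroup_smul, Subgroup.mem_pointwise_smul_iff_inv_smul_mem]
          simpa [MulAut.smul_def, mul_assoc] using hy'
        rw [hP] at hnP
        have hNx : N = zpowers x := eq_of_le_of_card_ge hnP (by
          rw [hxc, hm]; exact Nat.le_self_pow hm0.ne' 7)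
        have htop : normalizer (zpowers x : Set X) = ⊤ := normalizer_eq_top_iff.2 (hNx ▸ hNn)
        rw [htop, card_top, hX] at hN
        have : 2 ^ 1 ≤ 2 ^ a := Nat.pow_le_pow_right (by norm_num) ha
        omega
    have h7N : 7 ∣ Nat.card N := by
      by_contra h
      refine hnsol (isSolvable_of_card_dvd Nat.prime_three (a := a) ?_)
      rw [show 2 ^ a * 21 = 7 * (2 ^ a * 3) by ring] at hdvd
      exact (((by norm_num : (7 : ℕ).Prime).coprime_iff_not_dvd.2 h).symm).dvd_of_dvd_mul_left hdvd
    have hPN : (P : Subgroup X) ≤ N := by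
      obtain ⟨y, hy⟩ := exists_prime_orderOf_dvd_card' 7 h7N
      have hyc : Nat.card (zpowers (y : X)) = 7 ^ 1 := by
        rw [Nat.card_zpowers, orderOf_coe, hy, pow_one]
      obtain ⟨Q, hQ⟩ := (IsPGroup.of_card hyc).exists_le_sylow
      have hQN : (Q : Subgroup X) ≤ N := by
        rw [← eq_of_le_of_card_ge hQ (by
          rw [hyc, pow_one, Nat.card_congr (Q.equiv P).toEquiv, hP, hxc])]
        exact zpowers_le.2 y.2
      obtain ⟨g, hg⟩ := MulAction.exists_smul_eq X Q P
      intro z hz
      rw [← hg, Sylow.coe_subgroup_smul, Subgroup.mem_pointwise_smul_iff_inv_smul_mem] at hz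
      simpa [MulAut.smul_def, mul_assoc] using hNn.conj_mem _ (hQN hz) g
    have hsup : normalizer ((P : Subgroup X) : Set X) ⊔ N = ⊤ := Sylow.normalizer_sup_eq_top' P hPN
    rw [hP] at hsup hPN
    have hidx : N.index ∣ 3 := by
      have h1 : N.index = N.relIndex (normalizer (zpowers x : Set X)) := by
        rw [← relIndex_top_right, ← hsup, relIndex_sup_right]
      have h21 := (N.subgroupOf (normalizer (zpowers x : Set X))).index_mul_card
      rw [hN] at h21
      have h2' : 7 ∣ Nat.card (N.subgroupOf (normalizer (zpowers x : Set X))) :=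
        hxc ▸ (Nat.card_congr (subgroupOfEquivOfLe (le_normalizer : zpowers x ≤ _)).toEquiv) ▸
          card_dvd_of_le (fun z hz => hPN hz)
      obtain ⟨c, hc⟩ := h2'
      rw [hc] at h21
      rw [h1, relIndex]
      exact ⟨c, by
        apply Nat.eq_of_mul_eq_mul_left (show 0 < 7 by norm_num)
        rw [show 7 * 3 = 21 from rfl, ← h21]
        ring⟩
    rcases (Nat.dvd_prime Nat.prime_three).1 hidx with h | h
    · exact index_eq_one.1 h
    · refine (hnsol (isSolvable_of_card_dvd (p := 7) (by norm_num) (a := a) ?_)).elim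
      have := N.index_mul_card
      rw [h, hX] at this
      exact Dvd.intro 1 (by omega)
  have hnt : Nontrivial X := by
    rw [← Finite.one_lt_card_iff_nontrivial, hX]
    have := Nat.one_le_two_pow (n := a)
    omega
  have hsimple : IsSimpleGroup X := by
    refine ⟨fun N hN' => ?_⟩
    by_cases hne : N = ⊥
    · exact Or.inl hne
    · obtain ⟨M, hM, hMne, hMN, hmin⟩ := CfsgLib.Solvable.exists_minimal_normal_le hN' hne
      exact Or.inr (top_le_iff.1 (key M hM hMne hmin ▸ hMN))
  refine ⟨hsimple, fun hc => ?_⟩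
  have : centralizer ({x} : Set X) = ⊤ :=
    top_le_iff.1 fun y _ => mem_centralizer_singleton_iff.2 (hc.is_comm.comm y x)
  rw [this, card_top, hX] at hC
  have := Nat.one_le_two_pow (n := a)
  omega

end CfsgLib.ClassK.M24Nse
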