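import Cfsg.Agent.Lib.Transfer.SimpleCount
import Cfsg.Agent.Lib.Invol.Simple
import Cfsg.Agent.Lib.Recog.SimsThreeMain
import Mathlib.GroupTheory.Nilpotent
import Mathlib.GroupTheory.GroupAction.Primitive

/-!
There is no simple group of order `10752`: two Sylow 2-subgroups meet in order 128, so there would be
a subgroup of index 14 with an orbit of length 3 on its cosets.
-/

set_option autoImplicit false
set_option linter.unusedSectionVars false

namespace CfsgLib.ClassK.M24Nse

open Subgroup

universe u

variable {X : Type u} [Group X] [Finite X]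

theorem lt_inf_normalizer_of_lt {p : ℕ} [Fact p.Prime] {P D : Subgroup X} (hP : IsPGroup p P)
    (h : D < P) : D < P ⊓ normalizer (D : Set X) := by
  refine lt_of_le_of_ne (le_inf h.le le_normalizer) fun he => ?_
  have := hP.isNilpotent
  have hlt : D.subgroupOf P < ⊤ := lt_top_iff_ne_top.2 fun ht => h.not_ge (subgroupOf_eq_top.1 ht)
  obtain ⟨n, hn, hnD⟩ := SetLike.exists_of_lt (Group.normalizerCondition_of_isNilpotent _ hlt)
  refine hnD (mem_subgroupOf.2 (he.ge (mem_inf.2 ⟨n.2, ?_⟩)))
  rw [mem_normalizer_iff]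
  intro d
  constructor
  · intro hd
    exact mem_subgroupOf.1 ((mem_normalizer_iff.1 hn ⟨d, h.le hd⟩).1 (mem_subgroupOf.2 hd))
  · intro hd
    have hdP : d ∈ P := by
      have := mul_mem (mul_mem (inv_mem n.2) (h.le hd)) n.2
      simpa [mul_assoc] using this
    exact mem_subgroupOf.1 ((mem_normalizer_iff.1 hn ⟨d, hdP⟩).2 (mem_subgroupOf.2 hd))

/-- There is no simple group of order `10752`. -/
theorem false_of_simple_10752 [IsSimpleGroup X] (hX : Nat.card X = 10752) : False := by
  classical
  have : Fact (2 : ℕ).Prime := ⟨Nat.prime_two⟩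
  -- proper subgroups of order divisible by 256
  have hsub : ∀ K : Subgroup X, K ≠ ⊤ → 256 ∣ Nat.card K →
      Nat.card K = 256 ∨ Nat.card K = 512 ∨ Nat.card K = 768 := by
    intro K hK h256
    have h1 := CfsgLib.Invol.card_dvd_index_factorial hK
    rw [hX] at h1
    have hi : 8 ≤ K.index := by
      by_contra hlt
      have h2 := h1.trans (Nat.factorial_dvd_factorial (show K.index ≤ 7 by omega))
      norm_num [Nat.factorial] at h2
    have hmul := K.index_mul_card
    rw [hX] at hmul
    obtain ⟨j, hj⟩ := h256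
    rw [hj] at hmul
    have hle : j ≤ 5 := by nlinarith
    interval_cases j <;> omega
  have hne : ∀ K : Subgroup X, K ≠ ⊥ → K ≠ ⊤ → normalizer (K : Set X) ≠ ⊤ := fun K h1 h2 h3 =>
    (IsSimpleGroup.eq_bot_or_eq_top_of_normal K (normalizer_eq_top_iff.1 h3)).elim h1 h2
  have hcard : ∀ P : Sylow 2 X, Nat.card (P : Subgroup X) = 512 := fun P => by
    rw [P.card_eq_multiplicity, hX, show (10752 : ℕ) = 2 ^ 9 * 21 by norm_num,
      Nat.factorization_mul (by norm_num) (by norm_num), Nat.factorization_pow]
    simp [Nat.prime_two.factorization, Nat.factorization_eq_zero_of_not_dvd]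
  -- two Sylow subgroups meet in order at most 128
  have hint : ∀ P Q : Sylow 2 X, P ≠ Q → ∀ D : Subgroup X, D ≤ (P : Subgroup X) → D ≤ (Q : Subgroup X) →
      Nat.card D ≤ 128 := by
    intro P Q hPQ D hDP hDQ
    by_contra hgt
    obtain ⟨k, hk, hDk⟩ := (Nat.dvd_prime_pow Nat.prime_two).1
      (show Nat.card D ∣ 2 ^ 9 from (card_dvd_of_le hDP).trans (hcard P).dvd)
    have h512 : Nat.card D ≠ 512 := fun h => hPQ <| Sylow.ext <|
      (eq_of_le_of_card_ge hDP (by rw [hcard P, h])).symm.trans
        (eq_of_le_of_card_ge hDQ (by rw [hcard Q, h]))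
    have h256 : Nat.card D = 256 := by interval_cases k <;> omega
    have hN : ∀ R : Sylow 2 X, D ≤ (R : Subgroup X) → (R : Subgroup X) ≤ normalizer (D : Set X) := by
      intro R hR
      have hlt := lt_inf_normalizer_of_lt R.2
        (lt_of_le_of_ne hR fun h => by rw [h, hcard R] at h256; omega)
      have h1 := (card_dvd_of_le hlt.le)
      have h2 : Nat.card D < Nat.card ((R : Subgroup X) ⊓ normalizer (D : Set X) : Subgroup X) :=
        lt_of_le_of_ne (card_le_of_le hlt.le) fun h => hlt.ne (eq_of_le_of_card_ge hlt.le h.ge)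
      have h3 : Nat.card ((R : Subgroup X) ⊓ normalizer (D : Set X) : Subgroup X) ∣ 512 :=
        (hcard R) ▸ card_dvd_of_le inf_le_left
      rw [h256] at h1 h2
      obtain ⟨j, hj⟩ := h1
      have h4 := Nat.le_of_dvd (by norm_num) h3
      have h5 : Nat.card ((R : Subgroup X) ⊓ normalizer (D : Set X) : Subgroup X) = 512 := by omega
      exact inf_eq_left.1 (eq_of_le_of_card_ge inf_le_left (by rw [h5, hcard R]))
    have hDne : normalizer (D : Set X) ≠ ⊤ := hne D
      (fun h => by rw [h, card_bot] at h256; omega)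
      (fun h => by rw [h, card_top, hX] at h256; omega)
    have hP512 : 512 ∣ Nat.card (normalizer (D : Set X)) := hcard P ▸ card_dvd_of_le (hN P hDP)
    have h6 : Nat.card (normalizer (D : Set X)) = 512 := by
      rcases hsub _ hDne (dvd_trans (by norm_num) hP512) with h | h | h <;> omega
    exact hPQ <| Sylow.ext <| (eq_of_le_of_card_ge (hN P hDP) (by rw [hcard P, h6])).trans
      (eq_of_le_of_card_ge (hN Q hDQ) (by rw [hcard Q, h6])).symm
  -- two Sylow subgroups meeting in order 128
  obtain ⟨P, Q, hPQ, hidx⟩ : ∃ P Q : Sylow 2 X, P ≠ Q ∧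
      ((Q : Subgroup X).subgroupOf (P : Subgroup X)).index ≤ 4 := by
    refine CfsgLib.Transfer.exists_large_intersection 3 fun hm => ?_
    obtain ⟨P⟩ := (inferInstance : Nonempty (Sylow 2 X))
    have h1 := P.card_dvd_index
    have h2 := (P : Subgroup X).index_mul_card
    rw [hcard P, hX] at h2
    have h3 : (P : Subgroup X).index = 21 := by omega
    rw [h3] at h1
    have h4 := Nat.le_of_dvd (by norm_num) h1
    unfold Nat.ModEq at hm
    interval_cases hn : Nat.card (Sylow 2 X) <;> first | omega | skip
    -- a single Sylow subgroup would be normal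
    · have hPn : normalizer ((P : Subgroup X) : Set X) = ⊤ := by
        have := P.card_eq_index_normalizer
        rw [hn] at this
        exact index_eq_one.1 this.symm
      exact hne _ (fun h => by have := hcard P; rw [h, card_bot] at this; omega)
        (fun h => by have := hcard P; rw [h, card_top, hX] at this; omega) hPn
  set D := (P : Subgroup X) ⊓ (Q : Subgroup X) with hD
  have hD128 : Nat.card D = 128 := by
    refine le_antisymm (hint P Q hPQ D inf_le_left inf_le_right) ?_
    have h1 := ((Q : Subgroup X).subgroupOf (P : Subgroup X)).index_mul_card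
    have h2 : Nat.card ((Q : Subgroup X).subgroupOf (P : Subgroup X)) = Nat.card D := by
      rw [← inf_subgroupOf_left, ← hD]
      exact Nat.card_congr (subgroupOfEquivOfLe inf_le_left).toEquiv
    rw [h2, hcard P] at h1
    nlinarith
  -- the normalizer of the intersection
  set M := normalizer (D : Set X) with hM
  have hgt : ∀ R : Sylow 2 X, D ≤ (R : Subgroup X) →
      256 ∣ Nat.card ((R : Subgroup X) ⊓ M : Subgroup X) := by
    intro R hR
    have hlt := lt_inf_normalizer_of_lt R.2
      (lt_of_le_of_ne hR fun h => by rw [h, hcard R] at hD128; omega)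
    obtain ⟨k, hk, hk'⟩ := (Nat.dvd_prime_pow Nat.prime_two).1
      (show Nat.card ((R : Subgroup X) ⊓ M : Subgroup X) ∣ 2 ^ 9 from
        (card_dvd_of_le inf_le_left).trans (hcard R).dvd)
    have h2 : Nat.card D < Nat.card ((R : Subgroup X) ⊓ M : Subgroup X) :=
      lt_of_le_of_ne (card_le_of_le hlt.le) fun h => hlt.ne (eq_of_le_of_card_ge hlt.le h.ge)
    rw [hD128, hk'] at h2
    rw [hk']
    have h8 : 8 ≤ k := by
      by_contra hh
      interval_cases k <;> omega
    exact pow_dvd_pow 2 h8
  have hMne : M ≠ ⊤ := hne D (fun h => by rw [h, card_bot] at hD128; omega)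
    (fun h => by rw [h, card_top, hX] at hD128; omega)
  have hM768 : Nat.card M = 768 := by
    have key : ∀ k : ℕ, Nat.card M = 2 ^ k → False := by
      intro k hk
      obtain ⟨R, hR⟩ := (IsPGroup.of_card hk).exists_le_sylow
      have hin : ∀ S : Sylow 2 X, D ≤ (S : Subgroup X) → S = R := fun S hS => by
        by_contra hne'
        have := hint S R hne' _ (inf_le_left : (S : Subgroup X) ⊓ M ≤ _) (inf_le_right.trans hR)
        have := Nat.le_of_dvd Nat.card_pos (hgt S hS)
        omega
      exact hPQ ((hin P inf_le_left).trans (hin Q inf_le_right).symm)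
    rcases hsub M hMne ((hgt P inf_le_left).trans (card_dvd_of_le inf_le_right)) with h | h | h
    · exact (key 8 h).elim
    · exact (key 9 h).elim
    · exact h
  set P0 := (P : Subgroup X) ⊓ M with hP0
  have hP0c : Nat.card P0 = 256 :=
    Nat.dvd_antisymm (by
      have h := Nat.dvd_gcd (card_dvd_of_le (inf_le_left : P0 ≤ (P : Subgroup X)))
        (card_dvd_of_le (inf_le_right : P0 ≤ M))
      rw [hcard P, hM768] at h
      exact h) (hgt P inf_le_left)
  have hPN : (P : Subgroup X) ≤ normalizer (P0 : Set X) := by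
    have hlt := lt_inf_normalizer_of_lt P.2
      (lt_of_le_of_ne (inf_le_left : P0 ≤ (P : Subgroup X)) fun h => by
        have := hP0c
        rw [show P0 = (P : Subgroup X) from h, hcard P] at this
        omega)
    have h1 := card_dvd_of_le hlt.le
    have h2 : Nat.card P0 < Nat.card ((P : Subgroup X) ⊓ normalizer (P0 : Set X) : Subgroup X) :=
      lt_of_le_of_ne (card_le_of_le hlt.le) fun h => hlt.ne (eq_of_le_of_card_ge hlt.le h.ge)
    have h3 := card_le_of_le (inf_le_left : (P : Subgroup X) ⊓ normalizer (P0 : Set X) ≤ _)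
    rw [hP0c] at h1 h2
    rw [hcard P] at h3
    obtain ⟨j, hj⟩ := h1
    exact inf_eq_left.1 (eq_of_le_of_card_ge inf_le_left (by
      have h4 : Nat.card ((P : Subgroup X) ⊓ normalizer (P0 : Set X) : Subgroup X) = 256 * j := hj
      rw [hcard P]; omega))
  have hmax : IsCoatom M := by
    refine ⟨hMne, fun K hK => by_contra fun hKne => hK.ne ?_⟩
    have h1 := card_dvd_of_le hK.le
    rw [hM768] at h1
    refine eq_of_le_of_card_ge hK.le ?_
    rw [hM768]
    rcases hsub K hKne (dvd_trans (by norm_num) h1) with h | h | h <;>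
      [(have := Nat.le_of_dvd Nat.card_pos h1; omega); (have := Nat.le_of_dvd Nat.card_pos h1; omega); omega]
  have hMbot : M ≠ ⊥ := fun h => by rw [h, card_bot] at hM768; omega
  have hself : normalizer (M : Set X) = M :=
    ((hmax.le_iff).1 le_normalizer).resolve_left (hne M hMbot hMne)
  obtain ⟨s, hsP, hsM⟩ : ∃ s ∈ (P : Subgroup X), s ∉ M := by
    by_contra hall
    push Not at hall
    rw [hP0, inf_eq_left.2 hall, hcard P] at hP0c
    omega
  let b : X ⧸ M := (s : X ⧸ M)
  let a : X ⧸ M := ((1 : X) : X ⧸ M)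
  have hstab : MulAction.stabilizer X a = M := MulAction.stabilizer_quotient M
  -- the elements of `M` fixing `b`
  set M' := M.map (MulAut.conj s).toMonoidHom with hM'
  have hfix : ∀ m : X, m • b = b ↔ m ∈ M' := by
    intro m
    rw [show m • b = ((m * s : X) : X ⧸ M) from rfl, QuotientGroup.eq, hM', mem_map]
    constructor
    · intro h
      exact ⟨s⁻¹ * m * s, by simpa [mul_assoc] using inv_mem h, by simp [mul_assoc]⟩
    · rintro ⟨y, hy, rfl⟩
      simpa [mul_assoc] using inv_mem hy
  have hM'c : Nat.card M' = 768 := by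
    rw [hM', Nat.card_congr (M.equivMapOfInjective _ (MulAut.conj s).injective).toEquiv.symm, hM768]
  have hMM : M' ≠ M := fun h => hsM (hself ▸ (mem_normalizer_iff.2 fun y => by
    constructor
    · intro hy
      rw [← h]
      exact mem_map.2 ⟨y, hy, rfl⟩
    · intro hy
      rw [← h] at hy
      obtain ⟨z, hz, hz'⟩ := mem_map.1 hy
      rwa [← (MulAut.conj s).injective (show MulAut.conj s z = MulAut.conj s y from hz')]))
  have hle : P0 ≤ M ⊓ M' := by
    refine le_inf inf_le_right fun y hy => ?_
    refine mem_map.2 ⟨s⁻¹ * y * s, ((mem_normalizer_iff''.1 (hPN hsP) y).1 hy).2, by simp [mul_assoc]⟩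
  have hMM256 : Nat.card (M ⊓ M' : Subgroup X) = 256 := by
    have h1 := card_dvd_of_le hle
    rw [hP0c] at h1
    have h2 := card_dvd_of_le (inf_le_left : M ⊓ M' ≤ M)
    rw [hM768] at h2
    obtain ⟨j, hj⟩ := h1
    have h3 : Nat.card (M ⊓ M' : Subgroup X) ≠ 768 := fun h => hMM <| by
      have e1 := eq_of_le_of_card_ge (inf_le_left : M ⊓ M' ≤ M) (by rw [hM768, h])
      have e2 := eq_of_le_of_card_ge (inf_le_right : M ⊓ M' ≤ M') (by rw [hM'c, h])
      exact e2.symm.trans e1
    rw [hj] at h2 h3 ⊢
    have hj3 : j ∣ 3 := (Nat.mul_dvd_mul_iff_left (by norm_num : 0 < 256)).1 h2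
    rcases (Nat.dvd_prime Nat.prime_three).1 hj3 with rfl | rfl <;> omega
  have horb : Nat.card (MulAction.orbit (MulAction.stabilizer X a) b) = 3 := by
    have h1 : (MulAction.stabilizer (MulAction.stabilizer X a) b).map
        (MulAction.stabilizer X a).subtype = M ⊓ M' := by
      ext m
      constructor
      · rintro ⟨y, hy, rfl⟩
        exact ⟨hstab.le y.2, (hfix _).1 hy⟩
      · intro hm
        exact ⟨⟨m, hstab.ge hm.1⟩, (hfix m).2 hm.2, rfl⟩
    have h2 := (MulAction.stabilizer (MulAction.stabilizer X a) b).index_mul_card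
    rw [← card_map_of_injective (subtype_injective _) , h1, hMM256,
      MulAction.index_stabilizer] at h2
    have h3 : Nat.card (MulAction.stabilizer X a) = 768 := by rw [hstab, hM768]
    rw [Nat.card_coe_set_eq]
    rw [h3] at h2
    omega
  have : FaithfulSMul X (X ⧸ M) := by
    refine ⟨fun {g h} hgh => ?_⟩
    have h1 : M.normalCore = ⊥ :=
      (IsSimpleGroup.eq_bot_or_eq_top_of_normal _ inferInstance).resolve_right
        fun h => hMne (top_le_iff.1 (h ▸ M.normalCore_le))
    have h2 : g⁻¹ * h ∈ (MulAction.toPermHom X (X ⧸ M)).ker := by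
      rw [MonoidHom.mem_ker]
      ext q
      simp [mul_smul, ← hgh q]
    rw [← normalCore_eq_ker, h1, mem_bot] at h2
    exact inv_mul_eq_one.1 h2
  have : Nontrivial (X ⧸ M) := by
    rw [← Finite.one_lt_card_iff_nontrivial]
    have := M.index_mul_card
    rw [hX, hM768] at this
    show 1 < M.index
    omega
  have hprim : MulAction.IsPreprimitive X (X ⧸ M) :=
    (MulAction.isCoatom_stabilizer_iff_preprimitive X a).1 (hstab.symm ▸ hmax)
  obtain ⟨k, hk, hcs⟩ := CfsgLib.Recog.Sims.stabilizer_three_card hprim a b horb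
  rw [hstab, hM768] at hcs
  interval_cases k <;> omega

end CfsgLib.ClassK.M24Nse
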