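import Cfsg.Agent.Lib.ClassK.M24Nse.CentTData
import Cfsg.Agent.Lib.ClassK.M24Nse.CentTSimple
import Cfsg.Agent.Lib.StructC.OrdersBelow3640
import Cfsg.Agent.Lib.Comp.Local

/-!
The largest normal 2-subgroup of the centralizer has order 128, with simple quotient of order 168
and containing its centralizer, or order 1024.
-/

set_option autoImplicit false
set_option linter.unusedSectionVars false

namespace CfsgLib.ClassK.M24Nse

open Subgroup
open scoped commutatorElement

universe u

theorem card_map_mk_mul {H : Type u} [Group H] [Finite H] (A R : Subgroup H) [R.Normal] :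
    Nat.card (A.map (QuotientGroup.mk' R)) * Nat.card (A ⊓ R : Subgroup H) = Nat.card A := by
  let f := (QuotientGroup.mk' R).comp A.subtype
  have h1 := card_eq_card_quotient_mul_card_subgroup f.ker
  rw [Nat.card_congr (QuotientGroup.quotientKerEquivRange f).toEquiv] at h1
  have h2 : f.range = A.map (QuotientGroup.mk' R) := by
    rw [MonoidHom.range_comp, range_subtype]
  have h3 : Nat.card f.ker = Nat.card (A ⊓ R : Subgroup H) := by
    have : f.ker = R.subgroupOf A := by
      ext y
      simp [f, mem_subgroupOf]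
    rw [this, ← inf_subgroupOf_left]
    exact Nat.card_congr (subgroupOfEquivOfLe inf_le_left).toEquiv
  rw [h1, ← h2, h3]

namespace CT

variable {H : Type u} [Group H] [Finite H] (c : CT H)

/-- The largest normal 2-subgroup. -/
def R (_c : CT H) : Subgroup H := Cfsg.pCore 2 H

theorem isPGroup_R : IsPGroup 2 c.R :=
  have : Fact (2 : ℕ).Prime := ⟨Nat.prime_two⟩
  CfsgLib.Comp.isPGroup_pCore 2 H

theorem le_R {N : Subgroup H} (hN : N.Normal) (h : IsPGroup 2 N) : N ≤ c.R :=
  le_sSup ⟨hN, h⟩

instance R_normal : c.R.Normal := by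
  unfold R Cfsg.pCore
  exact Subgroup.sSup_normal _ fun _ h => h.1

theorem x_mem_normalizer (V : Subgroup H) [hV : V.Normal] : c.x ∈ normalizer (V : Set H) :=
  normalizer_eq_top_iff.2 hV ▸ mem_top _

theorem t_mem_R : c.t ∈ c.R := by
  have : Fact (2 : ℕ).Prime := ⟨Nat.prime_two⟩
  exact c.le_R c.zt_normal (IsPGroup.of_card (n := 1) (by rw [c.card_zt, pow_one])) (mem_zpowers _)

theorem card_R_cases : Nat.card c.R = 2 ∨ Nat.card c.R = 16 ∨ Nat.card c.R = 128 ∨ Nat.card c.R = 1024 :=
  c.card_invariant c.isPGroup_R (c.x_mem_normalizer _) c.t_mem_R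

theorem cent_x_inf_R : centralizer ({c.x} : Set H) ⊓ c.R = zpowers c.t := by
  rw [inf_comm]
  exact le_antisymm (c.inf_cent_le c.isPGroup_R)
    (le_inf (zpowers_le.2 c.t_mem_R) (zpowers_le.2 (mem_centralizer_singleton_iff.2 (c.htc c.x).symm)))

theorem card_zx : Nat.card (zpowers c.x) = 7 := by rw [Nat.card_zpowers, c.hx]

theorem card_norm_x : Nat.card (normalizer (zpowers c.x : Set H)) = 42 := by
  have : Fact (7 : ℕ).Prime := ⟨by norm_num⟩
  have hcz : centralizer (zpowers c.x : Set H) = centralizer ({c.x} : Set H) := by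
    rw [zpowers_eq_closure, centralizer_closure]
  have hker := QuotientGroup.kerLift_injective (zpowers c.x).normalizerMonoidHom
  have h1 := card_dvd_of_injective _ hker
  rw [normalizerMonoidHom_ker, IsCyclic.card_mulAut, c.card_zx, Nat.totient_prime (by norm_num)] at h1
  have h2 := card_eq_card_quotient_mul_card_subgroup
    ((centralizer (zpowers c.x : Set H)).subgroupOf (normalizer (zpowers c.x : Set H)))
  rw [Nat.card_congr (subgroupOfEquivOfLe (centralizer_le_normalizer _)).toEquiv, hcz, c.cent_x] at h2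
  set n := Nat.card (↥(normalizer (zpowers c.x : Set H)) ⧸
    (centralizer (zpowers c.x : Set H)).subgroupOf (normalizer (zpowers c.x : Set H))) with hn
  have h2' : Nat.card (normalizer (zpowers c.x : Set H)) = n * 14 := by rw [h2, hn, hcz]
  obtain ⟨P, hP⟩ := (IsPGroup.of_card (p := 7) (n := 1) (by rw [c.card_zx, pow_one])).exists_le_sylow
  have hP' : zpowers c.x = (P : Subgroup H) := by
    refine eq_of_le_of_card_ge hP ?_
    rw [P.card_eq_multiplicity, c.card, c.card_zx, show (21504 : ℕ) = 7 * 3072 by norm_num,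
      Nat.factorization_mul (by norm_num) (by norm_num), Finsupp.add_apply,
      (by norm_num : (7 : ℕ).Prime).factorization_self, Nat.factorization_eq_zero_of_not_dvd (by norm_num)]
    norm_num
  have h3 := card_sylow_modEq_one 7 H
  have h4 : Nat.card (Sylow 7 H) = (normalizer (zpowers c.x : Set H)).index := by
    rw [hP', P.card_eq_index_normalizer]
    rfl
  have h5 := (normalizer (zpowers c.x : Set H)).index_mul_card
  rw [c.card, h2', ← h4] at h5
  have h6 : n ≤ 6 := Nat.le_of_dvd (by norm_num) h1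
  rw [h2']
  unfold Nat.ModEq at h3
  interval_cases n <;> omega

theorem card_cent_map : Nat.card (centralizer
    ({QuotientGroup.mk' c.R c.x} : Set (H ⧸ c.R))) = 7 ∧
    Nat.card (normalizer (zpowers (QuotientGroup.mk' c.R c.x) : Set (H ⧸ c.R))) = 21 ∧
    orderOf (QuotientGroup.mk' c.R c.x) = 7 := by
  have : Fact (7 : ℕ).Prime := ⟨by norm_num⟩
  obtain ⟨k, -, hk⟩ := c.card_two c.isPGroup_R
  have hcop : (Nat.card c.R).Coprime 7 := by rw [hk]; exact Nat.Coprime.pow_left k (by norm_num)
  have hP : IsPGroup 7 (zpowers c.x) := IsPGroup.of_card (n := 1) (by rw [c.card_zx, pow_one])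
  have hmz : (zpowers c.x).map (QuotientGroup.mk' c.R) = zpowers (QuotientGroup.mk' c.R c.x) :=
    MonoidHom.map_zpowers _ _
  have hcz : centralizer (zpowers c.x : Set H) = centralizer ({c.x} : Set H) := by
    rw [zpowers_eq_closure, centralizer_closure]
  have hczq : centralizer (zpowers (QuotientGroup.mk' c.R c.x) : Set (H ⧸ c.R)) =
      centralizer ({QuotientGroup.mk' c.R c.x} : Set (H ⧸ c.R)) := by
    rw [zpowers_eq_closure, centralizer_closure]
  refine ⟨?_, ?_, ?_⟩
  · rw [← hczq, ← hmz, ← CfsgLib.Comp.map_centralizer_eq hcop hP, hcz]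
    have h := card_map_mk_mul (centralizer ({c.x} : Set H)) c.R
    rw [c.cent_x_inf_R, c.card_zt, c.cent_x] at h
    omega
  · rw [← hmz, ← CfsgLib.Comp.map_normalizer_eq hcop hP]
    have h := card_map_mk_mul (normalizer (zpowers c.x : Set H)) c.R
    rw [c.card_norm_x] at h
    have h2 : normalizer (zpowers c.x : Set H) ⊓ c.R = zpowers c.t := by
      refine le_antisymm (fun y hy => ?_) ?_
      · refine (c.inf_cent_le c.isPGroup_R) ⟨hy.2, mem_centralizer_singleton_iff.2 ?_⟩
        have hcomm : ⁅y, c.x⁆ ∈ zpowers c.x ⊓ c.R := by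
          refine ⟨?_, ?_⟩
          · have := mul_mem ((mem_normalizer_iff.1 hy.1 c.x).1 (mem_zpowers _)) (inv_mem (mem_zpowers c.x))
            simpa [commutatorElement_def] using this
          · have := mul_mem hy.2 ((c.R_normal).conj_mem _ (inv_mem hy.2) c.x)
            simpa [commutatorElement_def, mul_assoc] using this
        rw [inf_eq_bot_of_coprime (by rw [c.card_zx]; exact hcop.symm), mem_bot] at hcomm
        exact commutatorElement_eq_one_iff_mul_comm.1 hcomm
      · exact le_inf (zpowers_le.2 (mem_normalizer_iff.2 fun h => by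
          rw [← c.htc h, mul_assoc, mul_inv_cancel, mul_one])) (zpowers_le.2 c.t_mem_R)
    rw [h2, c.card_zt] at h
    omega
  · have h1 : orderOf (QuotientGroup.mk' c.R c.x) ∣ 7 := c.hx ▸ orderOf_map_dvd _ _
    refine ((Nat.dvd_prime (by norm_num)).1 h1).resolve_left fun h => ?_
    rw [orderOf_eq_one_iff, QuotientGroup.mk'_apply, QuotientGroup.eq_one_iff] at h
    have := hk ▸ orderOf_dvd_natCard c.R h
    rw [c.hx] at this
    have := (Nat.prime_dvd_prime_iff_eq (by norm_num) Nat.prime_two).1
      ((by norm_num : (7 : ℕ).Prime).dvd_of_dvd_pow this)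
    omega

theorem no_two_quot {N : Subgroup (H ⧸ c.R)} (hN : N.Normal) (h : IsPGroup 2 N) : N = ⊥ := by
  have : Fact (2 : ℕ).Prime := ⟨Nat.prime_two⟩
  have h1 : N.comap (QuotientGroup.mk' c.R) ≤ c.R := c.le_R (hN.comap _)
    (h.comap_of_ker_isPGroup _ (by rw [QuotientGroup.ker_mk']; exact c.isPGroup_R))
  rw [eq_bot_iff]
  intro y hy
  obtain ⟨y, rfl⟩ := QuotientGroup.mk'_surjective c.R y
  rw [mem_bot, QuotientGroup.mk'_apply, QuotientGroup.eq_one_iff]
  exact h1 hy

/-- The two possible shapes of `R`. -/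
theorem rad : (Nat.card c.R = 128 ∧ Nat.card (H ⧸ c.R) = 168 ∧ IsSimpleGroup (H ⧸ c.R) ∧
    ¬ IsMulCommutative (H ⧸ c.R) ∧ centralizer (c.R : Set H) ≤ c.R) ∨ Nat.card c.R = 1024 := by
  obtain ⟨hC, hN, hx⟩ := c.card_cent_map
  have hq := card_eq_card_quotient_mul_card_subgroup c.R
  rw [c.card] at hq
  rcases c.card_R_cases with h | h | h | h
  · rw [h] at hq
    obtain ⟨hs, -⟩ := isSimpleGroup_of_seven (a := 9) (by norm_num) (show Nat.card (H ⧸ c.R) = _ by omega)
      (fun N h1 h2 => c.no_two_quot h1 h2) hx hC hN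
    exact (false_of_simple_10752 (X := H ⧸ c.R) (by omega)).elim
  · rw [h] at hq
    obtain ⟨hs, hnc⟩ := isSimpleGroup_of_seven (a := 6) (by norm_num) (show Nat.card (H ⧸ c.R) = _ by omega)
      (fun N h1 h2 => c.no_two_quot h1 h2) hx hC hN
    have := CfsgLib.StructC.OrdersBelow.card_mem_below_6000 hnc (by omega)
    simp only [List.mem_cons, List.not_mem_nil, or_false] at this
    omega
  · rw [h] at hq
    obtain ⟨hs, hnc⟩ := isSimpleGroup_of_seven (a := 3) (by norm_num) (show Nat.card (H ⧸ c.R) = _ by omega)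
      (fun N h1 h2 => c.no_two_quot h1 h2) hx hC hN
    refine Or.inl ⟨h, by omega, hs, hnc, ?_⟩
    rcases hs.eq_bot_or_eq_top_of_normal ((centralizer (c.R : Set H)).map (QuotientGroup.mk' c.R))
        (Normal.map inferInstance _ (QuotientGroup.mk'_surjective _)) with hb | ht
    · exact fun y hy => (QuotientGroup.eq_one_iff y).1 (mem_bot.1 (hb ▸ mem_map_of_mem _ hy))
    · exfalso
      have hm := card_map_mk_mul (centralizer (c.R : Set H)) c.R
      rw [ht, card_top] at hm
      have h7 : 7 ∣ Nat.card (centralizer (c.R : Set H)) := hm ▸ Dvd.dvd.mul_right (by omega) _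
      have : Fact (7 : ℕ).Prime := ⟨by norm_num⟩
      obtain ⟨y, hy⟩ := exists_prime_orderOf_dvd_card' 7 h7
      -- `y` generates a conjugate of `⟨x⟩`
      obtain ⟨P, hP⟩ := (IsPGroup.of_card (p := 7) (n := 1) (by rw [c.card_zx, pow_one])).exists_le_sylow
      have hyc : Nat.card (zpowers (y : H)) = 7 := by rw [Nat.card_zpowers, orderOf_coe, hy]
      obtain ⟨Q, hQ⟩ := (IsPGroup.of_card (p := 7) (n := 1) (by rw [hyc, pow_one])).exists_le_sylow
      have hQc : Nat.card (Q : Subgroup H) = 7 := by
        rw [Q.card_eq_multiplicity, c.card, show (21504 : ℕ) = 7 * 3072 by norm_num,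
          Nat.factorization_mul (by norm_num) (by norm_num), Finsupp.add_apply,
          (by norm_num : (7 : ℕ).Prime).factorization_self, Nat.factorization_eq_zero_of_not_dvd (by norm_num)]
        norm_num
      have hQe := eq_of_le_of_card_ge hQ (by rw [hyc, hQc])
      obtain ⟨g, hg⟩ := MulAction.exists_smul_eq H Q P
      have hx' : c.x ∈ centralizer (c.R : Set H) := by
        have h' := hP (mem_zpowers c.x)
        rw [← hg, Sylow.coe_subgroup_smul, Subgroup.mem_pointwise_smul_iff_inv_smul_mem, ← hQe] at h'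
        simpa [MulAut.smul_def, mul_assoc] using
          (inferInstance : (centralizer (c.R : Set H)).Normal).conj_mem _ (zpowers_le.2 y.2 h') g
      have hle : c.R ≤ centralizer ({c.x} : Set H) := fun r hr =>
        mem_centralizer_singleton_iff.2 (mem_centralizer_iff.1 hx' r hr)
      have := card_le_of_le hle
      rw [h, c.cent_x] at this
      omega
  · exact Or.inr h

end CT

end CfsgLib.ClassK.M24Nse
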