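import Mathlib.GroupTheory.Perm.Sign
import Mathlib.GroupTheory.PGroup
import Mathlib.GroupTheory.Commutator.Basic
import Mathlib.GroupTheory.Sylow

/-!
A group with a normal subgroup `R` of order 64 and quotient `S₅` in which elements of order five fix
exactly four elements of `R`: it has no abelian subgroup of order 128, and no elementary subgroup of
order 16 almost centralised by a Sylow 2-subgroup.
-/

set_option autoImplicit false
set_option linter.unusedSectionVars false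

namespace CfsgLib.ClassK.M24Nse

open Subgroup Equiv
open scoped commutatorElement

namespace PermFive

/-- The number of fixed points. -/
def fp (a : Perm (Fin 5)) : ℕ := (Finset.univ.filter fun i => a i = i).card

/-- A double transposition. -/
abbrev IsDbl (a : Perm (Fin 5)) : Prop := a * a = 1 ∧ fp a = 1

/-- A transposition. -/
abbrev IsSw (a : Perm (Fin 5)) : Prop := a * a = 1 ∧ fp a = 3

set_option maxRecDepth 100000 in
theorem two_el : ∀ a : Perm (Fin 5), a ≠ 1 → (a ^ 2) ^ 2 = 1 → IsDbl a ∨ IsDbl (a ^ 2) ∨ IsSw a := by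
  decide +kernel

set_option maxRecDepth 100000 in
theorem sw_mul : ∀ a : Perm (Fin 5), IsSw a → ∀ b : Perm (Fin 5), IsSw b → a * b = b * a →
    a ≠ b → IsDbl (a * b) := by
  decide +kernel

set_option maxRecDepth 100000 in
theorem dbl_conj : ∀ a : Perm (Fin 5), IsDbl a →
    ∃ s : Perm (Fin 5), s * (swap 0 1 * swap 2 3) = a * s := by
  decide +kernel

set_option maxRecDepth 100000 in
theorem sw_conj : ∀ a : Perm (Fin 5), IsSw a → ∃ s : Perm (Fin 5), s * swap 0 1 = a * s := by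
  decide +kernel

theorem conj_invariant {a b : Perm (Fin 5)} (s : Perm (Fin 5)) (h : s * b = a * s) :
    a = s * b * s⁻¹ := by
  rw [h, mul_inv_cancel_right]

theorem dbl_of_conj {b : Perm (Fin 5)} (hb : IsDbl b) (s : Perm (Fin 5)) : IsDbl (s * b * s⁻¹) := by
  refine ⟨?_, ?_⟩
  · calc s * b * s⁻¹ * (s * b * s⁻¹) = s * (b * b) * s⁻¹ := by group
      _ = 1 := by rw [hb.1]; group
  · rw [← hb.2]
    unfold fp
    refine Finset.card_bij' (fun i _ => s⁻¹ i) (fun i _ => s i) (fun i hi => ?_) (fun i hi => ?_)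
      (fun i _ => by simp) (fun i _ => by simp)
    · refine Finset.mem_filter.2 ⟨Finset.mem_univ _, ?_⟩
      have hi' := (Finset.mem_filter.1 hi).2
      simpa using congrArg (fun k => s⁻¹ k) hi'
    · refine Finset.mem_filter.2 ⟨Finset.mem_univ _, ?_⟩
      have hi' := (Finset.mem_filter.1 hi).2
      simp [hi']

theorem dbl_five {a : Perm (Fin 5)} (ha : IsDbl a) :
    ∃ s : Perm (Fin 5), (a * (s * a * s⁻¹)) ^ 5 = 1 ∧ a * (s * a * s⁻¹) ≠ 1 := by
  have h0 : ∃ s : Perm (Fin 5),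
      ((swap 0 1 * swap 2 3) * (s * (swap 0 1 * swap 2 3) * s⁻¹)) ^ 5 = 1 ∧
      (swap 0 1 * swap 2 3) * (s * (swap 0 1 * swap 2 3) * s⁻¹) ≠ 1 :=
    ⟨swap 0 1 * swap 1 2 * swap 2 3 * swap 3 4, by decide +kernel, by decide +kernel⟩
  obtain ⟨σ, h5, h1⟩ := h0
  obtain ⟨t, ht⟩ := dbl_conj a ha
  obtain rfl := conj_invariant t ht
  refine ⟨t * σ * t⁻¹, ?_⟩
  generalize (swap 0 1 * swap 2 3 : Perm (Fin 5)) = b at h5 h1 ⊢
  have e : t * b * t⁻¹ * (t * σ * t⁻¹ * (t * b * t⁻¹) * (t * σ * t⁻¹)⁻¹) =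
      t * (b * (σ * b * σ⁻¹)) * t⁻¹ := by group
  rw [e, conj_pow, h5]
  exact ⟨by group, fun h => h1 (conj_eq_one_iff.1 h)⟩

theorem sw_two {a : Perm (Fin 5)} (ha : IsSw a) :
    ∃ s : Perm (Fin 5), IsDbl (a * (s * a * s⁻¹)) := by
  have h0 : IsDbl ((swap 0 1 : Perm (Fin 5)) *
      ((swap 0 2 * swap 1 3) * swap 0 1 * (swap 0 2 * swap 1 3)⁻¹)) := by decide +kernel
  obtain ⟨t, ht⟩ := sw_conj a ha
  obtain rfl := conj_invariant t ht
  refine ⟨t * (swap 0 2 * swap 1 3) * t⁻¹, ?_⟩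
  generalize (swap 0 1 : Perm (Fin 5)) = b at h0 ⊢
  generalize (swap 0 2 * swap 1 3 : Perm (Fin 5)) = σ at h0 ⊢
  have e : t * b * t⁻¹ * (t * σ * t⁻¹ * (t * b * t⁻¹) * (t * σ * t⁻¹)⁻¹) =
      t * (b * (σ * b * σ⁻¹)) * t⁻¹ := by group
  rw [e]
  exact dbl_of_conj h0 t

theorem card_cent_conj (b t : Perm (Fin 5)) :
    Nat.card (centralizer ({t * b * t⁻¹} : Set (Perm (Fin 5)))) =
      (Finset.univ.filter fun x => b * x = x * b).card := by
  rw [← Fintype.card_subtype, ← Nat.card_eq_fintype_card]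
  exact Nat.card_congr
    { toFun := fun x => ⟨t⁻¹ * x.1 * t, by
        have h := mem_centralizer_singleton_iff.1 x.2
        calc b * (t⁻¹ * x.1 * t) = t⁻¹ * ((t * b * t⁻¹) * x.1) * t := by group
          _ = t⁻¹ * (x.1 * (t * b * t⁻¹)) * t := by rw [h]
          _ = t⁻¹ * x.1 * t * b := by group⟩
      invFun := fun x => ⟨t * x.1 * t⁻¹, mem_centralizer_singleton_iff.2 (by
        calc t * x.1 * t⁻¹ * (t * b * t⁻¹) = t * (x.1 * b) * t⁻¹ := by group
          _ = t * (b * x.1) * t⁻¹ := by rw [x.2]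
          _ = t * b * t⁻¹ * (t * x.1 * t⁻¹) := by group)⟩
      left_inv := fun x => Subtype.ext (by group)
      right_inv := fun x => Subtype.ext (by group) }

theorem card_cent_sw {a : Perm (Fin 5)} (ha : IsSw a) :
    Nat.card (centralizer ({a} : Set (Perm (Fin 5)))) = 12 := by
  obtain ⟨t, ht⟩ := sw_conj a ha
  obtain rfl := conj_invariant t ht
  rw [card_cent_conj]
  decide +kernel

theorem card_cent_dbl {a : Perm (Fin 5)} (ha : IsDbl a) :
    Nat.card (centralizer ({a} : Set (Perm (Fin 5)))) = 8 := by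
  obtain ⟨t, ht⟩ := dbl_conj a ha
  obtain rfl := conj_invariant t ht
  rw [card_cent_conj]
  decide +kernel

/-- A Sylow 2-subgroup is the centraliser of a double transposition. -/
theorem sylow_shape {Y : Subgroup (Perm (Fin 5))} (hY : Nat.card Y = 8) :
    ∃ t : Perm (Fin 5), ∀ y, y ∈ Y ↔
      y * (t * (swap 0 1 * swap 2 3) * t⁻¹) = (t * (swap 0 1 * swap 2 3) * t⁻¹) * y := by
  haveI : Fact (Nat.Prime 2) := ⟨Nat.prime_two⟩
  have hYp : IsPGroup 2 Y := IsPGroup.of_card (n := 3) hY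
  haveI : Nontrivial Y := Finite.one_lt_card_iff_nontrivial.1 (by rw [hY]; norm_num)
  haveI := hYp.center_nontrivial
  obtain ⟨c, hc1⟩ := exists_ne (1 : Subgroup.center Y)
  obtain ⟨k, hk⟩ := IsPGroup.iff_orderOf.1
    (hYp.to_subgroup (Subgroup.center Y)) c
  obtain ⟨m, rfl⟩ : ∃ m, k = m + 1 := Nat.exists_eq_succ_of_ne_zero fun h => hc1
    (orderOf_eq_one_iff.1 (by rw [hk, h, pow_zero]))
  set d : Subgroup.center Y := c ^ 2 ^ m with hd
  have hd2 : orderOf d = 2 := by
    rw [hd, orderOf_pow' c (pow_ne_zero _ two_ne_zero), hk, Nat.gcd_eq_right (pow_dvd_pow 2 (Nat.le_succ m)),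
      pow_succ, Nat.mul_div_cancel_left _ (Nat.two_pow_pos m)]
  set z : Perm (Fin 5) := ((d : Y) : Perm (Fin 5)) with hz
  have hz2 : orderOf z = 2 := by rw [hz, orderOf_coe, orderOf_coe, hd2]
  have hzz : z * z = 1 := by rw [← pow_two, ← hz2, pow_orderOf_eq_one]
  have hz1 : z ≠ 1 := fun h => by rw [h, orderOf_one] at hz2; omega
  have hle : Y ≤ centralizer ({z} : Set (Perm (Fin 5))) := fun y hy =>
    mem_centralizer_singleton_iff.2
      (congrArg Subtype.val (Subgroup.mem_center_iff.1 d.2 ⟨y, hy⟩))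
  have hdb : IsDbl z := by
    rcases two_el z hz1 (by rw [pow_two z, hzz, one_pow]) with h | h | h
    · exact h
    · rw [pow_two, hzz] at h
      exact absurd h (by decide +kernel)
    · have h1 := Subgroup.card_dvd_of_le hle
      rw [hY, card_cent_sw h] at h1
      omega
  obtain ⟨t, ht⟩ := dbl_conj z hdb
  refine ⟨t, fun y => ?_⟩
  rw [← conj_invariant t ht,
    Subgroup.eq_of_le_of_card_ge hle (by rw [card_cent_dbl hdb, hY]), mem_centralizer_singleton_iff]

theorem not_comm_of_card_eight {Y : Subgroup (Perm (Fin 5))} (hY : Nat.card Y = 8) :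
    ∃ a ∈ Y, ∃ b ∈ Y, a * b ≠ b * a := by
  obtain ⟨t, ht⟩ := sylow_shape hY
  have h0 : (swap 0 1 : Perm (Fin 5)) * (swap 0 2 * swap 1 3) ≠ (swap 0 2 * swap 1 3) * swap 0 1 ∧
      (swap 0 1 : Perm (Fin 5)) * (swap 0 1 * swap 2 3) = (swap 0 1 * swap 2 3) * swap 0 1 ∧
      (swap 0 2 * swap 1 3 : Perm (Fin 5)) * (swap 0 1 * swap 2 3) =
        (swap 0 1 * swap 2 3) * (swap 0 2 * swap 1 3) := by decide +kernel
  obtain ⟨h1, h2, h3⟩ := h0
  generalize (swap 0 1 * swap 2 3 : Perm (Fin 5)) = b at h2 h3 ht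
  generalize (swap 0 1 : Perm (Fin 5)) = x at h1 h2
  generalize (swap 0 2 * swap 1 3 : Perm (Fin 5)) = y at h1 h3
  refine ⟨t * x * t⁻¹, (ht _).2 ?_, t * y * t⁻¹, (ht _).2 ?_, fun h => h1 ?_⟩
  · rw [conj_mul, h2, ← conj_mul]
  · rw [conj_mul, h3, ← conj_mul]
  · rw [conj_mul, conj_mul] at h
    exact mul_left_cancel (mul_right_cancel h)

/-- The configuration in a Sylow 2-subgroup. -/
theorem sylow_config {Y : Subgroup (Perm (Fin 5))} (hY : Nat.card Y = 8) :
    ∃ τ ∈ Y, ∃ a ∈ Y, ∃ b ∈ Y, ∃ σ : Perm (Fin 5), IsSw τ ∧ IsDbl a ∧ IsDbl b ∧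
      σ * τ = τ * σ ∧ (a * (σ * b * σ⁻¹)) ^ 5 = 1 ∧ a * (σ * b * σ⁻¹) ≠ 1 := by
  obtain ⟨t, ht⟩ := sylow_shape hY
  have h0 : IsSw (swap 0 1 : Perm (Fin 5)) ∧ IsDbl (swap 0 2 * swap 1 3 : Perm (Fin 5)) ∧
      IsDbl (swap 0 3 * swap 1 2 : Perm (Fin 5)) ∧
      (swap 3 4 : Perm (Fin 5)) * swap 0 1 = swap 0 1 * swap 3 4 ∧
      ((swap 0 2 * swap 1 3 : Perm (Fin 5)) * (swap 3 4 * (swap 0 3 * swap 1 2) * (swap 3 4)⁻¹)) ^ 5 = 1 ∧
      (swap 0 2 * swap 1 3 : Perm (Fin 5)) * (swap 3 4 * (swap 0 3 * swap 1 2) * (swap 3 4)⁻¹) ≠ 1 ∧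
      (swap 0 1 : Perm (Fin 5)) * (swap 0 1 * swap 2 3) = (swap 0 1 * swap 2 3) * swap 0 1 ∧
      (swap 0 2 * swap 1 3 : Perm (Fin 5)) * (swap 0 1 * swap 2 3) =
        (swap 0 1 * swap 2 3) * (swap 0 2 * swap 1 3) ∧
      (swap 0 3 * swap 1 2 : Perm (Fin 5)) * (swap 0 1 * swap 2 3) =
        (swap 0 1 * swap 2 3) * (swap 0 3 * swap 1 2) := by decide +kernel
  obtain ⟨hτ, ha, hb, hc, h5, h1, e1, e2, e3⟩ := h0
  generalize (swap 0 1 * swap 2 3 : Perm (Fin 5)) = z at e1 e2 e3 ht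
  generalize (swap 0 1 : Perm (Fin 5)) = τ at hτ hc e1
  generalize (swap 0 2 * swap 1 3 : Perm (Fin 5)) = a at ha h5 h1 e2
  generalize (swap 0 3 * swap 1 2 : Perm (Fin 5)) = b at hb h5 h1 e3
  generalize (swap 3 4 : Perm (Fin 5)) = σ at hc h5 h1
  have hm : ∀ {x}, x * z = z * x → t * x * t⁻¹ ∈ Y := fun {x} h => (ht _).2 (by
    rw [conj_mul, h, ← conj_mul])
  have e : t * a * t⁻¹ * (t * σ * t⁻¹ * (t * b * t⁻¹) * (t * σ * t⁻¹)⁻¹) =
      t * (a * (σ * b * σ⁻¹)) * t⁻¹ := by group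
  refine ⟨_, hm e1, _, hm e2, _, hm e3, t * σ * t⁻¹, ⟨?_, ?_⟩, dbl_of_conj ha t, dbl_of_conj hb t,
    ?_, ?_, ?_⟩
  · rw [conj_mul, hτ.1]; group
  · have h := hτ.2
    rw [← h]
    unfold fp
    refine Finset.card_bij' (fun i _ => t⁻¹ i) (fun i _ => t i) (fun i hi => ?_) (fun i hi => ?_)
      (fun i _ => by simp) (fun i _ => by simp)
    · refine Finset.mem_filter.2 ⟨Finset.mem_univ _, ?_⟩
      have hi' := (Finset.mem_filter.1 hi).2
      simpa using congrArg (fun k => t⁻¹ k) hi'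
    · refine Finset.mem_filter.2 ⟨Finset.mem_univ _, ?_⟩
      have hi' := (Finset.mem_filter.1 hi).2
      simp [hi']
  · rw [conj_mul, hc, ← conj_mul]
  · rw [e, conj_pow, h5]; group
  · rw [e]
    exact fun h => h1 (conj_eq_one_iff.1 h)

end PermFive

/-- The abstract shape of the centraliser of `u`. -/
structure UData (H : Type*) [Group H] where
  φ : H →* Perm (Fin 5)
  surj : Function.Surjective φ
  card_ker : Nat.card φ.ker = 64
  fix_five : ∀ g : H, orderOf g = 5 →
    Nat.card (φ.ker ⊓ centralizer ({g} : Set H) : Subgroup H) = 4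

namespace UData

variable {H : Type*} [Group H] [Finite H] (D : UData H)

theorem mem_ker_conj {r : H} (hr : r ∈ D.φ.ker) (h : H) : h * r * h⁻¹ ∈ D.φ.ker :=
  (inferInstance : D.φ.ker.Normal).conj_mem r hr h

theorem pow_sixty_four {x : H} (hx : x ∈ D.φ.ker) : x ^ 64 = 1 :=
  congrArg Subtype.val ((D.card_ker ▸ pow_card_eq_one' : (⟨x, hx⟩ : D.φ.ker) ^ 64 = 1))

theorem five_of_image {g₀ : H} (h5 : D.φ g₀ ^ 5 = 1) (h1 : D.φ g₀ ≠ 1) :
    orderOf (g₀ ^ 64) = 5 := by
  haveI : Fact (Nat.Prime 5) := ⟨Nat.prime_five⟩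
  refine orderOf_eq_prime ?_ ?_
  · rw [← pow_mul, mul_comm, pow_mul]
    exact D.pow_sixty_four (MonoidHom.mem_ker.2 (by rw [map_pow, h5]))
  · intro h
    have h2 : D.φ g₀ ^ 64 = 1 := by rw [← map_pow, h, map_one]
    rw [show (64 : ℕ) = 5 * 12 + 4 from rfl, pow_add, pow_mul, h5, one_pow, one_mul] at h2
    refine h1 ?_
    rw [pow_succ _ 4, h2, one_mul] at h5
    exact h5

/-- `C_R(x)`. -/
def fix (x : H) : Subgroup H := D.φ.ker ⊓ centralizer ({x} : Set H)

theorem mem_fix {x r : H} : r ∈ D.fix x ↔ r ∈ D.φ.ker ∧ r * x = x * r := by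
  rw [fix, mem_inf, mem_centralizer_singleton_iff]

theorem fix_le_sixteen {x : H} (hx : PermFive.IsDbl (D.φ x)) : Nat.card (D.fix x) ≤ 16 := by
  obtain ⟨s, h5, h1⟩ := PermFive.dbl_five hx
  obtain ⟨h, rfl⟩ := D.surj s
  set y := h * x * h⁻¹ with hy
  set g₀ := x * y with hg₀
  have hg : orderOf (g₀ ^ 64) = 5 :=
    D.five_of_image (by rw [hg₀, hy]; simpa using h5) (by rw [hg₀, hy]; simpa using h1)
  set C₁ := D.fix x with hC₁
  set C₂ := D.fix y with hC₂
  have hcard : Nat.card C₂ = Nat.card C₁ := by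
    have e : C₂ = C₁.map (MulAut.conj h).toMonoidHom := by
      ext r
      constructor
      · intro hr
        refine ⟨h⁻¹ * r * h, D.mem_fix.2 ⟨?_, ?_⟩, by simp [mul_assoc]⟩
        · simpa using D.mem_ker_conj (D.mem_fix.1 hr).1 h⁻¹
        · have h2 := (D.mem_fix.1 hr).2
          calc h⁻¹ * r * h * x = h⁻¹ * (r * y) * h := by rw [hy]; group
            _ = h⁻¹ * (y * r) * h := by rw [h2]
            _ = x * (h⁻¹ * r * h) := by rw [hy]; group
      · rintro ⟨r, hr, rfl⟩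
        refine D.mem_fix.2 ⟨D.mem_ker_conj (D.mem_fix.1 hr).1 h, ?_⟩
        show h * r * h⁻¹ * y = y * (h * r * h⁻¹)
        rw [hy, conj_mul, (D.mem_fix.1 hr).2, ← conj_mul]
    rw [e, card_map_of_injective (MulAut.conj h).injective]
  have hinf : Nat.card (C₁ ⊓ C₂ : Subgroup H) ≤ 4 := by
    rw [← D.fix_five _ hg]
    refine card_le_of_le fun r hr => mem_inf.2 ⟨(D.mem_fix.1 hr.1).1, ?_⟩
    exact mem_centralizer_singleton_iff.2 (((show Commute r x from (D.mem_fix.1 hr.1).2).mul_right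
      (show Commute r y from (D.mem_fix.1 hr.2).2)).pow_right 64).eq
  have hle : C₁ ≤ D.φ.ker := inf_le_left
  have hle2 : C₂ ≤ D.φ.ker := inf_le_left
  have h2 : C₂.relIndex C₁ ≤ C₂.relIndex D.φ.ker :=
    Subgroup.relIndex_le_of_le_right hle Subgroup.index_ne_zero_of_finite
  have h3 : Nat.card (C₁ ⊓ C₂ : Subgroup H) * C₂.relIndex C₁ = Nat.card C₁ := by
    rw [← inf_relIndex_left, ← relIndex_bot_left, relIndex_mul_relIndex ⊥ _ C₁ bot_le inf_le_left,
      relIndex_bot_left]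
  have h4 : Nat.card C₂ * C₂.relIndex D.φ.ker = 64 := by
    rw [← D.card_ker, ← relIndex_bot_left, relIndex_mul_relIndex ⊥ _ _ bot_le hle2, relIndex_bot_left]
  rw [hcard] at h4
  have h5' : Nat.card C₁ * Nat.card C₁ ≤ 256 :=
    calc Nat.card C₁ * Nat.card C₁ ≤ Nat.card C₁ * (4 * C₂.relIndex D.φ.ker) := by
          refine Nat.mul_le_mul_left _ ?_
          rw [← h3]
          exact Nat.mul_le_mul hinf h2
      _ = 256 := by rw [mul_left_comm, h4]; norm_num
  nlinarith

/-- An element acting trivially on `R` modulo a normal subgroup lies in `R`. -/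
theorem no_trivial_action (F : Subgroup H) [F.Normal] {x : H}
    (hsw : PermFive.IsSw (D.φ x) ∨ PermFive.IsDbl (D.φ x))
    (hx : ∀ r ∈ D.φ.ker, x * r * x⁻¹ * r⁻¹ ∈ F) :
    ∃ g : H, orderOf g = 5 ∧ ∀ r ∈ D.φ.ker, g * r * g⁻¹ * r⁻¹ ∈ F := by
  let K : Subgroup H :=
    { carrier := {g | ∀ r ∈ D.φ.ker, g * r * g⁻¹ * r⁻¹ ∈ F}
      one_mem' := fun r _ => by simp
      mul_mem' := fun {a b} ha hb r hr => by
        have e : a * b * r * (a * b)⁻¹ * r⁻¹ =
            a * (b * r * b⁻¹ * r⁻¹) * a⁻¹ * (a * r * a⁻¹ * r⁻¹) := by group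
        rw [e]
        exact mul_mem ((inferInstance : F.Normal).conj_mem _ (hb r hr) a) (ha r hr)
      inv_mem' := fun {a} ha r hr => by
        have h1 := inv_mem (ha (a⁻¹ * r * a) (by simpa using D.mem_ker_conj hr a⁻¹))
        have e : (a * (a⁻¹ * r * a) * a⁻¹ * (a⁻¹ * r * a)⁻¹)⁻¹ = a⁻¹ * r * a⁻¹⁻¹ * r⁻¹ := by group
        rwa [e] at h1 }
  have hconj : ∀ (h : H) {g}, g ∈ K → h * g * h⁻¹ ∈ K := fun h {g} hg r hr => by
    have e : h * g * h⁻¹ * r * (h * g * h⁻¹)⁻¹ * r⁻¹ =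
        h * (g * (h⁻¹ * r * h) * g⁻¹ * (h⁻¹ * r * h)⁻¹) * h⁻¹ := by group
    rw [e]
    exact (inferInstance : F.Normal).conj_mem _
      (hg _ (by simpa using D.mem_ker_conj hr h⁻¹)) h
  have key : ∀ {y : H}, y ∈ K → PermFive.IsDbl (D.φ y) →
      ∃ g : H, orderOf g = 5 ∧ ∀ r ∈ D.φ.ker, g * r * g⁻¹ * r⁻¹ ∈ F := by
    intro y hy hd
    obtain ⟨s, h5, h1⟩ := PermFive.dbl_five hd
    obtain ⟨h, rfl⟩ := D.surj s
    exact ⟨_, D.five_of_image (g₀ := y * (h * y * h⁻¹)) (by simpa using h5) (by simpa using h1),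
      pow_mem (mul_mem hy (hconj h hy)) 64⟩
  rcases hsw with hs | hd
  · obtain ⟨s, hs⟩ := PermFive.sw_two hs
    obtain ⟨h, rfl⟩ := D.surj s
    exact key (y := x * (h * x * h⁻¹)) (mul_mem hx (hconj h hx)) (by simpa using hs)
  · exact key (show x ∈ K from hx) hd

theorem fix_lt (x : H) (hsw : PermFive.IsSw (D.φ x) ∨ PermFive.IsDbl (D.φ x))
    (hx : ∀ r ∈ D.φ.ker, r * x = x * r) : False := by
  obtain ⟨g, hg, hfix⟩ := D.no_trivial_action ⊥ hsw fun r hr => by
    rw [mem_bot, ← hx r hr, mul_inv_cancel_right, mul_inv_cancel]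
  have h4 := D.fix_five g hg
  rw [inf_eq_left.2 fun r hr => mem_centralizer_singleton_iff.2
    (mul_inv_eq_iff_eq_mul.1 (mul_inv_eq_one.1 (mem_bot.1 (hfix r hr)))).symm, D.card_ker] at h4
  omega

theorem card_map_mul (X : Subgroup H) :
    Nat.card (X.map D.φ) * Nat.card (D.φ.ker ⊓ X : Subgroup H) = Nat.card X := by
  have h1 := card_mul_index (D.φ.ker.subgroupOf X)
  have h2 : (D.φ.ker.subgroupOf X).index = Nat.card (X.map D.φ) := by
    rw [← relIndex_ker]; rfl
  rw [h2, ← inf_subgroupOf_right, Nat.card_congr (subgroupOfEquivOfLe inf_le_right).toEquiv] at h1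
  rw [mul_comm]
  exact h1

theorem image_cases {X : Subgroup H} (hX : IsPGroup 2 X) {x : H} (hx : x ∈ X) (h1 : D.φ x ≠ 1) :
    (∃ y ∈ X, PermFive.IsDbl (D.φ y)) ∨ PermFive.IsSw (D.φ x) := by
  haveI : Fact (Nat.Prime 2) := ⟨Nat.prime_two⟩
  obtain ⟨k, hk⟩ := IsPGroup.iff_orderOf.1 hX (⟨x, hx⟩ : X)
  rw [Subgroup.orderOf_mk] at hk
  have hd : orderOf (D.φ x) ∣ 2 ^ k := hk ▸ orderOf_map_dvd D.φ x
  have hd2 : orderOf (D.φ x) ∣ 120 := by
    have := orderOf_dvd_natCard (D.φ x)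
    rwa [Nat.card_eq_fintype_card, Fintype.card_perm, Fintype.card_fin] at this
  obtain ⟨j, -, hj⟩ := (Nat.dvd_prime_pow Nat.prime_two).1 hd
  have hj3 : j ≤ 3 := by
    by_contra hc
    have h16 : 2 ^ 4 ∣ 120 := ((pow_dvd_pow 2 (by omega : 4 ≤ j)).trans (dvd_of_eq hj.symm)).trans hd2
    norm_num at h16
  by_cases h8 : j = 3
  · exfalso
    have h : ∀ a : Perm (Fin 5), a ^ 8 = 1 → (a ^ 2) ^ 2 = 1 := by decide +kernel
    subst h8
    have h' := orderOf_dvd_of_pow_eq_one ((pow_mul _ 2 2).trans (h (D.φ x) (by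
      rw [← show (2 : ℕ) ^ 3 = 8 from rfl, ← hj, pow_orderOf_eq_one])))
    rw [hj] at h'
    norm_num at h'
  have h4 : (D.φ x ^ 2) ^ 2 = 1 := by
    rw [← pow_mul]
    exact orderOf_dvd_iff_pow_eq_one.1 (hj ▸ pow_dvd_pow 2 (by omega : j ≤ 2))
  rcases PermFive.two_el _ h1 h4 with h | h | h
  · exact Or.inl ⟨x, hx, h⟩
  · exact Or.inl ⟨x ^ 2, pow_mem hx 2, by rwa [map_pow]⟩
  · exact Or.inr h

include D in
/-- No abelian subgroup of order 128. -/
theorem not_abelian (X : Subgroup H) (hc : Nat.card X = 128) : ¬ IsMulCommutative X := by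
  intro hX
  have hab : ∀ a ∈ X, ∀ b ∈ X, a * b = b * a := fun a ha b hb =>
    congrArg Subtype.val (mul_comm' (⟨a, ha⟩ : X) ⟨b, hb⟩)
  haveI : Fact (Nat.Prime 2) := ⟨Nat.prime_two⟩
  have hXp : IsPGroup 2 X := IsPGroup.of_card (n := 7) (hc.trans (by norm_num))
  have hprod := D.card_map_mul X
  rw [hc] at hprod
  have h120 : Nat.card (X.map D.φ) ∣ 120 := by
    have := card_subgroup_dvd_card (X.map D.φ)
    rwa [Nat.card_eq_fintype_card (α := Perm (Fin 5)), Fintype.card_perm, Fintype.card_fin] at this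
  obtain ⟨j, hj7, hj⟩ := (Nat.dvd_prime_pow Nat.prime_two).1
    (show Nat.card (X.map D.φ) ∣ 2 ^ 7 from Dvd.intro _ hprod)
  have hj3 : j ≤ 3 := by
    by_contra hcon
    have h16 : 2 ^ 4 ∣ 120 := (pow_dvd_pow 2 (by omega : 4 ≤ j)).trans (hj ▸ h120)
    norm_num at h16
  have hj3' : j ≠ 3 := fun h3 => by
    obtain ⟨a, ⟨a', ha, rfl⟩, b, ⟨b', hb, rfl⟩, hab'⟩ :=
      PermFive.not_comm_of_card_eight (Y := X.map D.φ) (by rw [hj, h3]; rfl)
    exact hab' (by rw [← map_mul, hab a' ha b' hb, map_mul])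
  have hker : Nat.card (D.φ.ker ⊓ X : Subgroup H) ≤ 64 := by
    rw [← D.card_ker]; exact card_le_of_le inf_le_left
  have hj1 : 1 ≤ j := by
    by_contra hcon
    obtain rfl : j = 0 := by omega
    rw [hj, pow_zero, one_mul] at hprod
    omega
  have hnd : ∀ y ∈ X, ¬ PermFive.IsDbl (D.φ y) := fun y hy hd => by
    have h1 : Nat.card (D.φ.ker ⊓ X : Subgroup H) ≤ 16 :=
      (card_le_of_le fun r (hr : r ∈ D.φ.ker ⊓ X) => D.mem_fix.2 ⟨hr.1, hab r hr.2 y hy⟩).trans (D.fix_le_sixteen hd)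
    rw [hj] at hprod
    interval_cases j <;> omega
  obtain ⟨x, hx, hx1⟩ : ∃ x ∈ X, D.φ x ≠ 1 := by
    by_contra! hcon
    have h2 : X.map D.φ = ⊥ := by
      rw [eq_bot_iff]
      rintro _ ⟨x, hx, rfl⟩
      exact hcon x hx
    rw [h2, card_bot] at hj
    have := Nat.one_lt_two_pow (n := j) (by omega)
    omega
  rcases D.image_cases hXp hx hx1 with ⟨y, hy, hd⟩ | hs
  · exact hnd y hy hd
  have hj2 : j = 1 := by
    by_contra hcon
    have h2 : X.map D.φ ≤ zpowers (D.φ x) := by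
      rintro _ ⟨y, hy, rfl⟩
      by_cases hy1 : D.φ y = 1
      · rw [hy1]; exact one_mem _
      rcases D.image_cases hXp hy hy1 with ⟨w, hw, hd⟩ | hs'
      · exact absurd hd (hnd w hw)
      by_cases hxy : D.φ x = D.φ y
      · rw [← hxy]; exact mem_zpowers _
      refine absurd ?_ (hnd (x * y) (mul_mem hx hy))
      rw [map_mul]
      exact PermFive.sw_mul _ hs _ hs' (by rw [← map_mul, hab x hx y hy, map_mul]) hxy
    have h3 := card_le_of_le h2
    rw [Nat.card_zpowers, hj] at h3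
    have h4 : orderOf (D.φ x) ≤ 2 := Nat.le_of_dvd (by norm_num)
      (orderOf_dvd_of_pow_eq_one (by rw [pow_two]; exact hs.1))
    have h5 : 2 ^ 2 ≤ 2 ^ j := Nat.pow_le_pow_right (by norm_num) (by omega)
    omega
  subst hj2
  rw [hj] at hprod
  have h64 : D.φ.ker ≤ X := by
    rw [← inf_eq_left]
    exact Subgroup.eq_of_le_of_card_ge inf_le_left (by rw [D.card_ker]; omega)
  exact D.fix_lt x (Or.inl hs) fun r hr => hab r (h64 hr) x hx

theorem ker_le (S : Subgroup H) (hS : Nat.card S = 512) : D.φ.ker ≤ S ∧ Nat.card (S.map D.φ) = 8 := by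
  haveI : Fact (Nat.Prime 2) := ⟨Nat.prime_two⟩
  have hprod := D.card_map_mul S
  rw [hS] at hprod
  have h120 : Nat.card (S.map D.φ) ∣ 120 := by
    have := card_subgroup_dvd_card (S.map D.φ)
    rwa [Nat.card_eq_fintype_card (α := Perm (Fin 5)), Fintype.card_perm, Fintype.card_fin] at this
  obtain ⟨j, -, hj⟩ := (Nat.dvd_prime_pow Nat.prime_two).1
    (show Nat.card (S.map D.φ) ∣ 2 ^ 9 from Dvd.intro _ hprod)
  have hj3 : j ≤ 3 := by
    by_contra hcon
    have h16 : 2 ^ 4 ∣ 120 := (pow_dvd_pow 2 (by omega : 4 ≤ j)).trans (hj ▸ h120)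
    norm_num at h16
  have hker : Nat.card (D.φ.ker ⊓ S : Subgroup H) ≤ 64 := by
    rw [← D.card_ker]; exact card_le_of_le inf_le_left
  rw [hj] at hprod
  have hj' : j = 3 := by
    by_contra hcon
    interval_cases j <;> omega
  subst hj'
  refine ⟨?_, hj⟩
  rw [← inf_eq_left]
  exact Subgroup.eq_of_le_of_card_ge inf_le_left (by rw [D.card_ker]; omega)

/-- No elementary subgroup of order 16 almost centralised by a Sylow 2-subgroup. -/
theorem no_sixteen (S A : Subgroup H) {u z : H} (hS : Nat.card S = 512) (hAS : A ≤ S)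
    (hA : Nat.card A = 16) (hsq : ∀ a ∈ A, a * a = 1) (huA : u ∈ A) (huK : u ∈ D.φ.ker)
    (hu1 : u ≠ 1) (huc : ∀ h : H, h * u = u * h) (hz : z ∈ A) (hz1 : z ≠ 1) (hzu : z ≠ u)
    (hcomm : ∀ s ∈ S, ∀ a ∈ A, s * a * s⁻¹ * a⁻¹ = 1 ∨ s * a * s⁻¹ * a⁻¹ = z)
    (hX : Nat.card (S ⊓ centralizer (A : Set H) : Subgroup H) = 128)
    (hX' : Nat.card ((⁅S ⊓ centralizer (A : Set H), S ⊓ centralizer (A : Set H)⁆ : Subgroup H)) ≠ 4) :
    False := by
  haveI : Fact (Nat.Prime 2) := ⟨Nat.prime_two⟩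
  haveI hRn : D.φ.ker.Normal := inferInstance
  obtain ⟨hRS, hY⟩ := D.ker_le S hS
  have hSp : IsPGroup 2 S := IsPGroup.of_card (n := 9) (hS.trans (by norm_num))
  have hzS : ∀ s ∈ S, s * z = z * s := fun s hs => by
    rcases hcomm s hs z hz with h | h
    · exact mul_inv_eq_iff_eq_mul.1 (mul_inv_eq_one.1 h)
    · refine absurd ?_ hz1
      have h2 : s * z * s⁻¹ = z * z := mul_inv_eq_iff_eq_mul.1 h
      rw [hsq z hz, mul_inv_eq_iff_eq_mul, one_mul] at h2
      exact mul_left_cancel (h2.trans (mul_one s).symm)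
  have hzK : z ∈ D.φ.ker := by
    by_contra hcon
    refine D.fix_lt z ?_ fun r hr => hzS r (hRS hr)
    have h1 : D.φ z * D.φ z = 1 := by rw [← map_mul, hsq z hz, map_one]
    rcases PermFive.two_el _ hcon (by rw [pow_two (D.φ z), h1, one_pow]) with h | h | h
    · exact Or.inr h
    · rw [pow_two, h1] at h
      exact absurd h (by decide +kernel)
    · exact Or.inl h
  -- `A` lies in `R`
  have hAR : A ≤ D.φ.ker := by
    intro a ha
    by_contra hcon
    have h1 : D.φ a * D.φ a = 1 := by rw [← map_mul, hsq a ha, map_one]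
    rcases PermFive.two_el _ hcon (by rw [pow_two (D.φ a), h1, one_pow]) with h | h | h
    · let f : D.φ.ker → Bool := fun r =>
        @decide ((r : H) * a * (r : H)⁻¹ * a⁻¹ = 1) (Classical.propDecidable _)
      have hf : ∀ r r' : D.φ.ker, f r = f r' → ((r : H)⁻¹ * r') * a = a * ((r : H)⁻¹ * r') := by
        intro r r' e
        have e' : (r : H) * a * (r : H)⁻¹ * a⁻¹ = (r' : H) * a * (r' : H)⁻¹ * a⁻¹ := by
          have e2 : ((r : H) * a * (r : H)⁻¹ * a⁻¹ = 1) ↔ ((r' : H) * a * (r' : H)⁻¹ * a⁻¹ = 1) :=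
            decide_eq_decide.1 e
          rcases hcomm r (hRS r.2) a ha with u1 | u1 <;> rcases hcomm r' (hRS r'.2) a ha with u2 | u2
          · rw [u1, u2]
          · exact absurd (u2.symm.trans (e2.1 u1)) hz1
          · exact absurd (u1.symm.trans (e2.2 u2)) hz1
          · rw [u1, u2]
        have e2 := mul_right_cancel e'
        calc ((r : H)⁻¹ * r') * a = (r : H)⁻¹ * ((r' : H) * a * (r' : H)⁻¹) * r' := by group
          _ = (r : H)⁻¹ * ((r : H) * a * (r : H)⁻¹) * r' := by rw [e2]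
          _ = a * ((r : H)⁻¹ * r') := by group
      have h16 := D.fix_le_sixteen h
      -- the fibres of `f` lie in cosets of `C_R(a)`
      have hfin : Nat.card D.φ.ker ≤ 2 * Nat.card (D.fix a) := by
        haveI : Nonempty (D.fix a) := ⟨1⟩
        classical
        let pick : Bool → D.φ.ker := fun b => if hb : ∃ r, f r = b then hb.choose else 1
        have hpick : ∀ r, f (pick (f r)) = f r := fun r => by
          have hb : ∃ r', f r' = f r := ⟨r, rfl⟩
          simp only [pick, dif_pos hb]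
          exact hb.choose_spec
        let ψ : D.φ.ker → Bool × D.fix a := fun r =>
          (f r, ⟨(pick (f r) : H)⁻¹ * r, D.mem_fix.2
            ⟨mul_mem (inv_mem (pick (f r)).2) r.2, hf _ r (hpick r)⟩⟩)
        have hψ : Function.Injective ψ := fun r r' e => by
          have e1 : f r = f r' := congrArg Prod.fst e
          have e2 := congrArg (fun p => (p.2 : H)) e
          simp only [ψ, e1] at e2
          exact Subtype.ext (mul_left_cancel e2)
        have := Nat.card_le_card_of_injective ψ hψ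
        rwa [Nat.card_prod, Nat.card_eq_fintype_card (α := Bool), Fintype.card_bool] at this
      rw [D.card_ker] at hfin
      omega
    · rw [pow_two, h1] at h
      exact absurd h (by decide +kernel)
    · have hle : S.map D.φ ≤ centralizer ({D.φ a} : Set (Perm (Fin 5))) := by
        rintro _ ⟨s, hs, rfl⟩
        rw [mem_centralizer_singleton_iff]
        have h2 : D.φ (s * a * s⁻¹ * a⁻¹) = 1 := by
          rcases hcomm s hs a ha with e | e <;> rw [e]
          · exact map_one _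
          · exact hzK
        simp only [map_mul, map_inv] at h2
        exact mul_inv_eq_iff_eq_mul.1 (mul_inv_eq_one.1 h2)
      have h2 := card_dvd_of_le hle
      rw [hY, PermFive.card_cent_sw h] at h2
      omega
  by_cases hab : ∀ r ∈ D.φ.ker, ∀ r' ∈ D.φ.ker, r * r' = r' * r
  · -- `R` abelian
    set X := S ⊓ centralizer (A : Set H) with hXdef
    have hRX : D.φ.ker ≤ X := fun r hr => ⟨hRS hr, mem_centralizer_iff.2 fun a ha => hab a (hAR ha) r hr⟩
    have hXi : Nat.card (X.map D.φ) = 2 := by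
      have h := D.card_map_mul X
      rw [hX, inf_eq_left.2 hRX, D.card_ker] at h
      omega
    have hnd : ∀ x ∈ X, D.φ x ≠ 1 → PermFive.IsDbl (D.φ x) := by
      intro x hx hx1
      have hXp : IsPGroup 2 X := hSp.to_le inf_le_left
      rcases D.image_cases hXp hx hx1 with ⟨y, hy, hd⟩ | hs
      · have hy1 : D.φ y ≠ 1 := fun e => by
          rw [e] at hd
          exact absurd hd (by decide +kernel)
        have : D.φ x = D.φ y := by
          obtain ⟨q, -, hq⟩ := (Nat.card_eq_two_iff' (1 : X.map D.φ)).1 hXi |>.exists.elim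
            fun q hq => (⟨q, hq, fun q' hq' => ((Nat.card_eq_two_iff' (1 : X.map D.φ)).1 hXi).unique hq' hq⟩ :
              ∃ q : X.map D.φ, q ≠ 1 ∧ ∀ q', q' ≠ 1 → q' = q)
          exact congrArg Subtype.val ((hq ⟨D.φ x, x, hx, rfl⟩ fun e => hx1 (congrArg Subtype.val e)).trans
            (hq ⟨D.φ y, y, hy, rfl⟩ fun e => hy1 (congrArg Subtype.val e)).symm)
        rw [this]; exact hd
      · exfalso
        have hle : S.map D.φ ≤ centralizer ({D.φ x} : Set (Perm (Fin 5))) := by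
          rintro _ ⟨s, hs', rfl⟩
          rw [mem_centralizer_singleton_iff]
          have hmem : s * x * s⁻¹ ∈ X := by
            refine ⟨Subgroup.mul_mem _ (Subgroup.mul_mem _ hs' hx.1) (Subgroup.inv_mem _ hs'), mem_centralizer_iff.2 fun a ha => ?_⟩
            have ha' : s⁻¹ * a * s ∈ A := by
              rcases hcomm s⁻¹ (inv_mem hs') a ha with e | e <;>
                · rw [inv_inv] at e
                  rw [mul_inv_eq_iff_eq_mul.1 e]
                  first | (rw [one_mul]; exact ha) | exact mul_mem hz ha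
            calc a * (s * x * s⁻¹) = s * ((s⁻¹ * a * s) * x) * s⁻¹ := by group
              _ = s * (x * (s⁻¹ * a * s)) * s⁻¹ := by rw [mem_centralizer_iff.1 hx.2 _ ha']
              _ = s * x * s⁻¹ * a := by group
          have hne : D.φ (s * x * s⁻¹) ≠ 1 := by
            rw [map_mul, map_mul, map_inv]
            exact fun e => hx1 (conj_eq_one_iff.1 e)
          have heq := ((Nat.card_eq_two_iff' (1 : X.map D.φ)).1 hXi).unique
            (y₁ := ⟨D.φ (s * x * s⁻¹), _, hmem, rfl⟩) (y₂ := ⟨D.φ x, _, hx, rfl⟩)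
            (fun e => hne (congrArg Subtype.val e)) (fun e => hx1 (congrArg Subtype.val e))
          have h3 : D.φ s * D.φ x * (D.φ s)⁻¹ = D.φ x := by
            rw [← map_inv, ← map_mul, ← map_mul]; exact congrArg Subtype.val heq
          exact mul_inv_eq_iff_eq_mul.1 h3
        have h2 := card_dvd_of_le hle
        rw [hY, PermFive.card_cent_sw hs] at h2
        omega
    obtain ⟨x, hx, hx1⟩ : ∃ x ∈ X, D.φ x ≠ 1 := by
      by_contra! hcon
      have h2 : X.map D.φ = ⊥ := by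
        rw [eq_bot_iff]
        rintro _ ⟨y, hy, rfl⟩
        exact hcon y hy
      rw [h2, card_bot] at hXi
      omega
    have hxd := hnd x hx hx1
    let ψ : D.φ.ker →* H := MonoidHom.mk' (fun r => (r : H) * x * (r : H)⁻¹ * x⁻¹) fun r r' => by
      have h3 : (r' : H) * x * (r' : H)⁻¹ * x⁻¹ ∈ D.φ.ker := by
        rw [mul_assoc, mul_assoc, ← mul_assoc x]
        exact mul_mem r'.2 (D.mem_ker_conj (inv_mem r'.2) x)
      show (r : H) * r' * x * ((r : H) * r')⁻¹ * x⁻¹ = _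
      calc (r : H) * r' * x * ((r : H) * r')⁻¹ * x⁻¹
          = (r : H) * ((r' : H) * x * (r' : H)⁻¹ * x⁻¹) * (x * (r : H)⁻¹ * x⁻¹) := by group
        _ = ((r' : H) * x * (r' : H)⁻¹ * x⁻¹) * ((r : H) * (x * (r : H)⁻¹ * x⁻¹)) := by
            rw [hab _ r.2 _ h3, mul_assoc]
        _ = ((r : H) * (x * (r : H)⁻¹ * x⁻¹)) * ((r' : H) * x * (r' : H)⁻¹ * x⁻¹) :=
            hab _ h3 _ (mul_mem r.2 (D.mem_ker_conj (inv_mem r.2) x))
        _ = _ := by group
    have hA16 : A ≤ D.fix x := fun a ha => D.mem_fix.2 ⟨hAR ha, mem_centralizer_iff.1 hx.2 a ha⟩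
    have hAfix : A = D.fix x :=
      Subgroup.eq_of_le_of_card_ge hA16 (by rw [hA]; exact D.fix_le_sixteen hxd)
    have hker : Nat.card ψ.ker = 16 := by
      rw [← hA, hAfix]
      refine Nat.card_congr
        { toFun := fun r => ⟨((r : D.φ.ker) : H), D.mem_fix.2 ⟨(r : D.φ.ker).2,
            mul_inv_eq_iff_eq_mul.1 (mul_inv_eq_one.1 (MonoidHom.mem_ker.1 r.2))⟩⟩
          invFun := fun r => ⟨⟨r, (D.mem_fix.1 r.2).1⟩, MonoidHom.mem_ker.2 (by
            show (r : H) * x * (r : H)⁻¹ * x⁻¹ = 1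
            rw [(D.mem_fix.1 r.2).2, mul_inv_cancel_right, mul_inv_cancel])⟩
          left_inv := fun r => rfl
          right_inv := fun r => rfl }
    have hran : Nat.card ψ.range = 4 := by
      have h := card_mul_index ψ.ker
      rw [index_ker, hker, D.card_ker] at h
      omega
    refine hX' ?_
    rw [← hran]
    suffices he : ⁅X, X⁆ = ψ.range by rw [he]
    have hinX : ∀ g ∈ X, ∃ r ∈ D.φ.ker, g = r ∨ g = r * x := by
      intro g hg
      by_cases h1 : D.φ g = 1
      · exact ⟨g, h1, Or.inl rfl⟩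
      · refine ⟨g * x⁻¹, ?_, Or.inr (inv_mul_cancel_right g x).symm⟩
        have heq := ((Nat.card_eq_two_iff' (1 : X.map D.φ)).1 hXi).unique
          (y₁ := ⟨D.φ g, _, hg, rfl⟩) (y₂ := ⟨D.φ x, _, hx, rfl⟩)
          (fun e => h1 (congrArg Subtype.val e)) (fun e => hx1 (congrArg Subtype.val e))
        have e : D.φ g = D.φ x := congrArg Subtype.val heq
        rw [MonoidHom.mem_ker, map_mul, map_inv, e, mul_inv_cancel]
    refine le_antisymm (commutator_le.2 fun g hg g' hg' => ?_) ?_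
    · obtain ⟨r, hr, rfl | rfl⟩ := hinX g hg <;> obtain ⟨r', hr', rfl | rfl⟩ := hinX g' hg'
      · rw [commutatorElement_eq_one_iff_mul_comm.2 (hab g hr g' hr')]
        exact one_mem _
      · refine ⟨⟨g, hr⟩, ?_⟩
        show g * x * g⁻¹ * x⁻¹ = _
        rw [commutatorElement_def]
        calc g * x * g⁻¹ * x⁻¹ = r' * r'⁻¹ * (g * x * g⁻¹ * x⁻¹) := by group
          _ = r' * (g * x * g⁻¹ * x⁻¹) * r'⁻¹ := by
              rw [mul_assoc r', hab r'⁻¹ (inv_mem hr') _ (by
                rw [mul_assoc, mul_assoc, ← mul_assoc x]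
                exact mul_mem hr (D.mem_ker_conj (inv_mem hr) x))]
              group
          _ = (r' * g) * x * g⁻¹ * x⁻¹ * r'⁻¹ := by group
          _ = (g * r') * x * g⁻¹ * x⁻¹ * r'⁻¹ := by rw [hab r' hr' g hr]
          _ = _ := by group
      · rw [← commutatorElement_inv]
        refine inv_mem ⟨⟨g', hr'⟩, ?_⟩
        show g' * x * g'⁻¹ * x⁻¹ = _
        rw [commutatorElement_def]
        calc g' * x * g'⁻¹ * x⁻¹ = r * r⁻¹ * (g' * x * g'⁻¹ * x⁻¹) := by group
          _ = r * (g' * x * g'⁻¹ * x⁻¹) * r⁻¹ := by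
              rw [mul_assoc r, hab r⁻¹ (inv_mem hr) _ (by
                rw [mul_assoc, mul_assoc, ← mul_assoc x]
                exact mul_mem hr' (D.mem_ker_conj (inv_mem hr') x))]
              group
          _ = (r * g') * x * g'⁻¹ * x⁻¹ * r⁻¹ := by group
          _ = (g' * r) * x * g'⁻¹ * x⁻¹ * r⁻¹ := by rw [hab r hr g' hr']
          _ = _ := by group
      · have hq : r' * r⁻¹ ∈ D.φ.ker := mul_mem hr' (inv_mem hr)
        have e : ⁅r * x, r' * x⁆ = r * (x * (r' * r⁻¹) * x⁻¹) * r'⁻¹ := by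
          rw [commutatorElement_def]; group
        rw [e]
        have e2 : r * (x * (r' * r⁻¹) * x⁻¹) * r'⁻¹ =
            ((r' * r⁻¹) * x * (r' * r⁻¹)⁻¹ * x⁻¹)⁻¹ := by
          have hq' := D.mem_ker_conj hq x
          rw [hab r hr _ hq', mul_assoc, show r * r'⁻¹ = (r' * r⁻¹)⁻¹ by group]
          group
        rw [e2]
        exact inv_mem ⟨⟨_, hq⟩, rfl⟩
    · rintro _ ⟨r, rfl⟩
      exact commutator_mem_commutator (hRX r.2) hx
  · -- `R` not abelian
    push_neg at hab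
    obtain ⟨r₀, hr₀, r₁, hr₁, hne⟩ := hab
    have hzfive : ∀ g : H, orderOf g = 5 → g * z = z * g := by
      intro g hg
      by_contra hgz
      haveI : Fact (Nat.Prime 5) := ⟨Nat.prime_five⟩
      let Z : Subgroup H := D.φ.ker ⊓ centralizer (D.φ.ker : Set H)
      haveI : (centralizer (D.φ.ker : Set H)).Normal := inferInstance
      haveI hZn : Z.Normal := inferInstance
      have huZ : u ∈ Z := ⟨huK, mem_centralizer_iff.2 fun r _ => huc r⟩
      have hzZ : z ∈ Z := ⟨hzK, mem_centralizer_iff.2 fun r hr => hzS r (hRS hr)⟩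
      -- the orbit count on the centre
      have hP : IsPGroup 5 (zpowers g) := IsPGroup.of_card (n := 1) (by rw [Nat.card_zpowers, hg, pow_one])
      letI act : MulAction (zpowers g) Z :=
        { smul := fun k w => ⟨(k : H) * w * (k : H)⁻¹, hZn.conj_mem _ w.2 _⟩
          one_smul := fun w => Subtype.ext (show (1 : H) * w * 1⁻¹ = w by group)
          mul_smul := fun k k' w => Subtype.ext (show ((k : H) * k') * w * ((k : H) * k')⁻¹ =
            (k : H) * ((k' : H) * w * (k' : H)⁻¹) * (k : H)⁻¹ by group) }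
      have hmod := hP.card_modEq_card_fixedPoints Z
      have hfixed : Nat.card (MulAction.fixedPoints (zpowers g) Z) =
          Nat.card (Z ⊓ centralizer ({g} : Set H) : Subgroup H) :=
        Nat.card_congr
          { toFun := fun w => ⟨(w.1 : H), w.1.2, mem_centralizer_singleton_iff.2
              (mul_inv_eq_iff_eq_mul.1 (congrArg Subtype.val (w.2 ⟨g, mem_zpowers g⟩))).symm⟩
            invFun := fun w => ⟨⟨(w : H), w.2.1⟩, fun k => Subtype.ext (by
              obtain ⟨i, hi⟩ := mem_zpowers_iff.1 k.2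
              show (k : H) * w * (k : H)⁻¹ = w
              rw [← hi, ((show Commute g (w : H) from
                (mem_centralizer_singleton_iff.1 w.2.2).symm).zpow_left i).eq, mul_inv_cancel_right])⟩
            left_inv := fun w => rfl
            right_inv := fun w => rfl }
      rw [hfixed] at hmod
      have hZc : Nat.card Z ∣ 2 ^ 6 := (card_dvd_of_le inf_le_left).trans (dvd_of_eq D.card_ker)
      have hFc : Nat.card (Z ⊓ centralizer ({g} : Set H) : Subgroup H) ∣ 2 ^ 2 :=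
        (card_dvd_of_le (inf_le_inf_right _ inf_le_left)).trans (dvd_of_eq (D.fix_five g hg))
      obtain ⟨k, hk6, hk⟩ := (Nat.dvd_prime_pow Nat.prime_two).1 hZc
      obtain ⟨j, hj2, hj⟩ := (Nat.dvd_prime_pow Nat.prime_two).1 hFc
      have hlt : Nat.card (Z ⊓ centralizer ({g} : Set H) : Subgroup H) < Nat.card Z := by
        by_contra hcon
        have he := Subgroup.eq_of_le_of_card_ge inf_le_left (not_lt.1 hcon)
        have h2 : z ∈ Z ⊓ centralizer ({g} : Set H) := by rw [he]; exact hzZ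
        exact hgz (mem_centralizer_singleton_iff.1 h2.2).symm
      have h1j : 1 ≤ j := by
        by_contra hcon
        obtain rfl : j = 0 := by omega
        rw [pow_zero, card_eq_one] at hj
        have h2 : u ∈ Z ⊓ centralizer ({g} : Set H) :=
          ⟨huZ, mem_centralizer_singleton_iff.2 (huc g).symm⟩
        rw [hj] at h2
        exact hu1 h2
      rw [hj, hk] at hlt
      rw [hj, hk, Nat.ModEq] at hmod
      have hk5 : 5 ≤ k := by
        by_contra hcon
        interval_cases k <;> interval_cases j <;> omega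
      have hZ32 : 32 ≤ Nat.card Z := by
        rw [hk]; exact le_trans (by norm_num : 32 ≤ 2 ^ 5) (Nat.pow_le_pow_right (by norm_num) hk5)
      -- `R` is then abelian
      apply hne
      by_cases hr : r₀ ∈ Z
      · exact (mem_centralizer_iff.1 hr.2 r₁ hr₁).symm
      have hidx : Z.relIndex D.φ.ker ≤ 2 := by
        have := relIndex_mul_relIndex (⊥ : Subgroup H) Z D.φ.ker bot_le inf_le_left
        rw [relIndex_bot_left, relIndex_bot_left, D.card_ker] at this
        nlinarith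
      have hidx2 : (Z.subgroupOf D.φ.ker).index = 2 := by
        refine le_antisymm hidx ?_
        by_contra hcon
        have h01 : (Z.subgroupOf D.φ.ker).index = 1 := by
          have := (Z.subgroupOf D.φ.ker).index_ne_zero_of_finite
          omega
        exact hr (mem_subgroupOf.1 (show (⟨r₀, hr₀⟩ : D.φ.ker) ∈ Z.subgroupOf D.φ.ker by
          rw [index_eq_one.1 h01]; exact mem_top _))
      by_cases hr' : r₁ ∈ Z
      · exact mem_centralizer_iff.1 hr'.2 r₀ hr₀
      · have h2 := (mul_mem_iff_of_index_two hidx2 (a := (⟨r₀, hr₀⟩ : D.φ.ker)⁻¹) (b := ⟨r₁, hr₁⟩)).2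
          ⟨fun h => absurd (inv_mem_iff.1 h) hr, fun h => absurd h hr'⟩
        have h3 : r₀⁻¹ * r₁ ∈ Z := h2
        have h4 := mem_centralizer_iff.1 h3.2 r₀ hr₀
        calc r₀ * r₁ = r₀ * (r₀ * (r₀⁻¹ * r₁)) := by group
          _ = r₀ * ((r₀⁻¹ * r₁) * r₀) := by rw [h4]
          _ = r₁ * r₀ := by group
    -- the four fixed points
    set F : Subgroup H := closure {u, z} with hF
    have huz : u * z = z * u := (huc z).symm
    have hFA : F ≤ A := by rw [hF, closure_le]; intro x hx; rcases hx with rfl | rfl <;> assumption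
    have hFR : F ≤ D.φ.ker := hFA.trans hAR
    have hFcard : 4 ≤ Nat.card F := by
      have hinj : Function.Injective (fun b : Bool × Bool =>
          (⟨(if b.1 then u else 1) * (if b.2 then z else 1), mul_mem
            (by split <;> [exact subset_closure (Or.inl rfl); exact one_mem _])
            (by split <;> [exact subset_closure (Or.inr rfl); exact one_mem _])⟩ : F)) := by
        rintro ⟨a, b⟩ ⟨c, d⟩ e
        have e' := congrArg Subtype.val e
        have huu := hsq u huA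
        have huz1 : u * z ≠ 1 := fun h => hzu
          (mul_left_cancel (h.trans huu.symm))
        cases a <;> cases b <;> cases c <;> cases d <;>
          simp [hu1, hz1, huz1, Ne.symm huz1, Ne.symm hu1, Ne.symm hz1, hzu, Ne.symm hzu, mul_eq_one_iff_eq_inv,
            inv_eq_of_mul_eq_one_right huu, inv_eq_of_mul_eq_one_right (hsq z hz)] at e' ⊢
      have := Nat.card_le_card_of_injective _ hinj
      simpa using this
    have hFfix : ∀ g : H, orderOf g = 5 → F = D.φ.ker ⊓ centralizer ({g} : Set H) := fun g hg =>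
      Subgroup.eq_of_le_of_card_ge (le_inf hFR (by
        rw [hF, closure_le]
        intro x hx
        rcases hx with rfl | rfl
        · exact mem_centralizer_singleton_iff.2 (huc g).symm
        · exact mem_centralizer_singleton_iff.2 (hzfive g hg).symm))
        (by rw [D.fix_five g hg]; exact hFcard)
    obtain ⟨τ, ⟨s, hs, rfl⟩, a', ⟨x₁, hx₁, rfl⟩, b', ⟨x₂, hx₂, rfl⟩, σ, hτ, -, -, hστ, h5, h1⟩ :=
      PermFive.sylow_config hY
    obtain ⟨h, rfl⟩ := D.surj σ
    set y₂ := h * x₂ * h⁻¹ with hy₂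
    set g₀ := x₁ * y₂ with hg₀
    have hg : orderOf (g₀ ^ 64) = 5 :=
      D.five_of_image (by rw [hg₀, hy₂]; simpa using h5) (by rw [hg₀, hy₂]; simpa using h1)
    haveI hFn : F.Normal := ⟨fun f hf k => by
      have hg' : orderOf (k⁻¹ * g₀ ^ 64 * k) = 5 := by
        rw [show k⁻¹ * g₀ ^ 64 * k = MulAut.conj k⁻¹ (g₀ ^ 64) by simp, MulEquiv.orderOf_eq, hg]
      rw [hFfix _ hg'] at hf
      rw [hFfix _ hg]
      refine ⟨D.mem_ker_conj hf.1 k, mem_centralizer_singleton_iff.2 ?_⟩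
      have h2 := mem_centralizer_singleton_iff.1 hf.2
      calc k * f * k⁻¹ * g₀ ^ 64 = k * (f * (k⁻¹ * g₀ ^ 64 * k)) * k⁻¹ := by group
        _ = k * ((k⁻¹ * g₀ ^ 64 * k) * f) * k⁻¹ := by rw [h2]
        _ = g₀ ^ 64 * (k * f * k⁻¹) := by group⟩
    have hzF : z ∈ F := subset_closure (Or.inr rfl)
    have hSA : ∀ t ∈ S, ∀ a ∈ A, t * a * t⁻¹ * a⁻¹ ∈ F := fun t ht a ha => by
      rcases hcomm t ht a ha with e | e <;> rw [e]
      exacts [one_mem _, hzF]
    set A' := A.map (MulAut.conj h).toMonoidHom with hA'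
    have hA'c : Nat.card A' = 16 := by rw [hA', card_map_of_injective (MulAut.conj h).injective, hA]
    have hA'R : A' ≤ D.φ.ker := by
      rintro _ ⟨a, ha, rfl⟩
      exact D.mem_ker_conj (hAR ha) h
    have hA'S : ∀ t ∈ S, ∀ a ∈ A', (h * t * h⁻¹) * a * (h * t * h⁻¹)⁻¹ * a⁻¹ ∈ F := by
      rintro t ht _ ⟨a, ha, rfl⟩
      show h * t * h⁻¹ * (h * a * h⁻¹) * (h * t * h⁻¹)⁻¹ * (h * a * h⁻¹)⁻¹ ∈ F
      rw [show h * t * h⁻¹ * (h * a * h⁻¹) * (h * t * h⁻¹)⁻¹ * (h * a * h⁻¹)⁻¹ =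
        h * (t * a * t⁻¹ * a⁻¹) * h⁻¹ by group]
      exact hFn.conj_mem _ (hSA t ht a ha) h
    have hinf : A ⊓ A' ≤ F := by
      intro a ha
      have h2 : g₀ * a * g₀⁻¹ * a⁻¹ ∈ F := by
        rw [hg₀, show x₁ * y₂ * a * (x₁ * y₂)⁻¹ * a⁻¹ =
          x₁ * (y₂ * a * y₂⁻¹ * a⁻¹) * x₁⁻¹ * (x₁ * a * x₁⁻¹ * a⁻¹) by group]
        exact mul_mem (hFn.conj_mem _ (hA'S x₂ hx₂ a ha.2) _) (hSA x₁ hx₁ a ha.1)
      have h3 : ∀ n : ℕ, g₀ ^ n * a * (g₀ ^ n)⁻¹ * a⁻¹ ∈ F := by
        intro n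
        induction n with
        | zero => simp
        | succ n ih =>
          rw [pow_succ', show g₀ * g₀ ^ n * a * (g₀ * g₀ ^ n)⁻¹ * a⁻¹ =
            g₀ * (g₀ ^ n * a * (g₀ ^ n)⁻¹ * a⁻¹) * g₀⁻¹ * (g₀ * a * g₀⁻¹ * a⁻¹) by group]
          exact mul_mem (hFn.conj_mem _ ih g₀) h2
      set g := g₀ ^ 64 with hgdef
      set f := g * a * g⁻¹ * a⁻¹ with hf
      have hfF : f ∈ F := h3 64
      have hfg : g * f = f * g := by
        rw [hFfix g hg] at hfF
        exact (mem_centralizer_singleton_iff.1 hfF.2).symm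
      have h4 : ∀ n : ℕ, g ^ n * a * (g ^ n)⁻¹ = f ^ n * a := by
        intro n
        induction n with
        | zero => simp
        | succ n ih =>
          calc g ^ (n + 1) * a * (g ^ (n + 1))⁻¹ = g * (g ^ n * a * (g ^ n)⁻¹) * g⁻¹ := by
                rw [pow_succ']; group
            _ = g * (f ^ n * a) * g⁻¹ := by rw [ih]
            _ = (g * f ^ n * g⁻¹) * (g * a * g⁻¹) := by group
            _ = f ^ n * (f * a) := by
                rw [((show Commute g f from hfg).pow_right n).eq, mul_inv_cancel_right, hf]; group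
            _ = f ^ (n + 1) * a := by rw [pow_succ]; group
      have h6 := h4 5
      rw [show g ^ 5 = 1 by rw [← hg, pow_orderOf_eq_one], one_mul, inv_one, mul_one] at h6
      have hf5 : f ^ 5 = 1 := mul_right_cancel (h6.symm.trans (one_mul a).symm)
      have hf2 : f * f = 1 := hsq f (hFA hfF)
      have hf1 : f = 1 := by
        rw [show f ^ 5 = f * f * (f * f) * f by simp [pow_succ, mul_assoc], hf2, one_mul, one_mul] at hf5
        exact hf5
      rw [hFfix g hg]
      exact ⟨hAR ha.1, mem_centralizer_singleton_iff.2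
        (mul_inv_eq_iff_eq_mul.1 (mul_inv_eq_one.1 hf1)).symm⟩
    -- `A` and its conjugate generate `R`
    have hsup : A ⊔ A' = D.φ.ker := by
      refine Subgroup.eq_of_le_of_card_ge (sup_le hAR hA'R) ?_
      have h2 : A'.relIndex A ≤ A'.relIndex (A ⊔ A') :=
        relIndex_le_of_le_right le_sup_left Subgroup.index_ne_zero_of_finite
      have h3 : Nat.card (A ⊓ A' : Subgroup H) * A'.relIndex A = 16 := by
        rw [← inf_relIndex_left, ← relIndex_bot_left,
          relIndex_mul_relIndex ⊥ _ A bot_le inf_le_left, relIndex_bot_left, hA]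
      have h4 : Nat.card A' * A'.relIndex (A ⊔ A') = Nat.card (A ⊔ A' : Subgroup H) := by
        rw [← relIndex_bot_left, relIndex_mul_relIndex ⊥ _ _ bot_le le_sup_right, relIndex_bot_left]
      have h5 : Nat.card (A ⊓ A' : Subgroup H) ≤ 4 := by
        rw [← D.fix_five _ hg, ← hFfix _ hg]
        exact card_le_of_le hinf
      rw [D.card_ker, ← h4, hA'c]
      nlinarith [Nat.card_pos (α := (A ⊓ A' : Subgroup H))]
    obtain ⟨g, hg5, hgtriv⟩ := D.no_trivial_action F (x := s) (Or.inl hτ) (by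
      let K : Subgroup H :=
        { carrier := {r | s * r * s⁻¹ * r⁻¹ ∈ F}
          one_mem' := by simp
          mul_mem' := fun {a b} ha hb => by
            show s * (a * b) * s⁻¹ * (a * b)⁻¹ ∈ F
            rw [show s * (a * b) * s⁻¹ * (a * b)⁻¹ =
              (s * a * s⁻¹ * a⁻¹) * (a * (s * b * s⁻¹ * b⁻¹) * a⁻¹) by group]
            exact mul_mem ha (hFn.conj_mem _ hb a)
          inv_mem' := fun {a} ha => by
            show s * a⁻¹ * s⁻¹ * a⁻¹⁻¹ ∈ F
            rw [show s * a⁻¹ * s⁻¹ * a⁻¹⁻¹ = a⁻¹ * (s * a * s⁻¹ * a⁻¹)⁻¹ * a⁻¹⁻¹ by group]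
            exact hFn.conj_mem _ (inv_mem ha) _ }
      have h2 : A ⊔ A' ≤ K := sup_le (fun a ha => hSA s hs a ha) fun a ha => by
        show s * a * s⁻¹ * a⁻¹ ∈ F
        obtain ⟨r, hr, e⟩ : ∃ r ∈ D.φ.ker, s = r * (h * s * h⁻¹) :=
          ⟨s * (h * s * h⁻¹)⁻¹, MonoidHom.mem_ker.2 (by
            simp only [map_mul, map_inv]
            rw [hστ, mul_inv_cancel_right, mul_inv_cancel]), (inv_mul_cancel_right _ _).symm⟩
        have hr' : r * a * r⁻¹ * a⁻¹ ∈ F := by
          obtain ⟨a₀, ha₀, rfl⟩ := ha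
          have h3 : h⁻¹ * r * h ∈ S := hRS (by simpa using D.mem_ker_conj hr h⁻¹)
          show r * (h * a₀ * h⁻¹) * r⁻¹ * (h * a₀ * h⁻¹)⁻¹ ∈ F
          rw [show r * (h * a₀ * h⁻¹) * r⁻¹ * (h * a₀ * h⁻¹)⁻¹ =
            h * ((h⁻¹ * r * h) * a₀ * (h⁻¹ * r * h)⁻¹ * a₀⁻¹) * h⁻¹ by group]
          exact hFn.conj_mem _ (hSA _ h3 a₀ ha₀) h
        rw [e, show r * (h * s * h⁻¹) * a * (r * (h * s * h⁻¹))⁻¹ * a⁻¹ =
          r * ((h * s * h⁻¹) * a * (h * s * h⁻¹)⁻¹ * a⁻¹) * r⁻¹ * (r * a * r⁻¹ * a⁻¹) by group]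
        exact mul_mem (hFn.conj_mem _ (hA'S s hs a ha) r) hr'
      exact fun r hr => h2 (hsup.symm ▸ hr))
    have h4 := D.fix_five g hg5
    have hall : D.φ.ker ≤ centralizer ({g} : Set H) := by
      intro r hr
      set f := g * r * g⁻¹ * r⁻¹ with hf
      have hfF : f ∈ F := hgtriv r hr
      have hfg : g * f = f * g := by
        rw [hFfix g hg5] at hfF
        exact (mem_centralizer_singleton_iff.1 hfF.2).symm
      have h6 : ∀ n : ℕ, g ^ n * r * (g ^ n)⁻¹ = f ^ n * r := by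
        intro n
        induction n with
        | zero => simp
        | succ n ih =>
          calc g ^ (n + 1) * r * (g ^ (n + 1))⁻¹ = g * (g ^ n * r * (g ^ n)⁻¹) * g⁻¹ := by
                rw [pow_succ']; group
            _ = g * (f ^ n * r) * g⁻¹ := by rw [ih]
            _ = (g * f ^ n * g⁻¹) * (g * r * g⁻¹) := by group
            _ = f ^ n * (f * r) := by
                rw [((show Commute g f from hfg).pow_right n).eq, mul_inv_cancel_right, hf]; group
            _ = f ^ (n + 1) * r := by rw [pow_succ]; group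
      have h7 := h6 5
      rw [show g ^ 5 = 1 by rw [← hg5, pow_orderOf_eq_one], one_mul, inv_one, mul_one] at h7
      have hf5 : f ^ 5 = 1 := mul_right_cancel (h7.symm.trans (one_mul r).symm)
      have hf2 : f * f = 1 := hsq f (hFA hfF)
      rw [show f ^ 5 = f * f * (f * f) * f by simp [pow_succ, mul_assoc], hf2, one_mul, one_mul] at hf5
      exact mem_centralizer_singleton_iff.2 (mul_inv_eq_iff_eq_mul.1 (mul_inv_eq_one.1 hf5)).symm
    rw [inf_eq_left.2 hall, D.card_ker] at h4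
    omega

end UData

end CfsgLib.ClassK.M24Nse
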