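import Cfsg.Agent.Lib.ClassK.M24Nse.CentUExcl
import Cfsg.Agent.Lib.ClassK.M23Nse.Tools
import Cfsg.Agent.Lib.ClassK.SmallOrdersExc
import Cfsg.Agent.Lib.ClassK.SmallSimple
import Cfsg.Agent.Lib.Recog.SymNine.Count

/-!
A group of order 7680 with elements of order five centralised by exactly twenty elements and
normalised by eighty has a normal subgroup of order 64 with quotient `S₅`.
-/

set_option autoImplicit false
set_option linter.unusedSectionVars false
set_option linter.style.haveILetI false

namespace CfsgLib.ClassK.M24Nse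

open Subgroup Equiv

universe u

namespace Shape

variable {Q : Type u} [Group Q] [Finite Q]

theorem orderOf_map_eq {A B : Type*} [Group A] [Group B] (f : A →* B) (hf : Function.Injective f)
    (a : A) : orderOf (f a) = orderOf a := orderOf_injective f hf a

theorem mem_of_prime_not_dvd_index {G : Type*} [Group G] (L : Subgroup G) [L.Normal] {p : ℕ}
    (hp : p.Prime) (hd : ¬ p ∣ L.index) {x : G} (hx : orderOf x = p) : x ∈ L := by
  have h1 : x ^ L.index ∈ L := L.pow_index_mem x
  obtain ⟨i, hi⟩ := exists_pow_eq_self_of_coprime (x := x) (n := L.index)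
    (by rw [hx]; exact ((hp.coprime_iff_not_dvd).2 hd).symm)
  rw [← hi]
  exact pow_mem h1 i

/-- A minimal normal subgroup of order divisible by 15 in a group of order `15 * 2 ^ b` without
normal 2-subgroups is simple. -/
theorem simple_of_minimal {b c : ℕ} (hQ : Nat.card Q = 15 * 2 ^ b)
    (h2 : ∀ N : Subgroup Q, N.Normal → IsPGroup 2 N → N = ⊥) (M : Subgroup Q) [M.Normal]
    (hM : Nat.card M = 15 * 2 ^ c)
    (hmin : ∀ N : Subgroup Q, N.Normal → N ≤ M → N ≠ ⊥ → N = M) : IsSimpleGroup M := by
  haveI : Fact (Nat.Prime 2) := ⟨Nat.prime_two⟩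
  haveI : Nontrivial M := Finite.one_lt_card_iff_nontrivial.1 (by
    rw [hM]
    exact lt_of_lt_of_le (by norm_num) (Nat.le_mul_of_pos_right 15 (Nat.two_pow_pos c)))
  refine ⟨fun L hL => ?_⟩
  haveI := hL
  refine or_iff_not_imp_left.2 fun hne => ?_
  have hidx := card_mul_index L
  rw [hM] at hidx
  have key : ∀ p, p.Prime → p ∣ 15 → ¬ p ∣ L.index → L = ⊤ := by
    intro p hp hp15 hd
    haveI := Fact.mk hp
    set K : Subgroup Q := closure {x : Q | x ∈ M ∧ orderOf x = p} with hK
    haveI hKn : K.Normal := by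
      refine ⟨fun y hy q => ?_⟩
      have h1 : K ≤ K.comap (MulAut.conj q).toMonoidHom := by
        refine (closure_le _).2 fun x hx => subset_closure ⟨(inferInstance : M.Normal).conj_mem x hx.1 q, ?_⟩
        show orderOf (MulAut.conj q x) = p
        rw [MulEquiv.orderOf_eq, hx.2]
      exact h1 hy
    have hKM : K ≤ M := (closure_le _).2 fun x hx => hx.1
    obtain ⟨x, hx⟩ := exists_prime_orderOf_dvd_card' (G := M) p (by
      rw [hM]; exact hp15.trans (dvd_mul_right _ _))
    have hKne : K ≠ ⊥ := fun e => by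
      have h1 : (x : Q) ∈ K := subset_closure ⟨x.2, by rw [Subgroup.orderOf_coe, hx]⟩
      rw [e, mem_bot] at h1
      rw [← Subgroup.orderOf_coe, h1, orderOf_one] at hx
      exact hp.ne_one hx.symm
    have hKL : K ≤ L.map M.subtype := (closure_le _).2 fun y hy =>
      ⟨⟨y, hy.1⟩, mem_of_prime_not_dvd_index L hp hd (by rw [Subgroup.orderOf_mk]; exact hy.2), rfl⟩
    rw [hmin K hKn hKM hKne] at hKL
    refine eq_top_iff.2 fun m _ => ?_
    obtain ⟨m', hm', e⟩ := hKL m.2
    exact (Subtype.ext e : m' = m) ▸ hm'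
  by_cases h3 : 3 ∣ L.index
  · by_cases h5 : 5 ∣ L.index
    · -- `L` is a normal 2-subgroup
      exfalso
      apply hne
      have h15 : 15 ∣ L.index := (by norm_num : (3 : ℕ).Coprime 5).mul_dvd_of_dvd_of_dvd h3 h5
      obtain ⟨d, hd⟩ := h15
      have hL2 : Nat.card L ∣ 2 ^ c := ⟨d, by rw [hd] at hidx; nlinarith⟩
      obtain ⟨k, -, hk⟩ := (Nat.dvd_prime_pow Nat.prime_two).1 hL2
      have hLp : IsPGroup 2 L := IsPGroup.of_card hk
      obtain ⟨P⟩ : Nonempty (Sylow 2 Q) := inferInstance
      have hLP : ∀ P : Sylow 2 Q, L.map M.subtype ≤ (P : Subgroup Q) := by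
        intro P
        set D : Subgroup M := (P : Subgroup Q).subgroupOf M with hD
        have hDp : IsPGroup 2 D := P.2.comap_of_injective M.subtype M.subtype_injective
        have hodd : ¬ 2 ∣ D.index := by
          intro h
          have h1 : D.index = (P : Subgroup Q).relIndex M := rfl
          have h1' : (M ⊔ (P : Subgroup Q)) = (P : Subgroup Q) ⊔ M := sup_comm _ _
          have h2' : Nat.card (P : Subgroup Q) * (P : Subgroup Q).relIndex ((P : Subgroup Q) ⊔ M) *
              ((P : Subgroup Q) ⊔ M).index = Nat.card Q := by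
            rw [mul_assoc, relIndex_mul_index le_sup_left, card_mul_index]
          have h3' : Nat.card M * M.relIndex (P : Subgroup Q) =
              Nat.card ((P : Subgroup Q) ⊔ M : Subgroup Q) := by
            rw [← relIndex_sup_right, ← relIndex_bot_left,
              relIndex_mul_relIndex ⊥ M _ bot_le le_sup_right, relIndex_bot_left]
          have h4' : Nat.card ((P : Subgroup Q) ⊓ M : Subgroup Q) * M.relIndex (P : Subgroup Q) =
              Nat.card (P : Subgroup Q) := by
            rw [← inf_relIndex_left, ← relIndex_bot_left,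
              relIndex_mul_relIndex ⊥ _ _ bot_le inf_le_left, relIndex_bot_left]
          have h5' : Nat.card ((P : Subgroup Q) ⊓ M : Subgroup Q) * (P : Subgroup Q).relIndex M =
              Nat.card M := by
            rw [← inf_relIndex_right, ← relIndex_bot_left,
              relIndex_mul_relIndex ⊥ _ _ bot_le inf_le_right, relIndex_bot_left]
          have h6 : Nat.card (P : Subgroup Q) * (P : Subgroup Q).relIndex M =
              Nat.card ((P : Subgroup Q) ⊔ M : Subgroup Q) := by
            rw [← h3', ← h4', ← h5']; ring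
          have h7 : (P : Subgroup Q).relIndex M ∣ (P : Subgroup Q).index := by
            refine ⟨((P : Subgroup Q) ⊔ M).index, ?_⟩
            have h8 := card_mul_index ((P : Subgroup Q) ⊔ M)
            rw [← h6, mul_assoc, ← card_mul_index (P : Subgroup Q)] at h8
            exact (Nat.eq_of_mul_eq_mul_left Nat.card_pos h8).symm
          exact P.not_dvd_index ((h1 ▸ h).trans h7)
        haveI : (L.map M.subtype).subgroupOf M = L → True := fun _ => trivial
        have hsup : IsPGroup 2 (L ⊔ D : Subgroup M) :=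
          IsPGroup.to_sup_of_normal_left' hLp hDp (by
            rw [normalizer_eq_top_iff.2 hL]
            exact le_top)
        have hle : L ⊔ D ≤ D := by
          obtain ⟨j, hj⟩ := hsup.index (D.subgroupOf (L ⊔ D))
          rcases j with _ | j
          · exact relIndex_eq_one.1 (hj.trans (pow_zero 2))
          · exact absurd ((Dvd.intro_left _ (pow_succ 2 j).symm).trans
              (hj ▸ Dvd.intro _ (relIndex_mul_index (le_sup_right : D ≤ L ⊔ D)))) hodd
        rintro _ ⟨m, hm, rfl⟩
        exact hle (mem_sup_left hm)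
      have hbot : (P : Subgroup Q).normalCore = ⊥ :=
        h2 _ inferInstance (P.2.to_le (normalCore_le _))
      rw [eq_bot_iff]
      intro m hm
      have hmem : (m : Q) ∈ (P : Subgroup Q).normalCore := fun q => by
        have h9 := hLP (q⁻¹ • P) ⟨m, hm, rfl⟩
        rw [Sylow.coe_subgroup_smul] at h9
        obtain ⟨y, hy, e⟩ := h9
        have e' : q⁻¹ * y * q⁻¹⁻¹ = (m : Q) := e
        rw [← e', show q * (q⁻¹ * y * q⁻¹⁻¹) * q⁻¹ = y by group]
        exact hy
      rw [hbot] at hmem
      exact Subtype.ext (mem_bot.1 hmem)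
    · exact key 5 Nat.prime_five (by norm_num) h5
  · exact key 3 Nat.prime_three (by norm_num) h3

/-- A nonabelian simple group of order `15 * 2 ^ c`. -/
theorem card_simple {M : Type u} [Group M] [Finite M] [IsSimpleGroup M] {c : ℕ} (hc : c ≤ 9)
    (hM : Nat.card M = 15 * 2 ^ c) : Nat.card M = 60 := by
  haveI : Fact (Nat.Prime 2) := ⟨Nat.prime_two⟩
  have hG : ¬ IsMulCommutative M := CfsgLib.Transfer.not_isMulCommutative_of_not_prime fun hp => by
    rw [hM] at hp
    rcases hp.eq_one_or_self_of_dvd 3 (Dvd.intro (5 * 2 ^ c) (by ring)) with h | h <;>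
      have := Nat.two_pow_pos c <;> omega
  by_cases h4 : 4 ≤ c
  · exfalso
    refine CfsgLib.ClassK.false_of_fifteen_sylow_two hG h4 (by rw [hM, mul_comm]) ?_
    refine List.mem_singleton.1 (CfsgLib.ClassK.sylow_count_mem (p := 2) (a := c) hG hM (by omega)
      (dvd_mul_left _ _) ?_ [15] ?_)
    · intro h
      rw [pow_succ'] at h
      have := (Nat.mul_dvd_mul_iff_right (Nat.two_pow_pos c)).1 h
      norm_num at this
    · interval_cases c <;> decide +kernel
  · interval_cases c <;> first
      | (norm_num at hM ⊢; omega)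
      | (have h := CfsgLib.ClassK.card_mem_of_le_1092 hG (by rw [hM]; norm_num)
         rw [hM] at h
         exact absurd h (by decide))

end Shape

variable {H : Type u} [Group H] [Finite H]

open Shape in
/-- The shape of the group. -/
theorem exists_udata (hc : Nat.card H = 7680)
    (h20 : ∀ g : H, orderOf g = 5 → Nat.card (centralizer ({g} : Set H)) = 20)
    (h80 : ∀ g : H, orderOf g = 5 → Nat.card (normalizer (zpowers g : Set H)) = 80)
    {u : H} (hu : orderOf u = 2) (huc : ∀ h : H, h * u = u * h) :
    ∃ D : UData H, u ∈ D.φ.ker := by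
  classical
  haveI : Fact (Nat.Prime 2) := ⟨Nat.prime_two⟩
  obtain ⟨P⟩ : Nonempty (Sylow 2 H) := inferInstance
  set R : Subgroup H := (P : Subgroup H).normalCore with hR
  have hRp : IsPGroup 2 R := P.2.to_le (normalCore_le _)
  have hRmax : ∀ N : Subgroup H, N.Normal → IsPGroup 2 N → N ≤ R := fun N hN hNp => by
    haveI := hN
    refine normal_le_normalCore.2 ?_
    have hle := IsPGroup.to_sup_of_normal_right' P.2 hNp (by
      rw [normalizer_eq_top_iff.2 hN]; exact le_top)
    rw [← P.3 hle le_sup_left]
    exact le_sup_right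
  have huR : u ∈ R := by
    haveI : (zpowers u).Normal := ⟨fun x hx h => by
      obtain ⟨i, rfl⟩ := mem_zpowers_iff.1 hx
      rw [((show Commute h u from huc h).zpow_right i).eq, mul_inv_cancel_right]
      exact zpow_mem (mem_zpowers u) i⟩
    exact hRmax _ inferInstance (IsPGroup.of_card (n := 1) (by rw [Nat.card_zpowers, hu, pow_one]))
      (mem_zpowers u)
  obtain ⟨k, hk⟩ := hRp.exists_card_eq
  haveI hRn : R.Normal := inferInstance
  have hk9 : k ≤ 9 := by
    by_contra hcon
    have h1 : 2 ^ 10 ∣ 7680 :=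
      (pow_dvd_pow 2 (by omega : 10 ≤ k)).trans (hk ▸ hc ▸ card_subgroup_dvd_card R)
    norm_num at h1
  have hQc : Nat.card (H ⧸ R) = 15 * 2 ^ (9 - k) := by
    have h1 := card_eq_card_quotient_mul_card_subgroup R
    rw [hc, hk] at h1
    refine Nat.eq_of_mul_eq_mul_right (Nat.two_pow_pos k) ?_
    rw [← h1, mul_assoc, ← pow_add, Nat.sub_add_cancel hk9]; norm_num
  set π := QuotientGroup.mk' R with hπ
  have hπs : Function.Surjective π := QuotientGroup.mk'_surjective R
  have h2 : ∀ N : Subgroup (H ⧸ R), N.Normal → IsPGroup 2 N → N = ⊥ := fun N hN hNp => by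
    haveI := hN
    have h1 : N.comap π ≤ R := hRmax _ inferInstance
      (hNp.comap_of_ker_isPGroup π (by rw [QuotientGroup.ker_mk']; exact hRp))
    rw [eq_bot_iff]
    intro x hx
    obtain ⟨h, rfl⟩ := hπs x
    exact mem_bot.2 ((QuotientGroup.eq_one_iff h).2 (h1 hx))
  -- a minimal normal subgroup
  have hQne : (⊤ : Subgroup (H ⧸ R)) ≠ ⊥ := fun e => by
    have h1 : Nat.card (⊤ : Subgroup (H ⧸ R)) = 1 := by rw [e, card_bot]
    rw [card_top, hQc] at h1
    have := Nat.two_pow_pos (9 - k)
    omega
  let T := {N : Subgroup (H ⧸ R) // N.Normal ∧ N ≠ ⊥}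
  haveI : Nonempty T := ⟨⟨⊤, inferInstance, hQne⟩⟩
  obtain ⟨⟨M, hMn, hMne⟩, hMmin⟩ := Finite.exists_min (fun N : T => Nat.card N.1)
  haveI := hMn
  have hmin : ∀ N : Subgroup (H ⧸ R), N.Normal → N ≤ M → N ≠ ⊥ → N = M := fun N hN hle hne =>
    eq_of_le_of_card_ge hle (hMmin ⟨N, hN, hne⟩)
  have hMd : Nat.card M ∣ 15 * 2 ^ (9 - k) := hQc ▸ card_subgroup_dvd_card M
  obtain ⟨e, c, he, hc', hMc⟩ : ∃ e c, e ∣ 15 ∧ c ≤ 9 ∧ Nat.card M = e * 2 ^ c := by
    obtain ⟨a, b, ha, hb, hab⟩ := exists_dvd_and_dvd_of_dvd_mul hMd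
    obtain ⟨c, hcle, rfl⟩ := (Nat.dvd_prime_pow Nat.prime_two).1 hb
    exact ⟨a, c, ha, by omega, hab⟩
  have hMK : ∀ p : ℕ, p.Prime → p ∣ 15 → Nat.card M = p * 2 ^ c →
      ∃ T : Subgroup H, Nat.card T = p ∧ ∀ q, q ∣ 7680 → q.Prime → ¬ q ∣ p * 2 →
        q ∣ Nat.card (normalizer (T : Set H)) := by
    intro p hp _ hMp
    haveI := Fact.mk hp
    set K := M.comap π with hK
    have hKc : Nat.card K = p * 2 ^ (c + k) := by
      have h1 := card_eq_card_quotient_mul_card_subgroup (R.subgroupOf K)
      have hRK : R ≤ K := fun r hr => by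
        show π r ∈ M
        rw [show π r = 1 from (QuotientGroup.eq_one_iff r).2 hr]
        exact one_mem M
      rw [Nat.card_congr (subgroupOfEquivOfLe hRK).toEquiv, hk, ← index_eq_card] at h1
      have h2' : (R.subgroupOf K).index = Nat.card M := by
        show R.relIndex K = _
        have h3 : R = (⊥ : Subgroup (H ⧸ R)).comap π := by
          rw [MonoidHom.comap_bot, QuotientGroup.ker_mk']
        conv_lhs => rw [h3, relIndex_comap, hK, map_comap_eq_self_of_surjective hπs, relIndex_bot_left]
      rw [h2', hMp] at h1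
      rw [h1, pow_add, mul_assoc]
    obtain ⟨x, hx⟩ := exists_prime_orderOf_dvd_card' (G := K) p (by rw [hKc]; exact dvd_mul_right _ _)
    obtain ⟨S, hS⟩ := (IsPGroup.of_card (G := zpowers x) (p := p) (n := 1)
      (by rw [Nat.card_zpowers, hx, pow_one])).exists_le_sylow
    refine ⟨(S : Subgroup K).map K.subtype, ?_, fun q hq hqp hnd => ?_⟩
    · rw [card_map_of_injective K.subtype_injective, S.card_eq_multiplicity, hKc]
      have hp2 : p ≠ 2 := by
        rintro rfl
        norm_num at *
      rw [Nat.factorization_mul hp.ne_zero (pow_ne_zero _ two_ne_zero), Finsupp.add_apply,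
        hp.factorization_self, Nat.factorization_pow, Finsupp.smul_apply,
        Nat.Prime.factorization Nat.prime_two]
      rw [Finsupp.single_eq_of_ne hp2, smul_zero, add_zero, pow_one]
    · have hfr := Sylow.normalizer_sup_eq_top S
      set Nn := normalizer (((S : Subgroup K).map K.subtype : Subgroup H) : Set H)
      have hidx : Nn.index ∣ Nat.card K := by
        haveI : K.Normal := inferInstance
        have hfr' : K ⊔ Nn = ⊤ := by rw [sup_comm]; exact hfr
        have h1 : Nn.index = Nn.relIndex K := by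
          rw [← relIndex_top_right, ← hfr']
          have h5 : Nn.relIndex K * K.relIndex Nn = K.relIndex Nn * Nn.relIndex K := mul_comm _ _
          have h6 : Nat.card (Nn ⊓ K : Subgroup H) * Nn.relIndex K = Nat.card K := by
            rw [← inf_relIndex_right, ← relIndex_bot_left,
              relIndex_mul_relIndex ⊥ _ _ bot_le inf_le_right, relIndex_bot_left]
          have h7 : Nat.card (Nn ⊓ K : Subgroup H) * K.relIndex Nn = Nat.card Nn := by
            rw [← inf_relIndex_left, ← relIndex_bot_left,
              relIndex_mul_relIndex ⊥ _ _ bot_le inf_le_left, relIndex_bot_left]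
          have h8 : Nat.card K * K.relIndex Nn = Nat.card (K ⊔ Nn : Subgroup H) := by
            rw [← relIndex_sup_right, sup_comm Nn K, ← relIndex_bot_left,
              relIndex_mul_relIndex ⊥ _ _ bot_le le_sup_left, relIndex_bot_left]
          refine Nat.eq_of_mul_eq_mul_left (Nat.card_pos (α := Nn)) ?_
          rw [← relIndex_bot_left (H := Nn), relIndex_mul_relIndex ⊥ _ _ bot_le le_sup_right,
            relIndex_bot_left, relIndex_bot_left, ← h8, ← h7, ← h6]
          ring
        rw [h1]
        exact Dvd.intro_left (Nat.card (Nn ⊓ K : Subgroup H)) (by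
          rw [← inf_relIndex_right, ← relIndex_bot_left,
            relIndex_mul_relIndex ⊥ _ _ bot_le inf_le_right, relIndex_bot_left])
      have h1 := card_mul_index Nn
      rw [hc] at h1
      rcases hqp.dvd_mul.1 (h1.symm ▸ hq) with h | h
      · exact h
      · exfalso
        rw [hKc] at hidx
        rcases hqp.dvd_mul.1 (h.trans hidx) with h' | h'
        · exact hnd (h'.trans (dvd_mul_right _ _))
        · exact hnd ((hqp.dvd_of_dvd_pow h').trans (dvd_mul_left _ _))
  -- its order is divisible by fifteen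
  have he15 : e = 15 := by
    have h15 : e = 1 ∨ e = 3 ∨ e = 5 ∨ e = 15 := by
      have := Nat.le_of_dvd (by norm_num) he
      interval_cases e <;> first | omega | (revert he; norm_num)
    rcases h15 with rfl | rfl | rfl | rfl
    · exact absurd (h2 M hMn (IsPGroup.of_card (n := c) (by rw [hMc, one_mul]))) hMne
    · exfalso
      haveI : Fact (Nat.Prime 5) := ⟨Nat.prime_five⟩
      obtain ⟨T, hT, hN⟩ := hMK 3 Nat.prime_three (by norm_num) hMc
      obtain ⟨g, hg⟩ := exists_prime_orderOf_dvd_card' (G := normalizer (T : Set H)) 5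
        (hN 5 (by norm_num) Nat.prime_five (by norm_num))
      have hg' : orderOf (g : H) = 5 := by rw [Subgroup.orderOf_coe, hg]
      have h3 := M23Nse.card_modEq_fixed hg' g.2
      have h4 : Nat.card (T ⊓ centralizer ({(g : H)} : Set H) : Subgroup H) ∣ 3 :=
        (card_dvd_of_le inf_le_left).trans (dvd_of_eq hT)
      rcases (Nat.dvd_prime Nat.prime_three).1 h4 with h5 | h5
      · rw [h5, hT] at h3; norm_num at h3
      · have h6 := card_dvd_of_le (inf_le_right : T ⊓ centralizer ({(g : H)} : Set H) ≤ _)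
        rw [h5, h20 _ hg'] at h6
        norm_num at h6
    · exfalso
      haveI : Fact (Nat.Prime 5) := ⟨Nat.prime_five⟩
      obtain ⟨T, hT, hN⟩ := hMK 5 Nat.prime_five (by norm_num) hMc
      obtain ⟨g, hg⟩ := exists_prime_orderOf_dvd_card' (G := T) 5 (by rw [hT])
      have hg' : orderOf (g : H) = 5 := by rw [Subgroup.orderOf_coe, hg]
      have hTg : zpowers (g : H) = T :=
        eq_of_le_of_card_ge (zpowers_le.2 g.2) (by rw [hT, Nat.card_zpowers, hg'])
      have h3 := hN 3 (by norm_num) Nat.prime_three (by norm_num)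
      rw [← hTg, h80 _ hg'] at h3
      norm_num at h3
    · rfl
  subst he15
  haveI hMs : IsSimpleGroup M := simple_of_minimal hQc h2 M hMc hmin
  have hM60 : Nat.card M = 60 := card_simple hc' hMc
  -- five points
  haveI := alternatingGroup.isSimpleGroup (α := Fin 5) (by simp)
  have hA60 : Nat.card (alternatingGroup (Fin 5)) = 60 := CfsgLib.Recog.SymNine.card_alt_five
  obtain ⟨eA⟩ := CfsgLib.ClassK.nonempty_equiv_sixty hM60 hA60
  have hsyl : Nat.card (Sylow 2 M) = 5 := by
    have h15 : Nat.card (Sylow 2 M) ∈ [5, 15] :=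
      CfsgLib.ClassK.sylow_count_mem (p := 2) (a := 2)
        (CfsgLib.Transfer.not_isMulCommutative_of_not_prime (hM60 ▸ (by norm_num))) hM60 two_pos
        (by norm_num) (by norm_num) [5, 15] (by decide +kernel)
    simp only [List.mem_cons, List.not_mem_nil, or_false] at h15
    rcases h15 with h | h
    · exact h
    · exfalso
      refine CfsgLib.Recog.SymNine.sylow_two_alt_five ?_
      have hb : Function.Bijective
          (Sylow.mapSurjective (f := eA.toMonoidHom) eA.surjective : Sylow 2 M → _) :=
        ⟨fun P₁ P₂ he => Sylow.ext (map_injective eA.injective (congrArg Sylow.toSubgroup he)),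
          Sylow.mapSurjective_surjective eA.surjective 2⟩
      rw [← Nat.card_congr (Equiv.ofBijective _ hb), h]
      norm_num
  let cj : H ⧸ R →* MulAut M := MulAut.conjNormal
  let act : H ⧸ R →* Perm (Sylow 2 M) := (MulAction.toPermHom (MulAut M) (Sylow 2 M)).comp cj
  have hker : act.ker = ⊥ := by
    have hinf : act.ker ⊓ M = ⊥ := by
      rcases IsSimpleGroup.eq_bot_or_eq_top_of_normal (act.ker.subgroupOf M) inferInstance with h | h
      · rwa [subgroupOf_eq_bot, disjoint_iff] at h
      · exfalso
        obtain ⟨S⟩ : Nonempty (Sylow 2 M) := inferInstance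
        have hnorm : (S : Subgroup M).Normal := ⟨fun y hy m => by
          have h1 : (m : H ⧸ R) ∈ act.ker := by
            have : m ∈ act.ker.subgroupOf M := h ▸ mem_top m
            exact this
          have h2' : cj (m : H ⧸ R) • S = S := by
            have h3 := congrArg (fun σ : Perm (Sylow 2 M) => σ S) (MonoidHom.mem_ker.1 h1)
            exact h3
          have h4 : (cj (m : H ⧸ R)) y ∈ ((cj (m : H ⧸ R) • S : Sylow 2 M) : Subgroup M) := by
            exact ⟨y, hy, rfl⟩
          rw [h2'] at h4
          have e : cj (m : H ⧸ R) y = m * y * m⁻¹ := Subtype.ext (MulAut.conjNormal_apply _ _)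
          rwa [e] at h4⟩
        rcases IsSimpleGroup.eq_bot_or_eq_top_of_normal _ hnorm with h1 | h1
        · have h5 := S.card_eq_multiplicity
          rw [h1, card_bot, hM60, show (60 : ℕ).factorization 2 = 2 from by
            rw [Nat.factorization_def _ Nat.prime_two]; decide +kernel] at h5
          norm_num at h5
        · have h5 := S.card_eq_multiplicity
          rw [h1, card_top, hM60, show (60 : ℕ).factorization 2 = 2 from by
            rw [Nat.factorization_def _ Nat.prime_two]; decide +kernel] at h5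
          norm_num at h5
    refine h2 _ inferInstance ?_
    have h1 : Nat.card (act.ker ⊔ M : Subgroup (H ⧸ R)) = Nat.card act.ker * 60 := by
      have h8 : Nat.card M * M.relIndex act.ker = Nat.card (act.ker ⊔ M : Subgroup (H ⧸ R)) := by
        rw [← relIndex_sup_right, ← relIndex_bot_left,
          relIndex_mul_relIndex ⊥ M _ bot_le le_sup_right, relIndex_bot_left]
      rw [← h8, hM60, ← inf_relIndex_right, inf_comm, hinf, relIndex_bot_left, mul_comm]
    have h2' := card_subgroup_dvd_card (act.ker ⊔ M)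
    rw [h1, hQc] at h2'
    have h3 : Nat.card act.ker ∣ 2 ^ (9 - k) := by
      refine (Nat.Coprime.dvd_of_dvd_mul_left (m := 15) ?_ ((dvd_mul_right _ 60).trans h2'))
      by_contra hcon
      obtain ⟨p, hp, hpk, hp15⟩ := Nat.Prime.not_coprime_iff_dvd.1 hcon
      have h4 : p * 60 ∣ 15 * 2 ^ (9 - k) := (Nat.mul_dvd_mul_right hpk 60).trans h2'
      have hp35 : p = 3 ∨ p = 5 := by
        have := Nat.le_of_dvd (by norm_num) hp15
        interval_cases p <;> first | omega | (revert hp hp15; norm_num)
      have hcop : (p * p).Coprime (2 ^ (9 - k)) := by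
        rcases hp35 with rfl | rfl <;> exact Nat.Coprime.pow_right _ (by norm_num)
      have h5 : p * p ∣ 15 := hcop.dvd_of_dvd_mul_right (by
        rcases hp35 with rfl | rfl
        · exact (Dvd.intro 20 (by norm_num) : 3 * 3 ∣ 3 * 60).trans h4
        · exact (Dvd.intro 12 (by norm_num) : 5 * 5 ∣ 5 * 60).trans h4)
      rcases hp35 with rfl | rfl <;> norm_num at h5
    obtain ⟨j, -, hj⟩ := (Nat.dvd_prime_pow Nat.prime_two).1 h3
    exact IsPGroup.of_card hj
  have hinj : Function.Injective act := (MonoidHom.ker_eq_bot_iff act).1 hker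
  haveI : Finite (Sylow 2 M) := inferInstance
  obtain ⟨e5⟩ : Nonempty (Sylow 2 M ≃ Fin 5) := ⟨Finite.equivFinOfCardEq hsyl⟩
  let act5 : H ⧸ R →* Perm (Fin 5) := (e5.permCongrHom : Perm (Sylow 2 M) ≃* Perm (Fin 5)).toMonoidHom.comp act
  have hinj5 : Function.Injective act5 := (e5.permCongrHom).injective.comp hinj
  have hP5 : Nat.card (Perm (Fin 5)) = 120 := by
    rw [Nat.card_perm, Nat.card_fin]; rfl
  have hd120 : 15 * 2 ^ (9 - k) ∣ 120 := by
    rw [← hQc, ← hP5]; exact card_dvd_of_injective act5 hinj5
  have h60 : 60 ∣ 15 * 2 ^ (9 - k) := hM60 ▸ hQc ▸ card_subgroup_dvd_card M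
  have hk67 : k = 6 ∨ k = 7 := by
    interval_cases k <;> first | omega | (revert hd120 h60; norm_num)
  -- elements of order five
  haveI : Fact (Nat.Prime 5) := ⟨Nat.prime_five⟩
  have hfix : ∀ g : H, orderOf g = 5 →
      Nat.card (R ⊓ centralizer ({g} : Set H) : Subgroup H) ∣ 4 ∧
        2 ^ k % 5 = Nat.card (R ⊓ centralizer ({g} : Set H) : Subgroup H) % 5 := by
    intro g hg
    refine ⟨?_, hk ▸ M23Nse.card_modEq_fixed hg (by
      rw [normalizer_eq_top_iff.2 hRn]; exact mem_top g)⟩
    obtain ⟨j, -, hj⟩ := (Nat.dvd_prime_pow Nat.prime_two).1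
      ((card_dvd_of_le (inf_le_left : R ⊓ centralizer ({g} : Set H) ≤ R)).trans (dvd_of_eq hk))
    have h1 := card_dvd_of_le (inf_le_right : R ⊓ centralizer ({g} : Set H) ≤ centralizer {g})
    rw [h20 g hg, hj] at h1
    rw [hj]
    refine (Nat.Coprime.pow_left j (by norm_num : (2 : ℕ).Coprime 5)).dvd_of_dvd_mul_left ?_
    exact h1.trans (by norm_num)
  obtain ⟨g, hg⟩ := exists_prime_orderOf_dvd_card' (G := H) 5 (by rw [hc]; norm_num)
  have hk6 : k = 6 := by
    rcases hk67 with h | h
    · exact h
    · exfalso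
      obtain ⟨h1, h2'⟩ := hfix g hg
      rw [h] at h2'
      have := Nat.le_of_dvd (by norm_num) h1
      interval_cases hh : Nat.card (R ⊓ centralizer ({g} : Set H) : Subgroup H) <;>
        (revert h1 h2'; norm_num)
  subst hk6
  have hbij : Function.Bijective act5 :=
    hinj5.bijective_of_nat_card_le (by rw [hP5, hQc]; norm_num)
  have hkerφ : (act5.comp π).ker = R := by
    rw [MonoidHom.ker_comp_of_injective π act5 hinj5, QuotientGroup.ker_mk']
  refine ⟨⟨act5.comp π, hbij.2.comp hπs, by rw [hkerφ, hk]; norm_num, fun g hg => ?_⟩, ?_⟩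
  · rw [hkerφ]
    obtain ⟨h1, h2'⟩ := hfix g hg
    have := Nat.le_of_dvd (by norm_num) h1
    interval_cases hh : Nat.card (R ⊓ centralizer ({g} : Set H) : Subgroup H) <;>
      first | rfl | (revert h1 h2'; norm_num)
  · show u ∈ (act5.comp π).ker
    rw [hkerφ]; exact huR

end CfsgLib.ClassK.M24Nse
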