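import Cfsg.Agent.Lib.ClassK.M24Nse.CentUExcl
import Cfsg.Agent.Lib.ClassK.SmallOrdersExc
import Cfsg.Agent.Lib.Solvable.PCore
import Cfsg.Agent.Lib.Invol.CN.Socle

/-!
A group of order 7680 in which elements of order five have centralisers of order twenty is an
extension of a group of order 64 by the symmetric group on five letters.
-/

set_option autoImplicit false
set_option linter.unusedSectionVars false
set_option linter.style.haveILetI false

namespace CfsgLib.ClassK.M24Nse

open Subgroup Equiv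

namespace CentFive

variable {H : Type*} [Group H] [Finite H]

/-- The hypotheses. -/
def Shape (H : Type*) [Group H] : Prop :=
  Nat.card H = 7680 ∧ ∀ g : H, orderOf g = 5 → Nat.card (centralizer ({g} : Set H)) = 20

theorem no_fifteen (hs : Shape H) (w : H) : ¬ 15 ∣ orderOf w := by
  rintro ⟨k, hk⟩
  have hk0 : k ≠ 0 := fun h => by
    rw [h, mul_zero] at hk
    exact absurd hk (orderOf_pos w).ne'
  have h15 : orderOf (w ^ k) = 15 := by
    rw [orderOf_pow' w hk0, hk, Nat.gcd_eq_right (dvd_mul_left k 15), Nat.mul_div_cancel _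
      (Nat.pos_of_ne_zero hk0)]
  have h5 : orderOf ((w ^ k) ^ 3) = 5 := by
    rw [orderOf_pow' _ (by norm_num : (3 : ℕ) ≠ 0), h15]
    rfl
  have h1 : w ^ k ∈ centralizer ({(w ^ k) ^ 3} : Set H) :=
    mem_centralizer_singleton_iff.2 ((Commute.refl (w ^ k)).pow_right 3).eq
  have h2 := Subgroup.orderOf_dvd_natCard _ h1
  rw [h15, hs.2 _ h5] at h2
  omega

theorem card_normalizer (hs : Shape H) {P : Sylow 5 H} :
    Nat.card (P : Subgroup H) = 5 ∧ Nat.card (normalizer ((P : Subgroup H) : Set H)) = 80 := by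
  haveI : Fact (Nat.Prime 5) := ⟨Nat.prime_five⟩
  have hP : Nat.card (P : Subgroup H) = 5 :=
    (card_sylow_of_exact P (a := 1) (by rw [hs.1]; norm_num) (by rw [hs.1]; norm_num)).trans
      (pow_one 5)
  refine ⟨hP, ?_⟩
  haveI hPc : IsCyclic (P : Subgroup H) := isCyclic_of_prime_card hP
  obtain ⟨⟨x, hx⟩, hgen⟩ := hPc.exists_generator
  have hx5 : orderOf x = 5 := by
    rw [← Subgroup.orderOf_mk x hx, orderOf_eq_card_of_forall_mem_zpowers hgen, hP]
  have hzP : zpowers x = (P : Subgroup H) := eq_of_le_of_card_ge (zpowers_le.2 hx)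
    (by rw [Nat.card_zpowers, hx5, hP])
  have hC : centralizer ((P : Subgroup H) : Set H) = centralizer ({x} : Set H) := by
    rw [← hzP, zpowers_eq_closure, centralizer_closure]
  have hc20 : Nat.card (centralizer ((P : Subgroup H) : Set H)) = 20 := by rw [hC]; exact hs.2 x hx5
  set N := normalizer ((P : Subgroup H) : Set H) with hN
  have hle : centralizer ((P : Subgroup H) : Set H) ≤ N := centralizer_le_normalizer _
  have h1 := card_mul_index ((centralizer ((P : Subgroup H) : Set H)).subgroupOf N)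
  rw [Nat.card_congr (subgroupOfEquivOfLe hle).toEquiv, hc20] at h1
  have h4 : ((centralizer ((P : Subgroup H) : Set H)).subgroupOf N).index ∣ 4 := by
    have h := card_dvd_of_injective _ (QuotientGroup.kerLift_injective
      (P : Subgroup H).normalizerMonoidHom)
    rw [normalizerMonoidHom_ker, ← index, IsCyclic.card_mulAut, hP] at h
    exact h.trans (by rw [Nat.totient_prime Nat.prime_five])
  have hn := card_sylow_modEq_one 5 H
  rw [Sylow.card_eq_index_normalizer P] at hn
  change N.index ≡ 1 [MOD 5] at hn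
  have h7 := N.card_mul_index
  rw [hs.1] at h7
  obtain ⟨i, hi, hi'⟩ : ∃ i, i ∣ 4 ∧ Nat.card N = 20 * i := ⟨_, h4, h1.symm⟩
  rw [hi'] at h7 ⊢
  have : i = 1 ∨ i = 2 ∨ i = 4 := by
    have := Nat.le_of_dvd (by norm_num) hi
    interval_cases i <;> omega
  unfold Nat.ModEq at hn
  rcases this with rfl | rfl | rfl
  · exfalso; omega
  · exfalso; omega
  · rfl

theorem perm_cent_five : ∀ σ : Perm (Fin 5), σ ^ 5 = 1 → σ ≠ 1 →
    (Finset.univ.filter fun x => σ * x = x * σ).card = 5 := by
  decide +kernel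

theorem card_cent_perm_five {σ : Perm (Fin 5)} (h5 : σ ^ 5 = 1) (h1 : σ ≠ 1) :
    Nat.card (centralizer ({σ} : Set (Perm (Fin 5)))) = 5 := by
  refine Eq.trans ?_ (perm_cent_five σ h5 h1)
  rw [← Fintype.card_subtype, ← Nat.card_eq_fintype_card]
  exact Nat.card_congr (Equiv.subtypeEquivRight fun x => by
    rw [mem_centralizer_singleton_iff, eq_comm])

theorem card_map_mul {K : Type*} [Group K] (f : H →* K) (X : Subgroup H) :
    Nat.card (X.map f) * Nat.card (f.ker ⊓ X : Subgroup H) = Nat.card X := by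
  have h1 := card_mul_index (f.ker.subgroupOf X)
  have h2 : (f.ker.subgroupOf X).index = Nat.card (X.map f) := by
    rw [← relIndex_ker]; rfl
  rw [h2, ← inf_subgroupOf_right, Nat.card_congr (subgroupOfEquivOfLe inf_le_right).toEquiv] at h1
  rw [mul_comm]
  exact h1

/-- The facts about the quotient by `O_2`. -/
structure QFacts {Q : Type*} [Group Q] (x : Q) : Prop where
  card : ∃ a ≤ 9, Nat.card Q = 2 ^ a * 15
  core : ∀ p : ℕ, p.Prime → Cfsg.pCore p Q = ⊥
  ord : orderOf x = 5
  cent_three : ∀ q : Q, orderOf q = 3 → ¬ Commute q x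

theorem qfacts (hs : Shape H) {x : H} (hx : orderOf x = 5) [(Cfsg.pCore 2 H).Normal] :
    QFacts (QuotientGroup.mk' (Cfsg.pCore 2 H) x) := by
  haveI : Fact (Nat.Prime 2) := ⟨Nat.prime_two⟩
  haveI : Fact (Nat.Prime 5) := ⟨Nat.prime_five⟩
  set R := Cfsg.pCore 2 H with hR
  set π := QuotientGroup.mk' R with hπ
  obtain ⟨r, hr⟩ := (CfsgLib.Solvable.pCore_isPGroup (G := H) 2).exists_card_eq
  have hr9 : r ≤ 9 := by
    have h1 : 2 ^ r ∣ 2 ^ 9 := Nat.Coprime.dvd_of_dvd_mul_right
      (Nat.Coprime.pow_left r (by norm_num : Nat.Coprime 2 15))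
      (show 2 ^ r ∣ 2 ^ 9 * 15 by
        rw [← hr, show (2 : ℕ) ^ 9 * 15 = 7680 by norm_num, ← hs.1]; exact card_subgroup_dvd_card _)
    exact Nat.pow_dvd_pow_iff_le_right (by norm_num) |>.1 h1
  have hcQ : Nat.card (H ⧸ R) = 2 ^ (9 - r) * 15 := by
    have h1 := card_eq_card_quotient_mul_card_subgroup R
    have e : (7680 : ℕ) = 2 ^ (9 - r) * 15 * 2 ^ r := by
      rw [mul_right_comm, ← pow_add, Nat.sub_add_cancel hr9]; norm_num
    rw [hr, hs.1, e] at h1
    exact (Nat.eq_of_mul_eq_mul_right (Nat.two_pow_pos r) h1).symm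
  have hxR : π x ≠ 1 := fun h => by
    have h1 := Subgroup.orderOf_dvd_natCard _ ((QuotientGroup.eq_one_iff x).1 h)
    rw [hx, hr] at h1
    have := Nat.prime_five.dvd_of_dvd_pow h1
    omega
  have hox : orderOf (π x) = 5 := orderOf_eq_prime
    (by rw [← map_pow, ← hx, pow_orderOf_eq_one, map_one]) hxR
  have h15 : ∀ q : H ⧸ R, ¬ 15 ∣ orderOf q := fun q hq => by
    obtain ⟨w, rfl⟩ := QuotientGroup.mk'_surjective R q
    exact no_fifteen hs w (hq.trans (orderOf_map_dvd _ w))
  have h3 : ∀ q : H ⧸ R, orderOf q = 3 → ¬ Commute q (π x) := fun q hq hc => h15 (q * π x) (by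
    rw [hc.orderOf_mul_eq_mul_orderOf_of_coprime (by rw [hq, hox]; norm_num), hq, hox])
  refine ⟨⟨9 - r, Nat.sub_le _ _, hcQ⟩, fun p hp => ?_, hox, h3⟩
  haveI : Fact p.Prime := ⟨hp⟩
  by_contra hne
  set W := Cfsg.pCore p (H ⧸ R) with hW
  haveI hWn : W.Normal := CfsgLib.Solvable.pCore_normal p _
  obtain ⟨k, hk⟩ := (CfsgLib.Solvable.pCore_isPGroup (G := H ⧸ R) p).exists_card_eq
  have hp15 : p ≠ 2 := fun h => hne (by subst h; exact CfsgLib.Solvable.pCore_quotient_eq_bot 2)
  have hk0 : k ≠ 0 := fun h => hne (Subgroup.eq_bot_of_card_eq _ (by rw [hk, h, pow_zero]))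
  have hdvd : p ^ k ∣ 15 := Nat.Coprime.dvd_of_dvd_mul_left
    (Nat.Coprime.pow _ _ ((Nat.coprime_primes hp Nat.prime_two).2 hp15))
    (show p ^ k ∣ 2 ^ (9 - r) * 15 by rw [← hk, ← hcQ]; exact card_subgroup_dvd_card _)
  have hp35 : p = 3 ∨ p = 5 := by
    have h1 : p ∣ 3 * 5 := (dvd_pow_self p hk0).trans hdvd
    exact ((Nat.Prime.dvd_mul hp).1 h1).imp (fun h => (Nat.prime_dvd_prime_iff_eq hp Nat.prime_three).1 h)
      fun h => (Nat.prime_dvd_prime_iff_eq hp Nat.prime_five).1 h
  have hk1 : k = 1 := by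
    by_contra hk'
    have h1 : p ^ 2 ∣ 15 := (pow_dvd_pow p (by omega)).trans hdvd
    rcases hp35 with rfl | rfl <;> norm_num at h1
  rw [hk1, pow_one] at hk
  rcases hp35 with rfl | rfl
  · -- the element of order five would centralise a subgroup of order three
    haveI : IsCyclic W := isCyclic_of_prime_card hk
    obtain ⟨⟨y, hy⟩, hy3⟩ := exists_prime_orderOf_dvd_card' (G := W) 3 (by rw [hk])
    rw [Subgroup.orderOf_mk] at hy3
    refine h3 y hy3 ?_
    have h1 : π x * y * (π x)⁻¹ ∈ zpowers y := by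
      rw [show zpowers y = W from eq_of_le_of_card_ge (zpowers_le.2 hy)
        (by rw [Nat.card_zpowers, hy3, hk])]
      exact hWn.conj_mem y hy _
    rw [← mem_powers_iff_mem_zpowers] at h1
    obtain ⟨j, hj⟩ := h1
    have hiter : ∀ m : ℕ, π x ^ m * y * (π x ^ m)⁻¹ = y ^ j ^ m := by
      intro m
      induction m with
      | zero => simp
      | succ m ih =>
        rw [show π x ^ (m + 1) * y * (π x ^ (m + 1))⁻¹ = π x * (π x ^ m * y * (π x ^ m)⁻¹) * (π x)⁻¹
          by rw [pow_succ']; group, ih, ← conj_pow, ← show y ^ j = π x * y * (π x)⁻¹ from hj,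
          ← pow_mul, ← pow_succ']
    have h5 := hiter 5
    rw [show π x ^ 5 = 1 by rw [← hox, pow_orderOf_eq_one], inv_one, mul_one, one_mul] at h5
    have hj5 : j ^ 5 % 3 = 1 := by
      have h := pow_eq_pow_iff_modEq.1 ((pow_one y).trans h5)
      rw [hy3] at h
      exact h.symm
    have hj1 : j % 3 = 1 := by
      have := Nat.mod_lt j (show 3 > 0 by norm_num)
      rw [Nat.pow_mod] at hj5
      rcases (by omega : j % 3 = 0 ∨ j % 3 = 1 ∨ j % 3 = 2) with h | h | h <;> rw [h] at hj5 ⊢ <;>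
        first | rfl | norm_num at hj5
    have hjy : y ^ j = y := by rw [pow_eq_pow_mod j (show y ^ 3 = 1 by rw [← hy3, pow_orderOf_eq_one]), hj1, pow_one]
    have hxy : π x * y * (π x)⁻¹ = y := hj.symm.trans hjy
    exact (mul_inv_eq_iff_eq_mul.1 hxy).symm
  · -- the normaliser of a Sylow subgroup of order five covers the quotient
    obtain ⟨P⟩ : Nonempty (Sylow 5 H) := inferInstance
    set L := W.comap π with hL
    have hPL : (P : Subgroup H) ≤ L := fun g hg => by
      by_contra hgL
      have hg5 : g ^ 5 = 1 := by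
        have := (card_normalizer hs (P := P)).1
        have h := congrArg Subtype.val (pow_card_eq_one' (x := (⟨g, hg⟩ : (P : Subgroup H))))
        rwa [this, SubgroupClass.coe_pow, OneMemClass.coe_one] at h
      have hWP : (W : Subgroup (H ⧸ R)) = zpowers (π g) ⊔ W := by
        refine eq_of_le_of_card_ge le_sup_right ?_
        have hp' : IsPGroup 5 (zpowers (π g) ⊔ W : Subgroup (H ⧸ R)) := by
          refine IsPGroup.to_sup_of_normal_right ?_ (IsPGroup.of_card (n := 1) (by rw [hk, pow_one]))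
          intro z
          obtain ⟨i, hi⟩ := mem_zpowers_iff.1 z.2
          refine ⟨1, Subtype.ext ?_⟩
          rw [pow_one, SubgroupClass.coe_pow, ← hi, ← zpow_natCast, ← zpow_mul, mul_comm, zpow_mul,
            zpow_natCast, ← map_pow, hg5, map_one, one_zpow, OneMemClass.coe_one]
        obtain ⟨i, hi⟩ := hp'.exists_card_eq
        have h1 : 5 ^ i ∣ 2 ^ (9 - r) * 15 := by rw [← hi, ← hcQ]; exact card_subgroup_dvd_card _
        have hi1 : i ≤ 1 := by
          by_contra hc
          have h2 : 5 ^ 2 ∣ 15 := Nat.Coprime.dvd_of_dvd_mul_left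
            (Nat.Coprime.pow _ _ (by norm_num : Nat.Coprime 5 2))
            ((pow_dvd_pow 5 (by omega : 2 ≤ i)).trans h1)
          norm_num at h2
        rw [hi, hk]
        calc 5 ^ i ≤ 5 ^ 1 := Nat.pow_le_pow_right (by norm_num) hi1
          _ = 5 := pow_one 5
      exact hgL (hWP.ge (mem_sup_left (mem_zpowers _)))
    haveI : L.Normal := hWn.comap π
    have htop := Sylow.normalizer_sup_eq_top (N := L) (P.subtype hPL)
    have hcov : Nat.card (H ⧸ L) ∣ 80 := by
      rw [← (card_normalizer hs (P := P)).2]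
      refine card_dvd_of_surjective ((QuotientGroup.mk' L).comp (Subgroup.subtype _)) fun q => ?_
      obtain ⟨g, rfl⟩ := QuotientGroup.mk'_surjective L q
      have hg : g ∈ normalizer ((P : Subgroup H) : Set H) ⊔ L := by
        have hmap : (P.subtype hPL : Subgroup L).map L.subtype = (P : Subgroup H) := by
          rw [Sylow.coe_subtype, map_subgroupOf_eq_of_le hPL]
        rw [hmap] at htop
        rw [htop]; exact mem_top g
      obtain ⟨n, hn, l, hl, rfl⟩ := mem_sup_of_normal_right.1 hg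
      refine ⟨⟨n, hn⟩, ?_⟩
      show QuotientGroup.mk' L n = _
      rw [map_mul, show QuotientGroup.mk' L l = 1 from (QuotientGroup.eq_one_iff l).2 hl, mul_one]
    have hLi : Nat.card (H ⧸ L) = 2 ^ (9 - r) * 3 := by
      have h1 := W.card_mul_index
      rw [hk, hcQ] at h1
      rw [← index_eq_card, hL, index_comap_of_surjective _ (QuotientGroup.mk'_surjective R)]
      omega
    rw [hLi] at hcov
    have h3d : 3 ∣ 80 := (dvd_mul_left 3 _).trans hcov
    norm_num at h3d

theorem not_solvable {Q : Type*} [Group Q] [Finite Q] {x : Q} (h : QFacts x) {N : Subgroup Q}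
    (hN : N.Normal) (hs : Group.IsSolvable N) : N = ⊥ := by
  by_contra hne
  obtain ⟨M, hMn, hM1, hMN, hmin⟩ := CfsgLib.Solvable.exists_minimal_normal_le hN hne
  haveI : Group.IsSolvable M := Group.isSolvable_of_isSolvable_injective (inclusion_injective hMN)
  obtain ⟨p, hp, hpM, -, -⟩ := CfsgLib.Solvable.exists_isPGroup_of_minimal_normal hM1 hmin
  exact hM1 (le_bot_iff.1 ((h.core p hp) ▸ CfsgLib.Solvable.le_pCore hMn hpM))

/-- A normal subgroup of order sixty containing the elements of order five. -/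
theorem exists_sixty {Q : Type*} [Group Q] [Finite Q] {x : Q} (h : QFacts x) :
    ∃ M : Subgroup Q, M.Normal ∧ IsSimpleGroup M ∧ Nat.card M = 60 ∧
      ∀ q : Q, q ^ 5 = 1 → q ∈ M := by
  haveI : Fact (Nat.Prime 5) := ⟨Nat.prime_five⟩
  set M := closure {q : Q | q ^ 5 = 1} with hM
  have hmem : ∀ q : Q, q ^ 5 = 1 → q ∈ M := fun q hq => subset_closure hq
  have hx : x ∈ M := hmem x (h.ord ▸ pow_orderOf_eq_one x)
  have hMn : M.Normal := by
    refine ⟨fun g hg c => ?_⟩
    have hmap : M.map (MulAut.conj c).toMonoidHom ≤ M := by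
      rw [hM, MonoidHom.map_closure]
      refine closure_mono ?_
      rintro _ ⟨q, hq, rfl⟩
      show (c * q * c⁻¹) ^ 5 = 1
      rw [conj_pow, show q ^ 5 = 1 from hq, mul_one, mul_inv_cancel]
    exact hmap ⟨g, hg, rfl⟩
  haveI := hMn
  haveI : Nontrivial M := ⟨⟨⟨x, hx⟩, 1, fun e => by
    have hx1 : x = 1 := congrArg Subtype.val e
    have := h.ord
    rw [hx1, orderOf_one] at this
    omega⟩⟩
  obtain ⟨a, ha, hcQ⟩ := h.card
  have hnd : ∀ {n : ℕ}, n ∣ 2 ^ a * 15 → ¬ 5 ∣ n → ∃ i j, n = 2 ^ i * 3 ^ j := fun {n} hn h5 => by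
    have h1 : n ∣ 2 ^ a * 3 :=
      ((Nat.prime_five.coprime_iff_not_dvd.2 h5).symm).dvd_of_dvd_mul_right
        (show n ∣ 2 ^ a * 3 * 5 by rwa [mul_assoc])
    obtain ⟨n₁, n₂, h2, h3, rfl⟩ := (Nat.dvd_mul).1 h1
    obtain ⟨i, -, rfl⟩ := (Nat.dvd_prime_pow Nat.prime_two).1 h2
    rcases (Nat.dvd_prime Nat.prime_three).1 h3 with rfl | rfl
    · exact ⟨i, 0, by simp⟩
    · exact ⟨i, 1, by simp⟩
  have hsol : ∀ {W : Subgroup Q}, ¬ 5 ∣ Nat.card W → Group.IsSolvable W := fun {W} h5 => by
    obtain ⟨i, j, hij⟩ := hnd (hcQ ▸ card_subgroup_dvd_card W) h5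
    exact CfsgLib.Char.burnside_pq 2 3 Nat.prime_two Nat.prime_three i j W hij
  have hnsol : ¬ Group.IsSolvable M := fun hs => by
    have := not_solvable h hMn hs
    rw [this] at hx
    have hx1 : x = 1 := mem_bot.1 hx
    have := h.ord
    rw [hx1, orderOf_one] at this
    omega
  have hsimple : IsSimpleGroup M := ⟨fun N hN => by
    by_contra! hcon
    have hN1 := hcon.1
    haveI := hN
    by_cases h5 : 5 ∣ Nat.card N
    · refine hcon.2 (top_le_iff.1 fun m _ => ?_)
      have hle : M ≤ N.map M.subtype := by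
        refine (closure_le _).2 fun q hq => ?_
        set q' : M := ⟨q, hmem q hq⟩
        refine ⟨q', ?_, rfl⟩
        by_contra hqN
        -- a group of order twenty-five
        have hp5 : IsPGroup 5 (zpowers q') := by
          intro z
          obtain ⟨i, hi⟩ := mem_zpowers_iff.1 z.2
          refine ⟨1, Subtype.ext ?_⟩
          have hq5 : q' ^ 5 = 1 := Subtype.ext hq
          rw [pow_one, SubgroupClass.coe_pow, ← hi, ← zpow_natCast, ← zpow_mul, mul_comm, zpow_mul,
            zpow_natCast, hq5, one_zpow, OneMemClass.coe_one]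
        obtain ⟨⟨v, hv⟩, hv5⟩ := exists_prime_orderOf_dvd_card' (G := N) 5 h5
        rw [Subgroup.orderOf_mk] at hv5
        obtain ⟨S₁, hS₁⟩ := hp5.exists_le_sylow
        obtain ⟨S₂, hS₂⟩ := (IsPGroup.of_card (n := 1)
          (show Nat.card (zpowers v) = 5 ^ 1 by rw [Nat.card_zpowers, hv5, pow_one])).exists_le_sylow
        obtain ⟨k, hk⟩ := S₂.2.exists_card_eq
        have hk1 : k ≤ 1 := by
          by_contra hc
          have h1 : 5 ^ k ∣ 2 ^ a * 15 :=
            hk ▸ (card_subgroup_dvd_card _).trans (hcQ ▸ card_subgroup_dvd_card M)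
          have h2 : 5 ^ 2 ∣ 15 := Nat.Coprime.dvd_of_dvd_mul_left
            (Nat.Coprime.pow _ _ (by norm_num : Nat.Coprime 5 2))
            ((pow_dvd_pow 5 (by omega : 2 ≤ k)).trans h1)
          norm_num at h2
        have hS2N : (S₂ : Subgroup M) ≤ N := by
          have he : zpowers v = (S₂ : Subgroup M) := eq_of_le_of_card_ge hS₂ (by
            rw [hk, Nat.card_zpowers, hv5]
            calc 5 ^ k ≤ 5 ^ 1 := Nat.pow_le_pow_right (by norm_num) hk1
              _ = 5 := pow_one 5)
          rw [← he]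
          exact zpowers_le.2 hv
        obtain ⟨c, hc⟩ := MulAction.exists_smul_eq M S₂ S₁
        have hq1 : q' ∈ (S₁ : Subgroup M) := hS₁ (mem_zpowers q')
        rw [← hc, Sylow.coe_subgroup_smul] at hq1
        obtain ⟨w, hw, hwq⟩ := hq1
        refine hqN ?_
        rw [← hwq]
        exact hN.conj_mem w (hS2N hw) c
      obtain ⟨m', hm', hmm⟩ := hle m.2
      rwa [show m = m' from (Subtype.ext hmm).symm]
    · haveI : Group.IsSolvable N := by
        have := hsol (W := N.map M.subtype) (by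
          rwa [card_map_of_injective M.subtype_injective])
        exact Group.isSolvable_of_isSolvable_injective
          (f := (equivMapOfInjective N M.subtype M.subtype_injective).toMonoidHom)
          (equivMapOfInjective N M.subtype M.subtype_injective).injective
      obtain ⟨W, hWn, hW1, hWN, hmin⟩ := CfsgLib.Solvable.exists_minimal_normal_le hN hN1
      haveI : Group.IsSolvable W := Group.isSolvable_of_isSolvable_injective (inclusion_injective hWN)
      obtain ⟨p, hp, hpW, -, -⟩ := CfsgLib.Solvable.exists_isPGroup_of_minimal_normal hW1 hmin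
      refine hW1 (le_bot_iff.1 fun w hw => ?_)
      have h1 := CfsgLib.Solvable.map_pCore_le p M
        (mem_map_of_mem M.subtype (CfsgLib.Solvable.le_pCore hWn hpW hw))
      rw [h.core p hp, mem_bot] at h1
      exact mem_bot.2 (Subtype.ext h1)⟩
  haveI := hsimple
  refine ⟨M, hMn, hsimple, ?_, hmem⟩
  have hna : ¬ IsMulCommutative M := fun hc => hnsol (Group.isSolvable_of_comm hc.is_comm.comm)
  have hMd : Nat.card M ∣ 2 ^ a * 15 := hcQ ▸ card_subgroup_dvd_card M
  have h5M : 5 ∣ Nat.card M := h.ord ▸ Subgroup.orderOf_dvd_natCard _ hx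
  have h3M : 3 ∣ Nat.card M := by
    by_contra h3
    have h1 : Nat.card M ∣ 2 ^ a * 5 :=
      ((Nat.prime_three.coprime_iff_not_dvd.2 h3).symm).dvd_of_dvd_mul_right
        (show Nat.card M ∣ 2 ^ a * 5 * 3 by rwa [mul_assoc])
    obtain ⟨n₁, n₂, h2, h5, he⟩ := (Nat.dvd_mul).1 h1
    obtain ⟨i, -, rfl⟩ := (Nat.dvd_prime_pow Nat.prime_two).1 h2
    rcases (Nat.dvd_prime Nat.prime_five).1 h5 with rfl | rfl
    · exact hnsol (CfsgLib.Char.burnside_pq 2 5 Nat.prime_two Nat.prime_five i 0 M (by simpa using he.symm))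
    · exact hnsol (CfsgLib.Char.burnside_pq 2 5 Nat.prime_two Nat.prime_five i 1 M (by simpa using he.symm))
  obtain ⟨b, hb⟩ : ∃ b ≤ 9, Nat.card M = 2 ^ b * 15 := by
    obtain ⟨q, hq⟩ := Nat.Coprime.mul_dvd_of_dvd_of_dvd (by norm_num : Nat.Coprime 3 5) h3M h5M
    rw [hq, show (3 : ℕ) * 5 = 15 from rfl, mul_comm (2 ^ a)] at hMd
    obtain ⟨i, hi, rfl⟩ := (Nat.dvd_prime_pow Nat.prime_two).1
      (Nat.dvd_of_mul_dvd_mul_left (by norm_num) hMd)
    exact ⟨i, hi.trans ha, by rw [hq]; ring⟩
  obtain ⟨hb9, hMc⟩ := hb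
  haveI : Fact (Nat.Prime 2) := ⟨Nat.prime_two⟩
  rcases lt_or_ge b 4 with hb4 | hb4
  · have := card_mem_of_le_1092 hna (by rw [hMc]; interval_cases b <;> norm_num)
    rw [hMc] at this ⊢
    interval_cases b <;> simp at this ⊢
  · refine (false_of_fifteen_sylow_two hna hb4 hMc ?_).elim
    refine List.mem_singleton.1 (sylow_count_mem (p := 2) (a := b) hna hMc (by omega) (dvd_mul_right _ _)
      (by interval_cases b <;> norm_num) [15] ?_)
    interval_cases b <;> decide +kernel

/-- The quotient acts faithfully on five points, with image `S₅`. -/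
theorem exists_perm {Q : Type*} [Group Q] [Finite Q] {x : Q} (h : QFacts x) :
    ∃ ψ : Q →* Perm (Fin 5), Function.Injective ψ ∧ 60 ∣ Nat.card Q ∧
      (Nat.card Q = 60 → IsSimpleGroup Q) := by
  obtain ⟨M, hMn, hMs, hM60, hmem⟩ := exists_sixty h
  haveI := hMn
  haveI := hMs
  haveI : Fact (Nat.Prime 2) := ⟨Nat.prime_two⟩
  haveI : Fact (Nat.Prime 5) := ⟨Nat.prime_five⟩
  have hna : ¬ IsMulCommutative M := CfsgLib.Transfer.not_isMulCommutative_of_not_prime
    (by rw [hM60]; norm_num)
  have hn5 : Nat.card (Sylow 2 M) = 5 := List.mem_singleton.1 (sylow_count_mem (p := 2) (a := 2) hna hM60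
    (by norm_num) (by norm_num) (by norm_num) [5] (by decide +kernel))
  haveI : Fintype (Sylow 2 M) := Fintype.ofFinite _
  let e : Sylow 2 M ≃ Fin 5 :=
    Fintype.equivFinOfCardEq (by rw [← Nat.card_eq_fintype_card, hn5])
  let ψ₀ : Q →* Perm (Sylow 2 M) :=
    (MulAction.toPermHom (MulAut M) (Sylow 2 M)).comp MulAut.conjNormal
  let ψ : Q →* Perm (Fin 5) := (e.permCongrHom.toMonoidHom).comp ψ₀
  have hker : ψ₀.ker = ⊥ := by
    set K := ψ₀.ker
    have hfix : ∀ k ∈ K, ∀ S : Sylow 2 M, (MulAut.conjNormal k : MulAut M) • S = S := fun k hk S => by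
      have := MonoidHom.mem_ker.1 hk
      exact DFunLike.congr_fun this S
    have hKM : Disjoint K M := by
      rw [disjoint_iff]
      haveI : (K.subgroupOf M).Normal := normal_subgroupOf
      rcases hMs.eq_bot_or_eq_top_of_normal (K.subgroupOf M) inferInstance with e' | e'
      · rw [subgroupOf_eq_bot] at e'
        exact disjoint_iff.1 e'
      · exfalso
        have hle : M ≤ K := subgroupOf_eq_top.1 e'
        obtain ⟨S⟩ : Nonempty (Sylow 2 M) := inferInstance
        have hnorm : normalizer ((S : Subgroup M) : Set M) = ⊤ := by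
          refine eq_top_iff.2 fun m _ => ?_
          rw [show m ∈ normalizer ((S : Subgroup M) : Set M) ↔ m • S = S from Sylow.smul_eq_iff_mem_normalizer.symm]
          have h1 := hfix (m : Q) (hle m.2) S
          refine Sylow.ext ?_
          have h2 := congrArg (fun T : Sylow 2 M => (T : Subgroup M)) h1
          rw [Sylow.coe_subgroup_smul]
          rw [Sylow.pointwise_smul_def] at h2
          rw [← h2]
          congr 1
          ext1 w
          exact Subtype.ext rfl
        have h1 : Nat.card (Sylow 2 M) = (normalizer ((S : Subgroup M) : Set M)).index :=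
          Sylow.card_eq_index_normalizer S
        rw [show (normalizer ((S : Subgroup M) : Set M)).index = 1 by rw [hnorm, index_top], hn5] at h1
        omega
    have hKx : ∀ k ∈ K, Commute k x := fun k hk =>
      commute_of_normal_of_disjoint K M inferInstance hMn hKM k x hk
        (hmem x (h.ord ▸ pow_orderOf_eq_one x))
    refine not_solvable h inferInstance ?_
    obtain ⟨a, -, hcQ⟩ := h.card
    have h5 : ¬ 5 ∣ Nat.card K := fun h5 => by
      obtain ⟨⟨k, hk⟩, hk5⟩ := exists_prime_orderOf_dvd_card' (G := K) 5 h5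
      rw [Subgroup.orderOf_mk] at hk5
      have := hKM.le_bot ⟨hk, hmem k (hk5 ▸ pow_orderOf_eq_one k)⟩
      rw [mem_bot.1 this, orderOf_one] at hk5
      omega
    have h3 : ¬ 3 ∣ Nat.card K := fun h3 => by
      haveI : Fact (Nat.Prime 3) := ⟨Nat.prime_three⟩
      obtain ⟨⟨k, hk⟩, hk3⟩ := exists_prime_orderOf_dvd_card' (G := K) 3 h3
      rw [Subgroup.orderOf_mk] at hk3
      exact h.cent_three k hk3 (hKx k hk)
    have h2 : Nat.card K ∣ 2 ^ a := Nat.Coprime.dvd_of_dvd_mul_right
      (show Nat.Coprime (Nat.card K) (3 * 5) from Nat.Coprime.mul_right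
        (Nat.prime_three.coprime_iff_not_dvd.2 h3).symm (Nat.prime_five.coprime_iff_not_dvd.2 h5).symm)
      (hcQ ▸ card_subgroup_dvd_card K)
    obtain ⟨i, -, hi⟩ := (Nat.dvd_prime_pow Nat.prime_two).1 h2
    exact CfsgLib.Char.burnside_pq 2 3 Nat.prime_two Nat.prime_three i 0 K (by simpa using hi)
  refine ⟨ψ, fun p q hpq => (MonoidHom.ker_eq_bot_iff ψ₀).1 hker (e.permCongrHom.injective hpq),
    hM60 ▸ card_subgroup_dvd_card M, fun h60 => ?_⟩
  have htop : M = ⊤ := Subgroup.eq_top_of_card_eq M (hM60.trans h60.symm)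
  subst htop
  haveI : Nontrivial Q := Finite.one_lt_card_iff_nontrivial.1 (by omega)
  exact IsSimpleGroup.isSimpleGroup_of_surjective (Subgroup.topEquiv (G := Q)).toMonoidHom
    (MulEquiv.surjective _)

theorem nonempty_udata (hs : Shape H) : Nonempty (UData H) := by
  haveI : Fact (Nat.Prime 5) := ⟨Nat.prime_five⟩
  haveI : Fact (Nat.Prime 2) := ⟨Nat.prime_two⟩
  set R := Cfsg.pCore 2 H with hR
  haveI : R.Normal := CfsgLib.Solvable.pCore_normal 2 H
  obtain ⟨x, hx⟩ := exists_prime_orderOf_dvd_card' (G := H) 5 (by rw [hs.1]; norm_num)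
  have hq := qfacts hs hx
  obtain ⟨ψ, hψ, h60, hsimp⟩ := exists_perm hq
  set φ : H →* Perm (Fin 5) := ψ.comp (QuotientGroup.mk' R) with hφ
  have hker : φ.ker = R := by
    ext g
    rw [MonoidHom.mem_ker, hφ, MonoidHom.comp_apply, map_eq_one_iff ψ hψ, QuotientGroup.mk'_apply,
      QuotientGroup.eq_one_iff]
  have hrange : Nat.card φ.range = Nat.card (H ⧸ R) := by
    rw [hφ, MonoidHom.range_comp, MonoidHom.range_eq_top.2 (QuotientGroup.mk'_surjective R),
      ← MonoidHom.range_eq_map]
    exact (Nat.card_congr (MonoidHom.ofInjective hψ).toEquiv).symm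
  have h120 : Nat.card φ.range ∣ 120 := by
    have := card_subgroup_dvd_card φ.range
    rwa [Nat.card_eq_fintype_card (α := Perm (Fin 5)), Fintype.card_perm, Fintype.card_fin] at this
  have hf : ∀ g : H, orderOf g = 5 → φ g ^ 5 = 1 ∧ φ g ≠ 1 := fun g hg => by
    have hg5 : g ^ 5 = 1 := orderOf_dvd_iff_pow_eq_one.1 (dvd_of_eq hg)
    refine ⟨by rw [← map_pow, hg5, map_one], fun h1 => ?_⟩
    have h2 : g ∈ R := hker ▸ MonoidHom.mem_ker.2 h1
    obtain ⟨r, hr⟩ := (CfsgLib.Solvable.pCore_isPGroup (G := H) 2).exists_card_eq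
    have h3 := Subgroup.orderOf_dvd_natCard _ h2
    rw [hg, hr] at h3
    have := Nat.prime_five.dvd_of_dvd_pow h3
    omega
  have hfix : ∀ g : H, orderOf g = 5 →
      Nat.card (φ.ker ⊓ centralizer ({g} : Set H) : Subgroup H) = 4 := by
    intro g hg
    obtain ⟨h5, h1⟩ := hf g hg
    have hle : (centralizer ({g} : Set H)).map φ ≤ centralizer ({φ g} : Set (Perm (Fin 5))) := by
      rintro _ ⟨c, hc, rfl⟩
      rw [mem_centralizer_singleton_iff, ← map_mul, mem_centralizer_singleton_iff.1 hc, map_mul]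
    have hmap : Nat.card ((centralizer ({g} : Set H)).map φ) = 5 := by
      refine le_antisymm ((Subgroup.card_le_of_le hle).trans_eq (card_cent_perm_five h5 h1)) ?_
      refine (((Nat.card_zpowers (φ g)).trans (orderOf_eq_prime h5 h1)).symm.trans_le ?_)
      exact Subgroup.card_le_of_le (zpowers_le.2 ⟨g, mem_centralizer_singleton_iff.2 rfl, rfl⟩)
    have h3 := card_map_mul φ (centralizer ({g} : Set H))
    rw [hmap, hs.2 g hg] at h3
    omega
  -- the image has order at least twenty in a simple group, unless it is everything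
  have hsurj : Nat.card φ.range = 120 := by
    obtain ⟨c, hc⟩ := hrange ▸ h60
    have hc2 : c = 1 ∨ c = 2 := by
      have h1 := Nat.le_of_dvd (by norm_num) h120
      rcases c with _ | _ | _ | c <;> [skip; exact Or.inl rfl; exact Or.inr rfl; omega]
      rw [hc, mul_zero] at hrange
      exact absurd hrange.symm Nat.card_pos.ne'
    rcases hc2 with rfl | rfl
    swap
    · exact hc
    exfalso
    have hQ : Nat.card (H ⧸ R) = 60 := hrange.symm.trans hc
    haveI := hsimp hQ
    obtain ⟨P, hP⟩ := (IsPGroup.of_card (n := 1)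
      (show Nat.card (zpowers x) = 5 ^ 1 by rw [Nat.card_zpowers, hx, pow_one])).exists_le_sylow
    obtain ⟨hPc, hNc⟩ := card_normalizer hs (P := P)
    have hzP : zpowers x = (P : Subgroup H) :=
      eq_of_le_of_card_ge hP (by rw [hPc, Nat.card_zpowers, hx])
    set N := normalizer ((P : Subgroup H) : Set H) with hN
    have hkN : φ.ker ⊓ N ≤ φ.ker ⊓ centralizer ({x} : Set H) := fun g hg => by
      refine ⟨hg.1, mem_centralizer_singleton_iff.2 ?_⟩
      have hc1 : g * x * g⁻¹ * x⁻¹ ∈ φ.ker := by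
        rw [MonoidHom.mem_ker, map_mul, map_mul, map_mul, MonoidHom.mem_ker.1 hg.1, one_mul,
          map_inv, MonoidHom.mem_ker.1 hg.1, inv_one, mul_one, map_inv, mul_inv_cancel]
      have hc2 : g * x * g⁻¹ * x⁻¹ ∈ (P : Subgroup H) :=
        mul_mem ((mem_normalizer_iff.1 hg.2 x).1 (hP (mem_zpowers x))) (inv_mem (hP (mem_zpowers x)))
      rw [← hzP] at hc2
      by_contra hne
      have h1 : g * x * g⁻¹ * x⁻¹ ≠ 1 := fun e => hne (mul_inv_eq_iff_eq_mul.1 (mul_inv_eq_one.1 e))
      have h5 : orderOf (g * x * g⁻¹ * x⁻¹) = 5 := by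
        have h2 := orderOf_dvd_of_mem_zpowers hc2
        rw [hx] at h2
        exact ((Nat.dvd_prime Nat.prime_five).1 h2).resolve_left fun e => h1 (orderOf_eq_one_iff.1 e)
      exact (hf _ h5).2 (MonoidHom.mem_ker.1 hc1)
    have h4 := Subgroup.card_le_of_le hkN
    rw [hfix x hx] at h4
    have h5 := card_map_mul φ N
    rw [hNc] at h5
    have h20 : 20 ≤ Nat.card (N.map φ) := by
      by_contra hlt
      push Not at hlt
      have := Nat.mul_le_mul (Nat.le_of_lt_succ hlt : Nat.card (N.map φ) ≤ 19) h4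
      omega
    set T := N.map (QuotientGroup.mk' R) with hT
    have hTc : Nat.card (N.map φ) = Nat.card T := by
      rw [hT, hφ, ← Subgroup.map_map, card_map_of_injective hψ]
    have hTn : T ≠ ⊤ := fun e => by
      have h6 : Nat.card (N.map φ) = 60 := by rw [hTc, e, Subgroup.card_top, hQ]
      rw [h6] at h5
      omega
    have hfac := CfsgLib.Transfer.two_mul_card_dvd_factorial
      (CfsgLib.Transfer.not_isMulCommutative_of_not_prime (by rw [hQ]; norm_num)) hTn
    have hTi := T.card_mul_index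
    rw [hQ] at hTi hfac
    rw [hTc] at h20
    have hTi3 : T.index ≤ 3 := by
      by_contra hgt
      push Not at hgt
      have := Nat.mul_le_mul h20 (hgt : 4 ≤ T.index)
      omega
    revert hfac
    generalize T.index = i at hTi3
    interval_cases i <;> decide
  refine ⟨⟨φ, ?_, ?_, hfix⟩⟩
  · refine MonoidHom.range_eq_top.1 (Subgroup.eq_top_of_card_eq _ ?_)
    rw [hsurj, Nat.card_eq_fintype_card, Fintype.card_perm, Fintype.card_fin]
    rfl
  · have h1 := card_eq_card_quotient_mul_card_subgroup R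
    rw [hs.1, ← hrange, hsurj] at h1
    rw [hker]
    omega

end CentFive

end CfsgLib.ClassK.M24Nse
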