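import Cfsg.Agent.Lib.ClassK.M24Nse.Simple
import Cfsg.Agent.Lib.ClassK.M24Nse.CentLarge
import Cfsg.Agent.Lib.StructB.Misc

/-!
The two classes of involutions.
-/

set_option autoImplicit false
set_option linter.unusedSectionVars false

namespace CfsgLib.ClassK.M24Nse

open Subgroup CfsgLib.StructB.OrderCount
open CfsgLib.ClassK.M12Nse (cl fixIn)

universe u

theorem size_both_check : ∀ m < 172, 967680 % m = 0 → (253 * m) % 7 = 3 → (253 * m) % 5 = 3 → False := by
  decide +kernel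

theorem size_u_check : ∀ m < 172, 967680 % m = 0 → (253 * m) % 5 = 3 → (253 * m) % 7 = 0 →
    244823040 ≤ (253 * m) * (253 * m) → m = 126 := by
  decide +kernel

theorem size_t_check : ∀ m < 46, 967680 % m = 0 → (253 * m) % 7 = 3 → (253 * m) % 5 = 0 →
    m = 10 ∨ m = 45 := by
  decide +kernel

variable {G : Type u} [Group G] [Finite G]

theorem base (h : Hyp G) : Base G where
  card := h.card
  simple := simple h
  cnt_eq := h.cnt_eq
  cent_five _ hx := cent_five h hx
  norm_five _ hx := norm_five h hx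
  cent_seven _ hx := cent_seven h hx
  norm_seven _ hx := norm_seven h hx
  cent_eleven _ hx := cent_eleven h hx
  cent_twentythree _ hx := cent_twentythree h hx

/-- The size of a class of involutions is a multiple of 253. -/
theorem size_facts (h : Hyp G) {z : G} (hz : orderOf z = 2) :
    ∃ m, (cl z).ncard = 253 * m ∧ m * Nat.card (centralizer ({z} : Set G)) = 967680 ∧ 0 < m := by
  have hno : ∀ (p : ℕ) [Fact p.Prime], Nat.Coprime 2 p → 2 * p ∉ table.map Prod.fst →
      ¬ p ∣ Nat.card (centralizer ({z} : Set G)) := by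
    intro p _ hco hn hd
    obtain ⟨⟨y, hy⟩, hyo⟩ := exists_prime_orderOf_dvd_card' (G := centralizer ({z} : Set G)) p hd
    rw [Subgroup.orderOf_mk] at hyo
    exact no_commute h hz hyo hco hn (mem_centralizer_singleton_iff.1 hy).symm
  have e := M12Nse.ncard_cl_mul z
  rw [h.card] at e
  have f11 : Fact (Nat.Prime 11) := ⟨by norm_num⟩
  have f23 : Fact (Nat.Prime 23) := ⟨by norm_num⟩
  have d11 : 11 ∣ (cl z).ncard :=
    ((Nat.Prime.dvd_mul f11.out).1 (e ▸ by norm_num)).resolve_right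
      (hno 11 (by norm_num) (by decide))
  have d23 : 23 ∣ (cl z).ncard :=
    ((Nat.Prime.dvd_mul f23.out).1 (e ▸ by norm_num)).resolve_right
      (hno 23 (by norm_num) (by decide))
  obtain ⟨m, hm⟩ := Nat.Coprime.mul_dvd_of_dvd_of_dvd (show Nat.Coprime 11 23 by norm_num) d11 d23
  refine ⟨m, hm, ?_, Nat.pos_of_ne_zero fun h0 => ?_⟩
  · rw [hm] at e
    exact Nat.eq_of_mul_eq_mul_left (show 0 < 253 by norm_num) (by rw [← mul_assoc, e])
  · have := M12Nse.ncard_cl_pos z
    rw [hm, h0] at this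
    exact lt_irrefl 0 this

theorem ncard_fix_modEq (z : G) {x : G} {p : ℕ} [Fact p.Prime] (hx : orderOf x = p) :
    (fixIn (cl z) x).ncard % p = (cl z).ncard % p := by
  have hσ : M12Nse.clPerm z x ^ (p ^ 1) = 1 := by
    rw [pow_one, ← map_pow, ← hx, pow_orderOf_eq_one, map_one]
  have h1 := CfsgLib.StructB.card_fixed_modEq (q := p) (M12Nse.clPerm z x) hσ
  have e : Nat.card {a // M12Nse.clPerm z x a = a} = (fixIn (cl z) x).ncard := by
    rw [← Nat.card_coe_set_eq]
    refine Nat.card_congr ⟨fun t => ⟨t.1.1, t.1.2, ?_⟩, fun t => ⟨⟨t.1, t.2.1⟩, ?_⟩,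
      fun _ => rfl, fun _ => rfl⟩
    · have := congrArg Subtype.val t.2
      rw [M12Nse.clPerm_apply] at this
      exact mul_inv_eq_iff_eq_mul.1 this
    · exact Subtype.ext (mul_inv_eq_iff_eq_mul.2 t.2.2)
  rw [e, Nat.card_coe_set_eq] at h1
  exact h1

theorem ncard_commuting (x : G) {n k : ℕ} (hk : M23Nse.ncom x n = k) :
    {a : G | orderOf a = n ∧ Commute x a}.ncard = k := by
  rw [← hk, ← Nat.card_coe_set_eq]
  rfl

/-- The involutions commuting with an element of order 5 or 7 are conjugate. -/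
theorem invol_conj (h : Hyp G) {x : G} {p : ℕ} (hx : orderOf x = p) (hco : Nat.Coprime p 6)
    (hn : p * 6 ∉ table.map Prod.fst) (hC : 3 ∣ Nat.card (centralizer ({x} : Set G)))
    (h2 : M23Nse.ncom x 2 = 3) {s s' : G} (hs : orderOf s = 2) (hxs : Commute x s)
    (hs' : orderOf s' = 2) (hxs' : Commute x s') : IsConj s s' := by
  classical
  have : Fact (Nat.Prime 3) := ⟨Nat.prime_three⟩
  obtain ⟨⟨y, hy⟩, hyo⟩ := exists_prime_orderOf_dvd_card' (G := centralizer ({x} : Set G)) 3 hC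
  rw [Subgroup.orderOf_mk] at hyo
  have hxy : Commute x y := (mem_centralizer_singleton_iff.1 hy).symm
  have hno : ∀ w a : G, orderOf w = 3 → Commute x w → orderOf a = 2 → Commute x a → ¬ Commute w a :=
    fun w a hw hxw ha hxa hwa => no_commute h hx (orderOf_mul_coprime hwa hw ha (by norm_num))
      hco hn (hxw.mul_right hxa)
  let f : G → G := fun a => y * a * y⁻¹
  have hf : ∀ a, orderOf a = 2 → Commute x a → orderOf (f a) = 2 ∧ Commute x (f a) := fun a ha hxa =>
    ⟨(CfsgLib.Invol.orderOf_conj_eq y a).trans ha, (hxy.mul_right hxa).mul_right hxy.inv_right⟩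
  have hne : ∀ a, orderOf a = 2 → Commute x a → f a ≠ a := fun a ha hxa e =>
    hno y a hyo hxy ha hxa (mul_inv_eq_iff_eq_mul.1 e)
  have hy2 : orderOf (y ^ 2) = 3 := by
    rw [orderOf_pow' _ two_ne_zero, hyo]
    norm_num
  have hne2 : f (f s) ≠ s := fun e => hno (y ^ 2) s hy2 (hxy.pow_right 2) hs hxs (by
    refine mul_inv_eq_iff_eq_mul.1 ?_
    rw [pow_two]
    exact (show y * y * s * (y * y)⁻¹ = f (f s) by simp only [f, mul_inv_rev, mul_assoc]).trans e)
  obtain ⟨h1o, h1c⟩ := hf s hs hxs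
  obtain ⟨h2o, h2c⟩ := hf _ h1o h1c
  have hsub : (↑({s, f s, f (f s)} : Finset G) : Set G) ⊆ {a : G | orderOf a = 2 ∧ Commute x a} := by
    intro a ha
    simp only [Finset.coe_insert, Finset.coe_singleton, Set.mem_insert_iff, Set.mem_singleton_iff] at ha
    rcases ha with rfl | rfl | rfl
    exacts [⟨hs, hxs⟩, ⟨h1o, h1c⟩, ⟨h2o, h2c⟩]
  have h3 : ({s, f s, f (f s)} : Finset G).card = 3 :=
    Finset.card_eq_three.2 ⟨_, _, _, (hne s hs hxs).symm, hne2.symm, (hne _ h1o h1c).symm, rfl⟩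
  have heq := Set.eq_of_subset_of_ncard_le hsub
    (by rw [ncard_commuting x h2, Set.ncard_coe_finset, h3]) (Set.toFinite _)
  have hmem : s' ∈ (↑({s, f s, f (f s)} : Finset G) : Set G) := heq ▸ ⟨hs', hxs'⟩
  simp only [Finset.coe_insert, Finset.coe_singleton, Set.mem_insert_iff, Set.mem_singleton_iff] at hmem
  rcases hmem with rfl | rfl | rfl
  exacts [IsConj.refl _, isConj_iff.2 ⟨y, rfl⟩,
    (isConj_iff.2 ⟨y, rfl⟩ : IsConj s (f s)).trans (isConj_iff.2 ⟨y, rfl⟩)]

/-- The fixed points of `x` on a class are none or the three involutions commuting with it. -/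
theorem fix_cases (h : Hyp G) {x : G} {p : ℕ} (hx : orderOf x = p) (hco : Nat.Coprime p 6)
    (hn : p * 6 ∉ table.map Prod.fst) (hC : 3 ∣ Nat.card (centralizer ({x} : Set G)))
    (h2 : M23Nse.ncom x 2 = 3) {s : G} (hs : orderOf s = 2) (hxs : Commute x s) {z : G}
    (hz : orderOf z = 2) :
    (IsConj z s → (fixIn (cl z) x).ncard = 3) ∧ (¬ IsConj z s → (fixIn (cl z) x).ncard = 0) := by
  constructor
  · intro hzs
    rw [← ncard_commuting x h2]
    congr 1
    ext a
    exact ⟨fun ha => ⟨(M12Nse.orderOf_mem_cl ha.1).trans hz, ha.2⟩,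
      fun ha => ⟨hzs.trans (invol_conj h hx hco hn hC h2 hs hxs ha.1 ha.2), ha.2⟩⟩
  · intro hzs
    rw [Set.ncard_eq_zero (Set.toFinite _), Set.eq_empty_iff_forall_notMem]
    exact fun a ha => hzs (IsConj.trans (show IsConj z a from ha.1)
      (invol_conj h hx hco hn hC h2 hs hxs ((M12Nse.orderOf_mem_cl ha.1).trans hz) ha.2).symm)

theorem exists_inverting (h : Hyp G) {x5 s5 : G} (hx5 : orderOf x5 = 5) (hs5 : orderOf s5 = 2)
    (hc5 : Commute x5 s5) {x : G} (hx : orderOf x = 11) :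
    ∃ s, s * x * s⁻¹ = x⁻¹ ∧ IsConj s5 s := by
  classical
  have f11 : Fact (Nat.Prime 11) := ⟨by norm_num⟩
  have f5 : Fact (Nat.Prime 5) := ⟨by norm_num⟩
  set N := normalizer (zpowers x : Set G) with hN
  set φ := (zpowers x).normalizerMonoidHom with hφ
  have hker : Nat.card φ.ker = 11 := by
    rw [hφ, normalizerMonoidHom_ker]
    have hle : centralizer (zpowers x : Set G) ≤ N := fun c hc =>
      M12Nse.centralizer_le_normalizer_zpowers x
        (mem_centralizer_singleton_iff.2 (mem_centralizer_iff.1 hc x (mem_zpowers x)).symm)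
    have heq : centralizer (zpowers x : Set G) = centralizer ({x} : Set G) := by
      ext c
      rw [mem_centralizer_singleton_iff, mem_centralizer_iff]
      refine ⟨fun hc => (hc x (mem_zpowers x)).symm, fun hc y hy => ?_⟩
      obtain ⟨k, rfl⟩ := mem_zpowers_iff.1 hy
      exact ((show Commute x c from hc.symm).zpow_left k).eq
    rw [Nat.card_congr (subgroupOfEquivOfLe hle).toEquiv, heq, cent_eleven h hx]
  have hrange : φ.range = ⊤ := by
    refine eq_top_of_card_eq _ ?_
    have h1 := φ.ker.index_mul_card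
    rw [Subgroup.index_ker, hker, norm_eleven h hx] at h1
    rw [IsCyclic.card_mulAut, Nat.card_zpowers, hx, Nat.totient_prime f11.out]
    omega
  have : IsCyclic (ZMod (Nat.card (zpowers x)))ˣ := by
    rw [Nat.card_zpowers, hx]
    exact ZMod.isCyclic_units_prime f11.out
  have : IsCyclic (MulAut (zpowers x)) :=
    isCyclic_of_surjective _ (IsCyclic.mulAutMulEquiv (zpowers x)).symm.surjective
  obtain ⟨γ, hγ⟩ := IsCyclic.exists_ofOrder_eq_natCard (α := MulAut (zpowers x))
  rw [IsCyclic.card_mulAut, Nat.card_zpowers, hx, Nat.totient_prime f11.out] at hγ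
  obtain ⟨⟨g, hgN⟩, hg⟩ := MonoidHom.range_eq_top.1 hrange γ
  have h10 : 10 ∣ orderOf g := by
    have := orderOf_map_dvd φ ⟨g, hgN⟩
    rwa [hg, hγ, Subgroup.orderOf_mk] at this
  have hg10 : orderOf g = 10 := by
    have hall : ∀ n ∈ table.map Prod.fst, 10 ∣ n → n = 10 := by decide +kernel
    exact hall _ (h.orderOf_mem g) h10
  set s := g ^ 5 with hs
  have hso : orderOf s = 2 := by
    rw [hs, orderOf_pow' _ (by norm_num), hg10]
    norm_num
  have hy5 : orderOf (g ^ 2) = 5 := by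
    rw [orderOf_pow' _ two_ne_zero, hg10]
    norm_num
  refine ⟨s, ?_, ?_⟩
  · set y := s * x * s⁻¹ with hy
    have hym : y ∈ zpowers x :=
      (mem_normalizer_iff.1 (pow_mem hgN 5 : s ∈ N) x).1 (mem_zpowers x)
    have hss : s * s = 1 := CfsgLib.Invol.invol_mul_self hso
    have hsinv : s⁻¹ = s := inv_eq_of_mul_eq_one_right hss
    have hw : x * y ∈ zpowers x := mul_mem (mem_zpowers x) hym
    by_contra hne
    have hw1 : x * y ≠ 1 := fun e => hne (eq_inv_of_mul_eq_one_right e)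
    have hwo : orderOf (x * y) = 11 := by
      have hd := Subgroup.orderOf_dvd_natCard _ hw
      rw [Nat.card_zpowers, hx] at hd
      exact ((Nat.dvd_prime f11.out).1 hd).resolve_left fun e => hw1 (orderOf_eq_one_iff.1 e)
    refine no_commute h hwo hso (by norm_num) (by decide) ?_
    obtain ⟨k, hk⟩ := mem_zpowers_iff.1 hym
    have hcomm : x * y = y * x := by rw [← hk]; exact ((Commute.refl x).zpow_right k).eq
    show x * y * s = s * (x * y)
    calc x * y * s = y * x * s := by rw [hcomm]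
      _ = s * x * (s⁻¹ * x * s) := by rw [hy]; group
      _ = s * (x * y) := by rw [hy, hsinv]; group
  · have d5 : 5 ∣ Nat.card G := h.card ▸ by norm_num
    have d25 : ¬ 5 ^ 2 ∣ Nat.card G := h.card ▸ by norm_num
    obtain ⟨P, hP⟩ := M23Nse.exists_sylow_eq d5 d25 hy5
    obtain ⟨Q, hQ⟩ := M23Nse.exists_sylow_eq d5 d25 hx5
    obtain ⟨c, rfl⟩ := MulAction.exists_smul_eq G P Q
    have hmem : x5 ∈ ((c • P : Sylow 5 G) : Subgroup G) := hQ ▸ mem_zpowers x5
    obtain ⟨q, hq, hqe⟩ := hmem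
    rw [hP] at hq
    obtain ⟨k, rfl⟩ := mem_zpowers_iff.1 hq
    have hc : Commute x5 (c * s * c⁻¹) := by
      have h1 : Commute ((g ^ 2) ^ k) s := (Commute.pow_pow_self g 2 5).zpow_left k
      have h2 := h1.map (MulAut.conj c).toMonoidHom
      have h3 : (MulAut.conj c).toMonoidHom ((g ^ 2) ^ k) = x5 := hqe
      rw [h3] at h2
      simpa using h2
    have h35 : 3 ∣ Nat.card (centralizer ({x5} : Set G)) := by rw [cent_five h hx5]; norm_num
    exact (invol_conj h hx5 (by norm_num) (by decide) h35 (five_facts h hx5).2.2.1 hs5 hc5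
      ((CfsgLib.Invol.orderOf_conj_eq c s).trans hso) hc).trans (isConj_iff.2 ⟨c, rfl⟩).symm

/-- Pairs with product of order eleven. -/
theorem sq_ge (h : Hyp G) {x5 s5 : G} (hx5 : orderOf x5 = 5) (hs5 : orderOf s5 = 2)
    (hc5 : Commute x5 s5) : 244823040 ≤ (cl s5).ncard * (cl s5).ncard := by
  classical
  choose S hS hSu using fun x : {g : G // orderOf g = 11} => exists_inverting h hx5 hs5 hc5 x.2
  have hrev : ∀ (x : {g : G // orderOf g = 11}) (i : ℕ), S x * (x : G) ^ i * (S x)⁻¹ = ((x : G) ^ i)⁻¹ :=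
    fun x i => by rw [← conj_pow, hS, inv_pow]
  have hin : ∀ (x : {g : G // orderOf g = 11}) (j : ℕ), S x * (x : G) ^ j ∈ cl s5 := fun x j => by
    refine (hSu x).trans (isConj_iff.2 ⟨((x : G) ^ (6 * j))⁻¹, ?_⟩)
    have e : ((x : G) ^ (6 * j))⁻¹ * S x = S x * (x : G) ^ (6 * j) := by
      rw [← hrev x (6 * j)]; group
    rw [e, inv_inv, mul_assoc, ← pow_add]
    congr 1
    rw [pow_eq_pow_iff_modEq, x.2]
    show (6 * j + 6 * j) % 11 = j % 11
    omega
  have hle : Nat.card ({g : G // orderOf g = 11} × Fin 11) ≤ Nat.card (cl s5 × cl s5) := by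
    refine Nat.card_le_card_of_injective
      (fun a => (⟨_, hin a.1 a.2.1⟩, ⟨_, hin a.1 (a.2.1 + 1)⟩)) ?_
    rintro ⟨⟨x, hx⟩, i⟩ ⟨⟨x', hx'⟩, j⟩ e
    simp only [Prod.mk.injEq, Subtype.mk.injEq] at e
    obtain ⟨e1, e2⟩ := e
    rw [pow_succ, ← mul_assoc, e1, pow_succ, ← mul_assoc, mul_right_inj] at e2
    subst e2
    rw [mul_right_inj, pow_eq_pow_iff_modEq, hx] at e1
    have hij : i = j := Fin.ext (by
      have h1 : i.1 % 11 = j.1 % 11 := e1
      rwa [Nat.mod_eq_of_lt i.2, Nat.mod_eq_of_lt j.2] at h1)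
    rw [hij]
  rw [Nat.card_prod, Nat.card_prod, Nat.card_coe_set_eq, Nat.card_fin,
    show Nat.card {g : G // orderOf g = 11} = 22256640 from h.cnt_eleven] at hle
  exact le_trans (le_of_eq (by norm_num)) hle

/-- There are two classes of involutions. -/
theorem nonempty_loc (h : Hyp G) : Nonempty (Loc G) := by
  classical
  have f5 : Fact (Nat.Prime 5) := ⟨by norm_num⟩
  have f7 : Fact (Nat.Prime 7) := ⟨by norm_num⟩
  obtain ⟨x5, hx5⟩ := exists_prime_orderOf_dvd_card' (G := G) 5 (by rw [h.card]; norm_num)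
  obtain ⟨x7, hx7⟩ := exists_prime_orderOf_dvd_card' (G := G) 7 (by rw [h.card]; norm_num)
  have n5 := (five_facts h hx5).2.2.1
  have n7 := (seven_facts h hx7).2.2.1
  obtain ⟨⟨u, hu, hxu⟩⟩ := (Nat.card_ne_zero.1
    (show M23Nse.ncom x5 2 ≠ 0 by rw [n5]; norm_num)).1
  obtain ⟨⟨t, ht, hxt⟩⟩ := (Nat.card_ne_zero.1
    (show M23Nse.ncom x7 2 ≠ 0 by rw [n7]; norm_num)).1
  have c5 : 3 ∣ Nat.card (centralizer ({x5} : Set G)) := by rw [cent_five h hx5]; norm_num
  have c7 : 3 ∣ Nat.card (centralizer ({x7} : Set G)) := by rw [cent_seven h hx7]; norm_num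
  have F5 : ∀ z, orderOf z = 2 → (IsConj z u → (cl z).ncard % 5 = 3) ∧
      (¬ IsConj z u → (cl z).ncard % 5 = 0) := fun z hz => by
    obtain ⟨a, b⟩ := fix_cases h hx5 (by norm_num) (by decide) c5 n5 hu hxu hz
    exact ⟨fun e => by rw [← ncard_fix_modEq z hx5, a e], fun e => by rw [← ncard_fix_modEq z hx5, b e]⟩
  have F7 : ∀ z, orderOf z = 2 → (IsConj z t → (cl z).ncard % 7 = 3) ∧
      (¬ IsConj z t → (cl z).ncard % 7 = 0) := fun z hz => by
    obtain ⟨a, b⟩ := fix_cases h hx7 (by norm_num) (by decide) c7 n7 ht hxt hz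
    exact ⟨fun e => by rw [← ncard_fix_modEq z hx7, a e], fun e => by rw [← ncard_fix_modEq z hx7, b e]⟩
  obtain ⟨mu, emu, hmu, hmu0⟩ := size_facts h hu
  obtain ⟨mt, emt, hmt, hmt0⟩ := size_facts h ht
  have hI : {a : G | orderOf a = 2}.ncard = 43263 := by
    rw [← h.cnt_two, ← Nat.card_coe_set_eq]; rfl
  have hsub : ∀ z, orderOf z = 2 → cl z ⊆ {a : G | orderOf a = 2} := fun z hz a ha =>
    (M12Nse.orderOf_mem_cl ha).trans hz
  have hmu172 : mu < 172 := by
    have := Set.ncard_le_ncard (hsub u hu) (Set.toFinite _)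
    omega
  have hdu : 967680 % mu = 0 := by rw [← hmu, Nat.mul_mod_right]
  have hdt : 967680 % mt = 0 := by rw [← hmt, Nat.mul_mod_right]
  have hu5 : (253 * mu) % 5 = 3 := emu ▸ (F5 u hu).1 (IsConj.refl u)
  have ht7 : (253 * mt) % 7 = 3 := emt ▸ (F7 t ht).1 (IsConj.refl t)
  have htu : ¬ IsConj t u := fun hc =>
    size_both_check mu hmu172 hdu (emu ▸ (F7 u hu).1 hc.symm) hu5
  have hmu126 : mu = 126 := size_u_check mu hmu172 hdu hu5
    (emu ▸ (F7 u hu).2 fun e => htu e.symm) (emu ▸ sq_ge h hx5 hu hxu)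
  subst hmu126
  have hdis := M12Nse.cl_disjoint htu
  have hmt46 : mt < 46 := by
    have := Set.ncard_le_ncard (Set.union_subset (hsub t ht) (hsub u hu)) (Set.toFinite _)
    rw [Set.ncard_union_eq hdis (Set.toFinite _) (Set.toFinite _), hI] at this
    omega
  have b := base h
  rcases size_t_check mt hmt46 hdt ht7 (emt ▸ (F5 t ht).2 htu) with rfl | rfl
  · exact (b.false_of_large ht (by omega)).elim
  refine ⟨⟨b, t, u, ht, hu, by omega, by omega, fun z hz => ?_⟩⟩
  have heq := Set.eq_of_subset_of_ncard_le (Set.union_subset (hsub t ht) (hsub u hu))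
    (by rw [Set.ncard_union_eq hdis (Set.toFinite _) (Set.toFinite _), hI, emt, emu])
    (Set.toFinite _)
  have hmem : z ∈ cl t ∪ cl u := heq ▸ hz
  exact hmem.imp (fun e => (show IsConj t z from e).symm) (fun e => (show IsConj u z from e).symm)

end CfsgLib.ClassK.M24Nse
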