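import Cfsg.Agent.Lib.ClassK.M24Nse.Defs
import Cfsg.Agent.Lib.ClassK.M23Nse.Table

/-!
The values attach to the orders in one way only: the numbers of elements of each order and the
normalisers of the subgroups of order 5, 7, 11 and 23.
-/

set_option autoImplicit false
set_option linter.unusedSectionVars false

namespace CfsgLib.ClassK.M24Nse

open Subgroup CfsgLib.StructB.OrderCount

universe u

variable {G : Type u} [Group G] [Finite G]

theorem vals_sum : ∑ c ∈ vals, c = 244823040 := by decide +kernel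

theorem Hyp.inj (h : Hyp G) {n m : ℕ} (h0 : cnt G n ≠ 0) (he : cnt G n = cnt G m) : n = m := by
  classical
  by_contra hne
  set S := (Nat.card G).divisors.filter (fun k => cnt G k ≠ 0) with hS
  have hmem : ∀ k, cnt G k ≠ 0 → k ∈ S := fun k hk =>
    Finset.mem_filter.2 ⟨Nat.mem_divisors.2 ⟨dvd_card_of_cnt hk, Nat.card_pos.ne'⟩, hk⟩
  have hn := hmem n h0
  have hm : m ∈ S.erase n := Finset.mem_erase.2 ⟨Ne.symm hne, hmem m (he ▸ h0)⟩
  have hsub : vals ⊆ (S.erase n).image (cnt G) := by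
    intro c hc
    obtain ⟨k, hk⟩ := h.ach c hc
    have hk0 : cnt G k ≠ 0 := fun e => by
      rw [e] at hk
      subst hk
      revert hc
      decide
    by_cases hkn : k = n
    · exact Finset.mem_image.2 ⟨m, hm, by rw [← he, ← hkn, hk]⟩
    · exact Finset.mem_image.2 ⟨k, Finset.mem_erase.2 ⟨hkn, hmem k hk0⟩, hk⟩
  have h1 : ∑ c ∈ vals, c ≤ ∑ k ∈ S.erase n, cnt G k :=
    le_trans (Finset.sum_le_sum_of_subset hsub)
      (Finset.sum_image_le_of_nonneg (f := fun c => c) (fun _ _ => Nat.zero_le _))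
  have h2 := Finset.add_sum_erase S (fun k => cnt G k) hn
  have h3 : ∑ k ∈ S, cnt G k = 244823040 := by
    rw [hS, Finset.sum_filter_ne_zero, M23Nse.sum_cnt, h.card]
  rw [vals_sum] at h1
  omega

theorem Hyp.cases (h : Hyp G) (n : ℕ) : cnt G n = 0 ∨ cnt G n = 1 ∨ cnt G n = 43263 ∨
    cnt G n = 712448 ∨ cnt G n = 5100480 ∨ cnt G n = 4080384 ∨ cnt G n = 20401920 ∨
    cnt G n = 11658240 ∨ cnt G n = 15301440 ∨ cnt G n = 12241152 ∨ cnt G n = 22256640 ∨
    cnt G n = 40803840 ∨ cnt G n = 34974720 ∨ cnt G n = 32643072 ∨ cnt G n = 23316480 ∨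
    cnt G n = 21288960 := by
  by_cases hn : cnt G n = 0
  · exact Or.inl hn
  · have := h.val n hn
    simp only [vals, Finset.mem_insert, Finset.mem_singleton] at this
    tauto

theorem Hyp.le_max (h : Hyp G) (n : ℕ) : cnt G n ≤ 40803840 := by
  rcases h.cases n with e | e | e | e | e | e | e | e | e | e | e | e | e | e | e | e <;> omega

theorem Hyp.cnt_two (h : Hyp G) : cnt G 2 = 43263 := by
  obtain ⟨n, hn⟩ := h.ach 43263 (by decide)
  rcases n with _ | _ | _ | n
  · have : cnt G 0 = 0 := by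
      by_contra e
      obtain ⟨⟨g, hg⟩⟩ := (Nat.card_ne_zero.1 e).1
      exact (orderOf_pos g).ne' hg
    omega
  · rw [show 0 + 1 = 1 from rfl, cnt_one] at hn; omega
  · exact hn
  · have := (even_cnt (G := G) (m := n + 1 + 1 + 1) (by omega)).two_dvd
    omega

theorem Hyp.cnt_prime (h : Hyp G) {p k : ℕ} (hp : p.Prime) (hd : p ∣ 244823040)
    (hk : ∀ c ∈ vals, (c + 1) % p = 0 → c % (p - 1) = 0 → c = k) : cnt G p = k := by
  have h1 := M23Nse.cnt_prime_dvd (G := G) hp (h.card ▸ hd)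
  have h2 := totient_dvd_cnt (G := G) p
  rw [Nat.totient_prime hp] at h2
  exact hk _ (h.val p (cnt_ne_zero_of_prime hp (h.card ▸ hd))) (Nat.mod_eq_zero_of_dvd h1)
    (Nat.mod_eq_zero_of_dvd h2)

theorem Hyp.cnt_three (h : Hyp G) : cnt G 3 = 712448 :=
  h.cnt_prime Nat.prime_three (by norm_num) (by decide +kernel)

theorem Hyp.cnt_five (h : Hyp G) : cnt G 5 = 4080384 :=
  h.cnt_prime (by norm_num) (by norm_num) (by decide +kernel)

theorem Hyp.cnt_seven (h : Hyp G) : cnt G 7 = 11658240 :=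
  h.cnt_prime (by norm_num) (by norm_num) (by decide +kernel)

theorem Hyp.cnt_eleven (h : Hyp G) : cnt G 11 = 22256640 :=
  h.cnt_prime (by norm_num) (by norm_num) (by decide +kernel)

theorem Hyp.cnt_twentythree (h : Hyp G) : cnt G 23 = 21288960 :=
  h.cnt_prime (by norm_num) (by norm_num) (by decide +kernel)

theorem card_normalizer (h : Hyp G) {p k : ℕ} [hp : Fact p.Prime] (hd : p ∣ 244823040)
    (hd2 : ¬ p ^ 2 ∣ 244823040) (hk : cnt G p = k) {x : G} (hx : orderOf x = p) :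
    k * Nat.card (normalizer (zpowers x : Set G)) = (p - 1) * 244823040 := by
  obtain ⟨P, hP⟩ := M23Nse.exists_sylow_eq (h.card ▸ hd) (h.card ▸ hd2) hx
  have hPc := CfsgLib.Transfer.card_sylow_eq_prime P (h.card ▸ hd) (h.card ▸ hd2)
  rw [cnt, CfsgLib.Transfer.card_orderOf_eq_prime P hPc] at hk
  have h1 := (normalizer ((P : Subgroup G) : Set G)).index_mul_card
  rw [← show Nat.card (Sylow p G) = (normalizer ((P : Subgroup G) : Set G)).index from
    P.card_eq_index_normalizer, h.card, hP] at h1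
  rw [← hk]
  calc _ = (p - 1) * (Nat.card (Sylow p G) * Nat.card (normalizer (zpowers x : Set G))) := by ring
    _ = (p - 1) * 244823040 := by rw [h1]

theorem norm_five (h : Hyp G) {x : G} (hx : orderOf x = 5) :
    Nat.card (normalizer (zpowers x : Set G)) = 240 := by
  have : Fact (Nat.Prime 5) := ⟨by norm_num⟩
  have := card_normalizer h (by norm_num) (by norm_num) h.cnt_five hx
  omega

theorem norm_seven (h : Hyp G) {x : G} (hx : orderOf x = 7) :
    Nat.card (normalizer (zpowers x : Set G)) = 126 := by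
  have : Fact (Nat.Prime 7) := ⟨by norm_num⟩
  have := card_normalizer h (by norm_num) (by norm_num) h.cnt_seven hx
  omega

theorem norm_eleven (h : Hyp G) {x : G} (hx : orderOf x = 11) :
    Nat.card (normalizer (zpowers x : Set G)) = 110 := by
  have : Fact (Nat.Prime 11) := ⟨by norm_num⟩
  have := card_normalizer h (by norm_num) (by norm_num) h.cnt_eleven hx
  omega

theorem norm_twentythree (h : Hyp G) {x : G} (hx : orderOf x = 23) :
    Nat.card (normalizer (zpowers x : Set G)) = 253 := by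
  have : Fact (Nat.Prime 23) := ⟨by norm_num⟩
  have := card_normalizer h (by norm_num) (by norm_num) h.cnt_twentythree hx
  omega

theorem ncom_eq_cnt (x : G) (n : ℕ) :
    M23Nse.ncom x n = cnt (centralizer ({x} : Set G)) n :=
  Nat.card_congr
    { toFun := fun g => ⟨⟨g.1, mem_centralizer_singleton_iff.2 g.2.2.symm.eq⟩,
        by rw [Subgroup.orderOf_mk]; exact g.2.1⟩
      invFun := fun g => ⟨g.1.1, by rw [Subgroup.orderOf_coe]; exact g.2,
        (mem_centralizer_singleton_iff.1 g.1.2).symm⟩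
      left_inv := fun g => rfl
      right_inv := fun g => rfl }

theorem dvd_cent_of_ncom {x : G} {n : ℕ} (h : M23Nse.ncom x n ≠ 0) :
    n ∣ Nat.card (centralizer ({x} : Set G)) := by
  rw [ncom_eq_cnt] at h
  exact dvd_card_of_cnt h

theorem cent_twentythree (h : Hyp G) {x : G} (hx : orderOf x = 23) :
    Nat.card (centralizer ({x} : Set G)) = 23 := by
  have : Fact (Nat.Prime 23) := ⟨by norm_num⟩
  have : Fact (Nat.Prime 11) := ⟨by norm_num⟩
  have hd := M23Nse.card_cent_dvd_norm x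
  rw [norm_twentythree h hx] at hd
  have h23 := M23Nse.dvd_cent_self x
  rw [hx] at h23
  have h11 : ¬ 11 ∣ Nat.card (centralizer ({x} : Set G)) := fun h11 => by
    have h1 := M23Nse.cnt_mul_prime (q := 11) (h.card ▸ by norm_num) (h.card ▸ by norm_num) (by norm_num) hx
    rw [h.cnt_twentythree] at h1
    have := M23Nse.ncom_ge h11
    have := h.le_max (23 * 11)
    omega
  have hcases : ∀ m ∈ Nat.divisors 253, 23 ∣ m → ¬ 11 ∣ m → m = 23 := by decide +kernel
  exact hcases _ (Nat.mem_divisors.2 ⟨hd, by norm_num⟩) h23 h11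

theorem cent_eleven (h : Hyp G) {x : G} (hx : orderOf x = 11) :
    Nat.card (centralizer ({x} : Set G)) = 11 := by
  have : Fact (Nat.Prime 11) := ⟨by norm_num⟩
  have : Fact (Nat.Prime 5) := ⟨by norm_num⟩
  have : Fact (Nat.Prime 2) := ⟨Nat.prime_two⟩
  have hd := M23Nse.card_cent_dvd_norm x
  rw [norm_eleven h hx] at hd
  have h11 := M23Nse.dvd_cent_self x
  rw [hx] at h11
  have h5 : ¬ 5 ∣ Nat.card (centralizer ({x} : Set G)) := fun h5 => by
    have h1 := M23Nse.cnt_mul_prime (q := 5) (h.card ▸ by norm_num) (h.card ▸ by norm_num) (by norm_num) hx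
    rw [h.cnt_eleven] at h1
    have := M23Nse.ncom_ge h5
    have := h.le_max (11 * 5)
    omega
  have h2 : ¬ 2 ∣ Nat.card (centralizer ({x} : Set G)) := fun h2 => by
    have h1 := M23Nse.cnt_mul_prime (q := 2) (h.card ▸ by norm_num) (h.card ▸ by norm_num) (by norm_num) hx
    rw [h.cnt_eleven] at h1
    have := M23Nse.ncom_ge h2
    have := h.le_max (11 * 2)
    have hk : M23Nse.ncom x 2 = 1 := by omega
    rw [hk, mul_one] at h1
    have := h.inj (n := 11 * 2) (m := 11) (by omega) (h1.trans h.cnt_eleven.symm)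
    omega
  have hcases : ∀ m ∈ Nat.divisors 110, 11 ∣ m → ¬ 5 ∣ m → ¬ 2 ∣ m → m = 11 := by decide +kernel
  exact hcases _ (Nat.mem_divisors.2 ⟨hd, by norm_num⟩) h11 h5 h2

theorem ncom_two_odd {x : G} (hne : M23Nse.ncom x 2 ≠ 0) : M23Nse.ncom x 2 % 2 = 1 := by
  have hd := dvd_cent_of_ncom hne
  rw [ncom_eq_cnt]
  have h := Nat.mod_eq_zero_of_dvd
    (M23Nse.cnt_prime_dvd (G := centralizer ({x} : Set G)) Nat.prime_two hd)
  generalize cnt (centralizer ({x} : Set G)) 2 = k at h ⊢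
  omega

theorem ncom_three_even (x : G) : M23Nse.ncom x 3 % 2 = 0 := by
  rw [ncom_eq_cnt]
  exact Nat.mod_eq_zero_of_dvd (even_cnt (m := 3) le_rfl).two_dvd

theorem ncom_three_mod {x : G} (hne : M23Nse.ncom x 3 ≠ 0) : M23Nse.ncom x 3 % 3 = 2 := by
  have hd := dvd_cent_of_ncom hne
  rw [ncom_eq_cnt]
  have h := Nat.mod_eq_zero_of_dvd
    (M23Nse.cnt_prime_dvd (G := centralizer ({x} : Set G)) Nat.prime_three hd)
  generalize cnt (centralizer ({x} : Set G)) 3 = k at h ⊢
  omega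

theorem Hyp.fac_ne_one (h : Hyp G) {p q k : ℕ} (hp : 0 < p) (hq : q ≠ 1) (hne : cnt G p ≠ 0)
    (e : cnt G (p * q) = cnt G p * k) : k ≠ 1 := by
  rintro rfl
  rw [mul_one] at e
  have h1 := h.inj (n := p * q) (m := p) (e ▸ hne) e
  exact hq (Nat.eq_of_mul_eq_mul_left hp (by rw [h1, mul_one]))

theorem five_check : ((List.range 11).all fun k => decide (k = 1) || decide (¬ 4080384 * k ∈ vals) ||
    ((decide (¬ k % 2 = 1) || decide (¬ (4123648 + 4080384 * k) % 10 = 0) || decide (k = 3)) &&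
      (decide (¬ k % 2 = 0) || decide (¬ k % 3 = 2) || decide (k = 8)))) = true := by
  decide +kernel

theorem five_cases {k : ℕ} (hk : k < 11) (h1 : k ≠ 1) :
    (k % 2 = 1 → (4123648 + 4080384 * k) % 10 = 0 → 4080384 * k ∈ vals → k = 3) ∧
      (k % 2 = 0 → k % 3 = 2 → 4080384 * k ∈ vals → k = 8) := by
  have h := List.all_eq_true.1 five_check k (List.mem_range.2 hk)
  simp only [Bool.or_eq_true, Bool.and_eq_true, decide_eq_true_eq] at h
  tauto

theorem seven_check : ((List.range 4).all fun k => decide (k = 1) || decide (¬ 11658240 * k ∈ vals) ||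
    ((decide (¬ (11701504 + 11658240 * k) % 14 = 0) || decide (k = 3)) &&
      (decide (¬ (12370689 + 11658240 * k) % 21 = 0) || decide (k = 2)))) = true := by
  decide +kernel

theorem seven_cases {k : ℕ} (hk : k < 4) (h1 : k ≠ 1) :
    ((11701504 + 11658240 * k) % 14 = 0 → 11658240 * k ∈ vals → k = 3) ∧
      ((12370689 + 11658240 * k) % 21 = 0 → 11658240 * k ∈ vals → k = 2) := by
  have h := List.all_eq_true.1 seven_check k (List.mem_range.2 hk)
  simp only [Bool.or_eq_true, Bool.and_eq_true, decide_eq_true_eq] at h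
  tauto

/-- The elements of order 10 and 15 through the centraliser of an element of order 5. -/
theorem five_facts (h : Hyp G) {x : G} (hx : orderOf x = 5) :
    cnt G 15 = 32643072 ∧ cnt G 10 = 12241152 ∧ M23Nse.ncom x 2 = 3 ∧ M23Nse.ncom x 3 = 8 := by
  have : Fact (Nat.Prime 5) := ⟨by norm_num⟩
  have : Fact (Nat.Prime 3) := ⟨by norm_num⟩
  have : Fact (Nat.Prime 2) := ⟨Nat.prime_two⟩
  have m2 := M23Nse.cnt_mul_prime (q := 2) (h.card ▸ by norm_num) (h.card ▸ by norm_num) (by norm_num) hx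
  have m3 := M23Nse.cnt_mul_prime (q := 3) (h.card ▸ by norm_num) (h.card ▸ by norm_num) (by norm_num) hx
  have hne1 := h.fac_ne_one (by norm_num) (by norm_num) (by rw [h.cnt_five]; norm_num) m2
  rw [h.cnt_five, show 5 * 2 = 10 from rfl] at m2
  rw [h.cnt_five, show 5 * 3 = 15 from rfl] at m3
  have c10 := dvd_sum_cnt (G := G) (n := 10) (by rw [h.card]; norm_num)
  rw [show (10 : ℕ).divisors = {1, 2, 5, 10} by decide] at c10
  simp only [Finset.sum_insert, Finset.sum_singleton, Finset.mem_insert, Finset.mem_singleton,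
    Nat.reduceEqDiff, or_self, not_false_eq_true, cnt_one, h.cnt_two, h.cnt_five] at c10
  have c15 := dvd_sum_cnt (G := G) (n := 15) (by rw [h.card]; norm_num)
  rw [show (15 : ℕ).divisors = {1, 3, 5, 15} by decide] at c15
  simp only [Finset.sum_insert, Finset.sum_singleton, Finset.mem_insert, Finset.mem_singleton,
    Nat.reduceEqDiff, or_self, not_false_eq_true, cnt_one, h.cnt_three, h.cnt_five] at c15
  have hz2 : M23Nse.ncom x 2 ≠ 0 := fun e => by
    rw [e, mul_zero] at m2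
    rw [m2] at c10
    norm_num at c10
  have hz3 : M23Nse.ncom x 3 ≠ 0 := fun e => by
    rw [e, mul_zero] at m3
    rw [m3] at c15
    norm_num at c15
  have hb2 : M23Nse.ncom x 2 < 11 := Nat.lt_succ_of_le (Nat.le_of_mul_le_mul_left
    (show 4080384 * M23Nse.ncom x 2 ≤ 4080384 * 10 from m2 ▸ h.le_max 10) (by norm_num))
  have hb3 : M23Nse.ncom x 3 < 11 := Nat.lt_succ_of_le (Nat.le_of_mul_le_mul_left
    (show 4080384 * M23Nse.ncom x 3 ≤ 4080384 * 10 from m3 ▸ h.le_max 15) (by norm_num))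
  have hc : (4123648 + 4080384 * M23Nse.ncom x 2) % 10 = 0 := by
    rw [m2, ← add_assoc, ← add_assoc] at c10
    exact Nat.mod_eq_zero_of_dvd c10
  have hv2 : 4080384 * M23Nse.ncom x 2 ∈ vals := m2 ▸ h.val 10 (by
    rw [m2]; exact Nat.mul_ne_zero (by norm_num) hz2)
  have hv3 : 4080384 * M23Nse.ncom x 3 ∈ vals := m3 ▸ h.val 15 (by
    rw [m3]; exact Nat.mul_ne_zero (by norm_num) hz3)
  have h3 := ncom_three_mod hz3
  have e2 : M23Nse.ncom x 2 = 3 := (five_cases hb2 hne1).1 (ncom_two_odd hz2) hc hv2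
  have e3 : M23Nse.ncom x 3 = 8 := (five_cases hb3 fun e => by
    rw [e] at h3; norm_num at h3).2 (ncom_three_even x) h3 hv3
  exact ⟨by rw [m3, e3], by rw [m2, e2], e2, e3⟩

theorem mul_le_three {k : ℕ} (h : 11658240 * k ≤ 40803840) : 11658240 * k ≤ 11658240 * 3 := by
  omega

/-- The elements of order 14 and 21 through the centraliser of an element of order 7. -/
theorem seven_facts (h : Hyp G) {x : G} (hx : orderOf x = 7) :
    cnt G 14 = 34974720 ∧ cnt G 21 = 23316480 ∧ M23Nse.ncom x 2 = 3 ∧ M23Nse.ncom x 3 = 2 := by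
  have : Fact (Nat.Prime 7) := ⟨by norm_num⟩
  have : Fact (Nat.Prime 3) := ⟨by norm_num⟩
  have : Fact (Nat.Prime 2) := ⟨Nat.prime_two⟩
  have m2 := M23Nse.cnt_mul_prime (q := 2) (h.card ▸ by norm_num) (h.card ▸ by norm_num) (by norm_num) hx
  have m3 := M23Nse.cnt_mul_prime (q := 3) (h.card ▸ by norm_num) (h.card ▸ by norm_num) (by norm_num) hx
  have ne1 : M23Nse.ncom x 2 ≠ 1 ∧ M23Nse.ncom x 3 ≠ 1 :=
    ⟨h.fac_ne_one (by norm_num) (by norm_num) (by rw [h.cnt_seven]; norm_num) m2,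
      h.fac_ne_one (by norm_num) (by norm_num) (by rw [h.cnt_seven]; norm_num) m3⟩
  rw [h.cnt_seven, show 7 * 2 = 14 from rfl] at m2
  rw [h.cnt_seven, show 7 * 3 = 21 from rfl] at m3
  have c14 := dvd_sum_cnt (G := G) (n := 14) (by rw [h.card]; norm_num)
  rw [show (14 : ℕ).divisors = {1, 2, 7, 14} by decide] at c14
  simp only [Finset.sum_insert, Finset.sum_singleton, Finset.mem_insert, Finset.mem_singleton,
    Nat.reduceEqDiff, or_self, not_false_eq_true, cnt_one, h.cnt_two, h.cnt_seven] at c14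
  have c21 := dvd_sum_cnt (G := G) (n := 21) (by rw [h.card]; norm_num)
  rw [show (21 : ℕ).divisors = {1, 3, 7, 21} by decide] at c21
  simp only [Finset.sum_insert, Finset.sum_singleton, Finset.mem_insert, Finset.mem_singleton,
    Nat.reduceEqDiff, or_self, not_false_eq_true, cnt_one, h.cnt_three, h.cnt_seven] at c21
  have hz2 : M23Nse.ncom x 2 ≠ 0 := fun e => by
    rw [e, mul_zero] at m2
    rw [m2] at c14
    norm_num at c14
  have hz3 : M23Nse.ncom x 3 ≠ 0 := fun e => by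
    rw [e, mul_zero] at m3
    rw [m3] at c21
    norm_num at c21
  have hb2 : M23Nse.ncom x 2 < 4 := Nat.lt_succ_of_le (Nat.le_of_mul_le_mul_left
    (show 11658240 * M23Nse.ncom x 2 ≤ 11658240 * 3 from
      mul_le_three (m2 ▸ h.le_max 14)) (by norm_num))
  have hb3 : M23Nse.ncom x 3 < 4 := Nat.lt_succ_of_le (Nat.le_of_mul_le_mul_left
    (show 11658240 * M23Nse.ncom x 3 ≤ 11658240 * 3 from
      mul_le_three (m3 ▸ h.le_max 21)) (by norm_num))
  have hc2 : (11701504 + 11658240 * M23Nse.ncom x 2) % 14 = 0 := by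
    rw [m2, ← add_assoc, ← add_assoc] at c14
    exact Nat.mod_eq_zero_of_dvd c14
  have hc3 : (12370689 + 11658240 * M23Nse.ncom x 3) % 21 = 0 := by
    rw [m3, ← add_assoc, ← add_assoc] at c21
    exact Nat.mod_eq_zero_of_dvd c21
  have hv2 : 11658240 * M23Nse.ncom x 2 ∈ vals := m2 ▸ h.val 14 (by
    rw [m2]; exact Nat.mul_ne_zero (by norm_num) hz2)
  have hv3 : 11658240 * M23Nse.ncom x 3 ∈ vals := m3 ▸ h.val 21 (by
    rw [m3]; exact Nat.mul_ne_zero (by norm_num) hz3)
  have e2 : M23Nse.ncom x 2 = 3 := (seven_cases hb2 ne1.1).1 hc2 hv2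
  have e3 : M23Nse.ncom x 3 = 2 := (seven_cases hb3 ne1.2).2 hc3 hv3
  exact ⟨by rw [m2, e2], by rw [m3, e3], e2, e3⟩

theorem Hyp.cnt_fifteen (h : Hyp G) : cnt G 15 = 32643072 := by
  have : Fact (Nat.Prime 5) := ⟨by norm_num⟩
  obtain ⟨x, hx⟩ := exists_prime_orderOf_dvd_card' (G := G) 5 (by rw [h.card]; norm_num)
  exact (five_facts h hx).1

theorem Hyp.cnt_ten (h : Hyp G) : cnt G 10 = 12241152 := by
  have : Fact (Nat.Prime 5) := ⟨by norm_num⟩
  obtain ⟨x, hx⟩ := exists_prime_orderOf_dvd_card' (G := G) 5 (by rw [h.card]; norm_num)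
  exact (five_facts h hx).2.1

theorem Hyp.cnt_fourteen (h : Hyp G) : cnt G 14 = 34974720 := by
  have : Fact (Nat.Prime 7) := ⟨by norm_num⟩
  obtain ⟨x, hx⟩ := exists_prime_orderOf_dvd_card' (G := G) 7 (by rw [h.card]; norm_num)
  exact (seven_facts h hx).1

theorem Hyp.cnt_twentyone (h : Hyp G) : cnt G 21 = 23316480 := by
  have : Fact (Nat.Prime 7) := ⟨by norm_num⟩
  obtain ⟨x, hx⟩ := exists_prime_orderOf_dvd_card' (G := G) 7 (by rw [h.card]; norm_num)
  exact (seven_facts h hx).2.1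

/-- The possible orders. -/
theorem order_dvd (h : Hyp G) {n : ℕ} (hn : cnt G n ≠ 0) :
    n ∣ 27648 ∨ n = 11 ∨ n = 23 ∨ (5 ∣ n ∧ n ∣ 240) ∨ (7 ∣ n ∧ n ∣ 126) := by
  obtain ⟨⟨g, rfl⟩⟩ := (Nat.card_ne_zero.1 hn).1
  have hd : orderOf g ∣ 244823040 := h.card ▸ orderOf_dvd_natCard g
  have key : ∀ p : ℕ, p ∣ orderOf g →
      ∃ x : G, orderOf x = p ∧ orderOf g ∣ Nat.card (centralizer ({x} : Set G)) := fun p hp =>
    ⟨g ^ (orderOf g / p), orderOf_pow_orderOf_div (orderOf_pos g).ne' hp,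
      Subgroup.orderOf_dvd_natCard _ (mem_centralizer_singleton_iff.2 (Commute.self_pow g _).eq)⟩
  by_cases p5 : 5 ∣ orderOf g
  · obtain ⟨x, hx, hc⟩ := key 5 p5
    exact Or.inr (Or.inr (Or.inr (Or.inl ⟨p5, norm_five h hx ▸ hc.trans (M23Nse.card_cent_dvd_norm x)⟩)))
  by_cases p7 : 7 ∣ orderOf g
  · obtain ⟨x, hx, hc⟩ := key 7 p7
    exact Or.inr (Or.inr (Or.inr (Or.inr ⟨p7, norm_seven h hx ▸ hc.trans (M23Nse.card_cent_dvd_norm x)⟩)))
  by_cases p11 : 11 ∣ orderOf g
  · obtain ⟨x, hx, hc⟩ := key 11 p11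
    rw [cent_eleven h hx] at hc
    exact Or.inr (Or.inl (Nat.dvd_antisymm hc p11))
  by_cases p23 : 23 ∣ orderOf g
  · obtain ⟨x, hx, hc⟩ := key 23 p23
    rw [cent_twentythree h hx] at hc
    exact Or.inr (Or.inr (Or.inl (Nat.dvd_antisymm hc p23)))
  have hco : (orderOf g).Coprime (5 * 7 * 11 * 23) := by
    have P : ∀ {p : ℕ}, p.Prime → ¬ p ∣ orderOf g → (orderOf g).Coprime p := fun hp hn =>
      (hp.coprime_iff_not_dvd.2 hn).symm
    exact (((P (by norm_num) p5).mul_right (P (by norm_num) p7)).mul_right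
      (P (by norm_num) p11)).mul_right (P (by norm_num) p23)
  exact Or.inl (hco.dvd_of_dvd_mul_right
    (show orderOf g ∣ 27648 * (5 * 7 * 11 * 23) by norm_num; exact hd))

end CfsgLib.ClassK.M24Nse
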