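import Cfsg.Agent.Lib.ClassK.M24Nse.ModelData

/-! The orders along the leaves of the tree, checked. -/

set_option autoImplicit false
set_option maxRecDepth 100000

namespace CfsgLib.ClassK.M24Nse

theorem leafOK0 : leafOK (984818244535754528103549039458486304, leafOrd0) = true := by decide +kernel

theorem leafOK1 : leafOK (975080740602377456933237879450340384, leafOrd1) = true := by decide +kernel

theorem leafOK2 : leafOK (981531329083443017662659881993831488, leafOrd2) = true := by decide +kernel

theorem leafOK3 : leafOK (960887375099864551880417021342026816, leafOrd3) = true := by decide +kernel

theorem leafOK4 : leafOK (981936787012358643108979234244560897, leafOrd4) = true := by decide +kernel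

theorem leafOK5 : leafOK (977621821697931554054861796659301377, leafOrd5) = true := by decide +kernel

theorem leafOK6 : leafOK (965975689292756192251730118646726721, leafOrd6) = true := by decide +kernel

theorem leafOK7 : leafOK (983436266574787872879293406506093633, leafOrd7) = true := by decide +kernel

end CfsgLib.ClassK.M24Nse
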