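import Cfsg.Agent.Lib.ClassK.M22Nse.Split
import Cfsg.Agent.Lib.ClassK.M22Nse.Model

/-!
Counting the elements of each order in `M₂₄` by a tree: a node splits by the image of the next base
point into orbits of the stabiliser of all points seen so far, a leaf is a coset of the stabiliser of
four points, given with the orders of its elements.
-/

set_option autoImplicit false
set_option maxRecDepth 100000

namespace CfsgLib.ClassK.M24Nse

open Cfsg CfsgLib.Golay
open CfsgLib.ClassK.M12Nse (wval app appIter wval_pt wval_pow_pt appIter_lt wval_append wval_mem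
  prods exists_prod)
open CfsgLib.ClassK.M22Nse (ordSet lev X20)
open scoped Pointwise

/-- Splitting trees. `split r T a b`: the orbit of `r` under the transversal `T`, the subtree for the
image `r`, and the remaining orbits. -/
inductive CTree : Type
  | leaf (e : ℕ) (os : List ℕ)
  | stop
  | split (r : ℕ) (T : List ℕ) (a b : CTree)

/-- The count read off a tree. -/
def cntT : CTree → ℕ → ℕ
  | .leaf _ os, n => os.countP fun o => Nat.beq o n
  | .stop, _ => 0
  | .split r T a b, n => pop (orbMask r T) * cntT a n + cntT b n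

/-- The base points. -/
def bases : List ℕ := [23, 0, 1, 2]

/-- The base point after the prescribed images `L`. -/
def nextB (L : List (ℕ × ℕ)) : ℕ := bases.getD L.length 24

/-- The points seen so far. -/
def seen (L : List (ℕ × ℕ)) : List ℕ := nextB L :: (L.map Prod.fst ++ L.map Prod.snd)

/-- The seven points that determine an element. -/
def faithPts : List ℕ := [23, 0, 1, 2, 3, 4, 5]

/-- Equality of two lists of numbers. -/
def beqL : List ℕ → List ℕ → Bool
  | [], [] => true
  | a :: as, b :: bs => Nat.beq a b && beqL as bs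
  | _, _ => false

/-- The first exponent killing a word, with the images after `k` applications. -/
def ordLoop (w : List ℕ) : ℕ → ℕ → List ℕ → ℕ
  | 0, _, _ => 0
  | f + 1, k, s => bif beqL s faithPts then k else ordLoop w f (k + 1) (s.map (app w))

/-- The order of a word, if at most 23. -/
def ord24 (w : List ℕ) : ℕ := ordLoop w 23 1 (faithPts.map (app w))

/-- The orders occurring. -/
def ords24 : List ℕ := [1, 2, 3, 4, 5, 6, 7, 8, 10, 11, 12, 14, 15, 21, 23]

/-- Correctness of a tree below the images `L`, the orbits in `cov` being done. -/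
def chkT : CTree → List (ℕ × ℕ) → ℕ → Bool
  | .leaf e os, L, cov =>
      beqL (L.map Prod.fst) bases && Nat.beq cov 0 && inM24 e &&
        L.all (fun q => Nat.beq (img e q.1) q.2) &&
        os.all (fun o => ords24.any fun m => Nat.beq o m)
  | .stop, L, cov =>
      Nat.ble (L.length + 1) 4 &&
        L.all (fun q => Nat.ble q.1 23 && !Nat.beq q.1 (nextB L)) &&
        (List.range 24).all fun y => cov.testBit y || L.any fun q => Nat.beq q.2 y
  | .split r T a b, L, cov =>
      Nat.ble (L.length + 1) 4 && Nat.ble r 23 &&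
        Nat.beq (Nat.land cov (orbMask r T)) 0 &&
        L.all (fun q => Nat.ble q.1 23 && Nat.ble q.2 23) &&
        T.all (inFix ((seen L).map (Nat.shiftLeft 1))) &&
        chkT a (L ++ [(nextB L, r)]) 0 && chkT b L (Nat.lor cov (orbMask r T))

/-- The orders recorded at a leaf are those of its words. -/
def leafOK (q : ℕ × List ℕ) : Bool := beqL ((prods (lev 4)).map fun v => ord24 (q.1 :: v)) q.2

/-- The leaves of a tree. -/
def leavesT : CTree → List (ℕ × List ℕ)
  | .leaf e os => [(e, os)]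
  | .stop => []
  | .split _ _ a b => leavesT a ++ leavesT b

theorem beqL_eq : ∀ {a b : List ℕ}, beqL a b = true → a = b
  | [], [], _ => rfl
  | [], _ :: _, h => by simp [beqL] at h
  | _ :: _, [], h => by simp [beqL] at h
  | a :: as, b :: bs, h => by
    simp only [beqL, Bool.and_eq_true] at h
    rw [Nat.eq_of_beq_eq_true h.1, beqL_eq h.2]

theorem beqL_refl : ∀ a : List ℕ, beqL a a = true
  | [] => rfl
  | a :: as => by simp [beqL, beqL_refl as]

theorem nextB_lt {L : List (ℕ × ℕ)} (h : L.length + 1 ≤ 4) : nextB L < 24 := by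
  have : L.length = 0 ∨ L.length = 1 ∨ L.length = 2 ∨ L.length = 3 := by omega
  rcases this with e | e | e | e <;> simp [nextB, bases, e]

theorem faith24 {σ : Equiv.Perm GolayPt} (hσ : σ ∈ fixMasks [])
    (h : ∀ i ∈ faithPts, σ (pt i) = pt i) : σ = 1 := by
  have hc : chainOK [32, 16, 8, 4, 2, 1, 8388608] (chainM24Levels.drop 7) chainM24Fin = true := by
    decide +kernel
  have h1 := card_fixMasks hc
  rw [show chainCard (chainM24Levels.drop 7) = 1 by decide +kernel] at h1
  have : σ ∈ fixMasks [32, 16, 8, 4, 2, 1, 8388608] := by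
    rw [show ([32, 16, 8, 4, 2, 1, 8388608] : List ℕ) = Nat.shiftLeft 1 5 :: Nat.shiftLeft 1 4 ::
      Nat.shiftLeft 1 3 :: Nat.shiftLeft 1 2 :: Nat.shiftLeft 1 1 :: Nat.shiftLeft 1 0 ::
      [Nat.shiftLeft 1 23] from rfl]
    simp only [mem_fixMasks_bit (show (5 : ℕ) < 24 by norm_num),
      mem_fixMasks_bit (show (4 : ℕ) < 24 by norm_num), mem_fixMasks_bit (show (3 : ℕ) < 24 by norm_num),
      mem_fixMasks_bit (show (2 : ℕ) < 24 by norm_num), mem_fixMasks_bit (show (1 : ℕ) < 24 by norm_num),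
      mem_fixMasks_bit (show (0 : ℕ) < 24 by norm_num), mem_fixMasks_bit (show (23 : ℕ) < 24 by norm_num)]
    exact ⟨⟨⟨⟨⟨⟨⟨hσ, h 23 (by decide)⟩, h 0 (by decide)⟩, h 1 (by decide)⟩, h 2 (by decide)⟩,
      h 3 (by decide)⟩, h 4 (by decide)⟩, h 5 (by decide)⟩
  rwa [Subgroup.card_eq_one.1 h1, Subgroup.mem_bot] at this

theorem triv24_iff {w : List ℕ} (h : ∀ t ∈ w, valid t = true) (hw : wval w ∈ fixMasks []) (k : ℕ) :
    beqL (faithPts.map (appIter w k)) faithPts = true ↔ wval w ^ k = 1 := by
  have hlt : ∀ i ∈ faithPts, i < 24 := by decide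
  constructor
  · intro hk
    refine faith24 (Subgroup.pow_mem _ hw k) fun i hi => ?_
    rw [wval_pow_pt h (hlt i hi)]
    congr 1
    exact List.map_inj_left.1 ((beqL_eq hk).trans (List.map_id _).symm) i hi
  · intro hk
    rw [(List.map_inj_left (g := id)).2 fun i hi => ?_, List.map_id]
    · exact beqL_refl _
    have e := wval_pow_pt h (hlt i hi) k
    rw [hk, Equiv.Perm.one_apply] at e
    have := congrArg idx e
    rw [idx_pt (hlt i hi), idx_pt (appIter_lt h (hlt i hi) k)] at this
    exact this.symm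

theorem ordLoop_spec {w : List ℕ} : ∀ (f k : ℕ), ordLoop w f k (faithPts.map (appIter w k)) ≠ 0 →
    k ≤ ordLoop w f k (faithPts.map (appIter w k)) ∧
      beqL (faithPts.map (appIter w (ordLoop w f k (faithPts.map (appIter w k))))) faithPts = true ∧
      ∀ m, k ≤ m → m < ordLoop w f k (faithPts.map (appIter w k)) →
        beqL (faithPts.map (appIter w m)) faithPts = false
  | 0, _, h => absurd rfl h
  | f + 1, k, h => by
    simp only [ordLoop] at h ⊢
    cases hk : beqL (faithPts.map (appIter w k)) faithPts with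
    | true =>
      simp only [cond_true]
      exact ⟨le_rfl, hk, fun m h1 h2 => absurd h1 (by omega)⟩
    | false =>
      simp only [hk, cond_false] at h ⊢
      have e : (faithPts.map (appIter w k)).map (app w) = faithPts.map (appIter w (k + 1)) := by
        rw [List.map_map]; rfl
      rw [e] at h ⊢
      obtain ⟨h1, h2, h3⟩ := ordLoop_spec f (k + 1) h
      refine ⟨by omega, h2, fun m hm hm' => ?_⟩
      rcases Nat.eq_or_lt_of_le hm with rfl | hlt
      · exact hk
      · exact h3 m hlt hm'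

theorem orderOf_wval24 {w : List ℕ} (h : ∀ t ∈ w, valid t = true) (hw : wval w ∈ fixMasks [])
    (h0 : ord24 w ≠ 0) : orderOf (wval w) = ord24 w := by
  have e : faithPts.map (app w) = faithPts.map (appIter w 1) := rfl
  rw [ord24, e] at h0 ⊢
  obtain ⟨h1, h2, h3⟩ := ordLoop_spec (w := w) 23 1 h0
  rw [orderOf_eq_iff (by exact h1)]
  refine ⟨(triv24_iff h hw _).1 h2, fun m hm hm0 he => ?_⟩
  have := h3 m hm0 hm
  rw [(triv24_iff h hw m).2 he] at this
  exact absurd this (by simp)

/-- The condition "the prescribed images". -/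
def ImgP (L : List (ℕ × ℕ)) (σ : Equiv.Perm GolayPt) : Prop := ∀ q ∈ L, σ (pt q.1) = pt q.2

theorem mem_X20 {σ : Equiv.Perm GolayPt} :
    σ ∈ fixMasks X20 ↔ σ ∈ fixMasks [] ∧ ∀ b ∈ bases, σ (pt b) = pt b := by
  rw [show (X20 : List ℕ) = Nat.shiftLeft 1 2 :: Nat.shiftLeft 1 1 :: Nat.shiftLeft 1 0 ::
    [Nat.shiftLeft 1 23] from rfl]
  simp only [mem_fixMasks_bit (show (2 : ℕ) < 24 by norm_num),
    mem_fixMasks_bit (show (1 : ℕ) < 24 by norm_num), mem_fixMasks_bit (show (0 : ℕ) < 24 by norm_num),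
    mem_fixMasks_bit (show (23 : ℕ) < 24 by norm_num), bases, List.forall_mem_cons, List.not_mem_nil,
    false_implies, implies_true, and_true, and_assoc]

/-- A leaf. -/
theorem ncard_leaf {e : ℕ} {os : List ℕ} {L : List (ℕ × ℕ)} (hL : L.map Prod.fst = bases)
    (he : inM24 e = true) (hi : ∀ q ∈ L, img e q.1 = q.2)
    (hpos : ∀ o ∈ os, o ≠ 0) (hos : (prods (lev 4)).map (fun v => ord24 (e :: v)) = os) (n : ℕ) :
    (ordSet [] (ImgP L) n).ncard = os.countP fun o => Nat.beq o n := by
  classical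
  have hev := inM24_valid he
  have hem : permOf e ∈ fixMasks [] := by rw [fixMasks_nil]; exact inM24_mem he
  have hin := M22Nse.in20
  simp only [List.all_eq_true, Bool.and_eq_true] at hin
  have hb : ∀ q ∈ L, q.1 ∈ bases := fun q hq => hL ▸ List.mem_map_of_mem hq
  have hblt : ∀ b ∈ bases, b < 24 := by decide
  have hepts : ∀ q ∈ L, permOf e (pt q.1) = pt q.2 := fun q hq => by
    rw [permOf_pt hev (hblt _ (hb q hq)), hi q hq]
  -- the words
  set W : List (List ℕ) := (prods (lev 4)).map (List.cons e) with hW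
  have hmem : ∀ w ∈ W, (∀ t ∈ w, valid t = true) ∧ wval w ∈ fixMasks [] ∧ ImgP L (wval w) := by
    intro w hw
    obtain ⟨v, hv, rfl⟩ := List.mem_map.1 hw
    have h2 := mem_X20.1 (wval_mem (hin v hv).1)
    refine ⟨?_, Subgroup.mul_mem _ hem h2.1, fun q hq => ?_⟩
    · intro t ht
      rcases List.mem_cons.1 ht with rfl | ht
      · exact hev
      · exact inFix_valid ((hin v hv).1 t ht)
    · show (permOf e * wval v) (pt q.1) = _
      rw [Equiv.Perm.mul_apply, h2.2 _ (hb q hq), hepts q hq]
  have hsurj : ∀ σ, σ ∈ fixMasks [] ∧ ImgP L σ → ∃ w ∈ W, wval w = σ := by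
    rintro σ ⟨hσ, hσL⟩
    obtain ⟨v, hv, hve⟩ := exists_prod M22Nse.chain20 ((permOf e)⁻¹ * σ) (mem_X20.2
      ⟨Subgroup.mul_mem _ (Subgroup.inv_mem _ hem) hσ, fun b hb' => by
        obtain ⟨q, hq, rfl⟩ := List.mem_map.1 (hL.symm ▸ hb' : b ∈ L.map Prod.fst)
        rw [Equiv.Perm.mul_apply, hσL q hq, Equiv.Perm.inv_eq_iff_eq, hepts q hq]⟩)
    exact ⟨e :: v, List.mem_map.2 ⟨v, hv, rfl⟩, by
      show permOf e * wval v = σ
      rw [hve, mul_inv_cancel_left]⟩
  have hset : {σ | σ ∈ fixMasks [] ∧ ImgP L σ} = ↑((W.map wval).toFinset) := by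
    ext σ
    simp only [List.coe_toFinset, List.mem_map, Set.mem_setOf_eq]
    exact ⟨hsurj σ, by rintro ⟨w, hw, rfl⟩; exact ⟨(hmem w hw).2.1, (hmem w hw).2.2⟩⟩
  have hnd : (W.map wval).Nodup := by
    have hlen : W.length ≤ Set.ncard {σ | σ ∈ fixMasks [] ∧ ImgP L σ} := by
      rw [hW, List.length_map, show (prods (lev 4)).length = chainCard (lev 4) by decide +kernel,
        ← card_fixMasks M22Nse.chain20, ← Nat.card_coe_set_eq]
      refine Nat.card_le_card_of_injective (fun s => ⟨permOf e * s.1, ?_⟩) fun s s' h => ?_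
      · have h2 := mem_X20.1 s.2
        exact ⟨Subgroup.mul_mem _ hem h2.1, fun q hq => by
          rw [Equiv.Perm.mul_apply, h2.2 _ (hb q hq), hepts q hq]⟩
      · exact Subtype.ext (mul_left_cancel (congrArg Subtype.val h))
    rw [hset, Set.ncard_coe_finset, List.card_toFinset] at hlen
    exact List.dedup_eq_self.1 ((List.dedup_sublist _).eq_of_length_le (by simpa using hlen))
  have hord : ∀ w ∈ W, orderOf (wval w) = ord24 w := fun w hw => by
    refine orderOf_wval24 (hmem w hw).1 (hmem w hw).2.1 (hpos _ ?_)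
    obtain ⟨v, hv, rfl⟩ := List.mem_map.1 hw
    rw [← hos]
    exact List.mem_map.2 ⟨v, hv, rfl⟩
  have hsub : ordSet [] (ImgP L) n = ↑(((W.filter fun w => Nat.beq (ord24 w) n).map wval).toFinset) := by
    ext σ
    simp only [List.coe_toFinset, List.mem_map, List.mem_filter, Set.mem_setOf_eq, ordSet]
    constructor
    · rintro ⟨h1, h2, h3⟩
      obtain ⟨w, hw, rfl⟩ := hsurj σ ⟨h1, h2⟩
      refine ⟨w, ⟨hw, ?_⟩, rfl⟩
      rw [← h3, hord w hw]
      exact Nat.beq_refl _
    · rintro ⟨w, ⟨hw, hn⟩, rfl⟩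
      exact ⟨(hmem w hw).2.1, (hmem w hw).2.2, (hord w hw).trans (Nat.eq_of_beq_eq_true hn)⟩
  rw [hsub, Set.ncard_coe_finset, List.toFinset_card_of_nodup, List.length_map,
    ← List.countP_eq_length_filter, ← hos, List.countP_map, List.countP_map]
  · rfl
  · exact hnd.sublist (List.filter_sublist.map _)

theorem chkT_pos {os : List ℕ} (h : os.all (fun o => ords24.any fun m => Nat.beq o m) = true) :
    ∀ o ∈ os, o ∈ ords24 := by
  intro o ho
  obtain ⟨m, hm, he⟩ := List.any_eq_true.1 (List.all_eq_true.1 h o ho)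
  rwa [Nat.eq_of_beq_eq_true he]

/-- A correct tree counts. -/
theorem ncard_tree : ∀ (t : CTree) (L : List (ℕ × ℕ)) (cov : ℕ), chkT t L cov = true →
    (∀ q ∈ leavesT t, leafOK q = true) → ∀ n,
    (ordSet [] (fun σ => ImgP L σ ∧ (cov ≠ 0 → σ (pt (nextB L)) ∉ mset cov)) n).ncard = cntT t n
  | .leaf e os, L, cov, h, hl, n => by
    simp only [chkT, Bool.and_eq_true, List.all_eq_true] at h
    obtain ⟨⟨⟨⟨h1, h2⟩, h3⟩, h4⟩, h5⟩ := h
    have h6 : leafOK (e, os) = true := hl _ List.mem_cons_self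
    obtain rfl := Nat.eq_of_beq_eq_true h2
    have hs : ordSet [] (fun σ => ImgP L σ ∧ ((0 : ℕ) ≠ 0 → σ (pt (nextB L)) ∉ mset 0)) n =
        ordSet [] (ImgP L) n := by simp [ordSet]
    rw [hs, cntT]
    exact ncard_leaf (beqL_eq h1) h3 (fun q hq => Nat.eq_of_beq_eq_true (h4 q hq))
      (fun o ho e0 => by
        have := chkT_pos (List.all_eq_true.2 h5) o ho
        rw [e0] at this
        simp [ords24] at this)
      (beqL_eq h6) n
  | .stop, L, cov, h, _, n => by
    simp only [chkT, Bool.and_eq_true, List.all_eq_true, Bool.or_eq_true, List.any_eq_true] at h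
    obtain ⟨⟨h1, h2⟩, h3⟩ := h
    have hc := nextB_lt (Nat.le_of_ble_eq_true h1)
    rw [cntT, Set.ncard_eq_zero (Set.toFinite _), Set.eq_empty_iff_forall_notMem]
    rintro σ ⟨-, ⟨hP, hcov⟩, -⟩
    rcases h3 (idx (σ (pt (nextB L)))) (List.mem_range.2 (idx_lt _)) with h4 | ⟨q, hq, h4⟩
    · refine hcov (fun e => ?_) (mem_mset.2 h4)
      rw [e] at h4
      simp at h4
    · have hq2 := Nat.eq_of_beq_eq_true h4
      have h5 := hP q hq
      rw [hq2, pt_idx] at h5
      have h6 := congrArg idx (σ.injective h5)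
      have h7 := h2 q hq
      rw [idx_pt (Nat.lt_succ_of_le (Nat.le_of_ble_eq_true h7.1)), idx_pt hc] at h6
      rw [h6] at h7
      simp at h7
  | .split r T a b, L, cov, h, hl, n => by
    simp only [chkT, Bool.and_eq_true, List.all_eq_true] at h
    obtain ⟨⟨⟨⟨⟨⟨h1, hr⟩, h2⟩, h3⟩, hT⟩, ha⟩, hb⟩ := h
    have hc := nextB_lt (Nat.le_of_ble_eq_true h1)
    have hr' : r < 24 := Nat.lt_succ_of_le (Nat.le_of_ble_eq_true hr)
    set c := nextB L with hcdef
    set O := mset (orbMask r T) with hO
    have hlt : ∀ i ∈ seen L, i < 24 := by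
      intro i hi
      rcases List.mem_cons.1 hi with rfl | hi
      · exact hc
      rcases List.mem_append.1 hi with hi | hi <;> obtain ⟨q, hq, rfl⟩ := List.mem_map.1 hi
      · exact Nat.lt_succ_of_le (Nat.le_of_ble_eq_true (h3 q hq).1)
      · exact Nat.lt_succ_of_le (Nat.le_of_ble_eq_true (h3 q hq).2)
    have hfix : ∀ k ∈ fixMasks ((seen L).map (Nat.shiftLeft 1)), ∀ i ∈ seen L, k (pt i) = pt i := by
      intro k hk i hi
      refine (smul_mset_bit k (hlt i hi)).1 ?_
      rw [idx_pt (hlt i hi)]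
      exact hk.2 _ (List.mem_map_of_mem hi)
    set P : Equiv.Perm GolayPt → Prop := fun σ => ImgP L σ with hP
    -- the orbit part
    have key : ∀ y ∈ O, (ordSet [] (fun σ => P σ ∧ σ (pt c) = y) n).ncard = cntT a n := by
      intro y hy
      obtain ⟨g, hg, hgy⟩ := testBit_orbMask.1 (mem_mset.1 hy)
      have hk := inFix_mem (hT g hg)
      rw [M22Nse.ncard_fibre (X := []) (P := P) (x := pt c)
        (K := fixMasks ((seen L).map (Nat.shiftLeft 1)))
        (fun k hk => by rw [fixMasks_nil]; exact hk.1)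
        (fun k hk => hfix k hk c List.mem_cons_self) (fun k hk σ hσ q hq => ?_)
        (y := pt r) ⟨permOf g, hk, by rw [permOf_pt (inFix_valid (hT g hg)) hr', hgy, pt_idx]⟩,
        ← ncard_tree a _ 0 ha (fun q hq => hl q (List.mem_append_left _ hq)) n]
      · congr 1
        ext σ
        have e2 : P σ ∧ σ (pt c) = pt r ↔ ImgP (L ++ [(c, r)]) σ :=
          ⟨fun h q hq => by
            rcases List.mem_append.1 hq with h' | h'
            · exact h.1 q h'
            · rw [List.mem_singleton.1 h']; exact h.2,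
          fun h => ⟨fun q hq => h q (List.mem_append_left _ hq),
            h (c, r) (List.mem_append_right _ List.mem_cons_self)⟩⟩
        simp only [ordSet, Set.mem_setOf_eq]
        rw [e2]
        simp
      · have i1 : k⁻¹ (pt q.1) = pt q.1 := by
          rw [Equiv.Perm.inv_eq_iff_eq]
          exact (hfix k hk _ (List.mem_cons_of_mem _ (List.mem_append_left _ (List.mem_map_of_mem hq)))).symm
        rw [Equiv.Perm.mul_apply, Equiv.Perm.mul_apply, i1, hσ q hq]
        exact hfix k hk _ (List.mem_cons_of_mem _ (List.mem_append_right _ (List.mem_map_of_mem hq)))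
    have hdisj : ∀ {q : GolayPt}, q ∈ O → q ∉ mset cov := by
      intro q hq hq'
      have := congrArg (fun m => m.testBit (idx q)) (Nat.eq_of_beq_eq_true h2)
      simp only [Nat.zero_testBit] at this
      rw [show Nat.land cov (orbMask r T) = cov &&& orbMask r T from rfl, Nat.testBit_land,
        mem_mset.1 hq, mem_mset.1 hq'] at this
      simp at this
    have hcov' : ∀ q : GolayPt, q ∈ mset (Nat.lor cov (orbMask r T)) ↔ q ∈ mset cov ∨ q ∈ O := by
      intro q
      rw [show Nat.lor cov (orbMask r T) = cov ||| orbMask r T from rfl, mset_or, Finset.mem_union]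
    have e0 : ordSet [] (fun σ => ImgP L σ ∧ (cov ≠ 0 → σ (pt c) ∉ mset cov)) n =
        ordSet [] (fun σ => P σ ∧ σ (pt c) ∈ O) n ∪
        ordSet [] (fun σ => ImgP L σ ∧ (Nat.lor cov (orbMask r T) ≠ 0 →
          σ (pt c) ∉ mset (Nat.lor cov (orbMask r T)))) n := by
      ext σ
      simp only [ordSet, Set.mem_union, Set.mem_setOf_eq, hP]
      constructor
      · rintro ⟨h1, ⟨h2, h3⟩, h4⟩
        by_cases hm : σ (pt c) ∈ O
        · exact Or.inl ⟨h1, ⟨h2, hm⟩, h4⟩
        · refine Or.inr ⟨h1, ⟨h2, fun _ hm' => ?_⟩, h4⟩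
          rcases (hcov' _).1 hm' with h5 | h5
          · refine h3 (fun e => ?_) h5
            rw [e, mem_mset] at h5
            simp at h5
          · exact hm h5
      · rintro (⟨h1, ⟨h2, h3⟩, h4⟩ | ⟨h1, ⟨h2, h3⟩, h4⟩)
        · exact ⟨h1, ⟨h2, fun _ => hdisj h3⟩, h4⟩
        · refine ⟨h1, ⟨h2, fun _ hm => h3 (fun e => ?_) ((hcov' _).2 (Or.inl hm))⟩, h4⟩
          have := (hcov' _).2 (Or.inl hm)
          rw [e, mem_mset] at this
          simp at this
    have d0 : Disjoint (ordSet [] (fun σ => P σ ∧ σ (pt c) ∈ O) n)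
        (ordSet [] (fun σ => ImgP L σ ∧ (Nat.lor cov (orbMask r T) ≠ 0 →
          σ (pt c) ∉ mset (Nat.lor cov (orbMask r T)))) n) := by
      rw [Set.disjoint_left]
      rintro σ ⟨-, ⟨-, h1⟩, -⟩ ⟨-, ⟨-, h2⟩, -⟩
      refine h2 (fun e => ?_) ((hcov' _).2 (Or.inr h1))
      have := (hcov' _).2 (Or.inr h1)
      rw [e, mem_mset] at this
      simp at this
    rw [e0, Set.ncard_union_eq d0 (Set.toFinite _) (Set.toFinite _),
      M22Nse.ncard_fibres O _ n key, card_mset, hcdef, ncard_tree b L _ hb (fun q hq => hl q (List.mem_append_right _ hq)) n, cntT]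

theorem cntT_zero : ∀ (t : CTree) (L : List (ℕ × ℕ)) (cov : ℕ), chkT t L cov = true → ∀ {n : ℕ},
    n ∉ ords24 → cntT t n = 0
  | .leaf e os, L, cov, h, n, hn => by
    simp only [chkT, Bool.and_eq_true] at h
    rw [cntT, List.countP_eq_zero]
    intro o ho ho'
    exact hn (Nat.eq_of_beq_eq_true ho' ▸ chkT_pos h.2 o ho)
  | .stop, _, _, _, _, _ => rfl
  | .split r T a b, L, cov, h, n, hn => by
    simp only [chkT, Bool.and_eq_true] at h
    rw [cntT, cntT_zero a _ _ h.1.2 hn, cntT_zero b _ _ h.2 hn, mul_zero, add_zero]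

end CfsgLib.ClassK.M24Nse
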