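import Cfsg.Agent.Lib.ClassK.M24Nse.Cent
import Cfsg.Agent.Lib.ClassK.M23Nse.Simple

/-!
A group with the order and the element counts of `M₂₄` is simple.
-/

set_option autoImplicit false
set_option linter.unusedSectionVars false

namespace CfsgLib.ClassK.M24Nse

open Subgroup CfsgLib.StructB.OrderCount

universe u

theorem small_check : ((List.range 11).all fun i => (List.range 946).all fun b =>
    !(decide (0 < b) && decide (945 % b = 0) && decide ((2 ^ i * b) % 23 = 1) &&
      decide ((2 ^ i * b) % 11 = 1)) || decide (2 ^ i * b = 1)) = true := by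
  decide +kernel

variable {G : Type u} [Group G] [Finite G]

theorem card_mod_eq_one {N : Subgroup G} [N.Normal] {p : ℕ} [hp : Fact p.Prime] {x : G}
    (hx : orderOf x = p) (hC : Nat.card (centralizer ({x} : Set G)) = p)
    (hN : ¬ p ∣ Nat.card N) : Nat.card N % p = 1 := by
  rw [M23Nse.card_modEq_fixed (p := p) hx (by rw [normalizer_eq_top]; exact mem_top x)]
  have h1 : Nat.card (N ⊓ centralizer ({x} : Set G) : Subgroup G) ∣ p :=
    hC ▸ card_dvd_of_le inf_le_right
  have h2 : Nat.card (N ⊓ centralizer ({x} : Set G) : Subgroup G) ∣ Nat.card N :=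
    card_dvd_of_le inf_le_left
  rcases (Nat.dvd_prime hp.out).1 h1 with e | e
  · rw [e]; exact Nat.mod_eq_of_lt hp.out.one_lt
  · exact absurd (e ▸ h2) hN

theorem simple (h : Hyp G) : IsSimpleGroup G := by
  classical
  have : Nontrivial G := Finite.one_lt_card_iff_nontrivial.1 (by rw [h.card]; norm_num)
  have f11 : Fact (Nat.Prime 11) := ⟨by norm_num⟩
  have f23 : Fact (Nat.Prime 23) := ⟨by norm_num⟩
  obtain ⟨x23, h23⟩ := exists_prime_orderOf_dvd_card' (G := G) 23 (by rw [h.card]; norm_num)
  obtain ⟨x11, h11⟩ := exists_prime_orderOf_dvd_card' (G := G) 11 (by rw [h.card]; norm_num)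
  refine ⟨fun N hN => ?_⟩
  have hd : Nat.card N ∣ 244823040 := h.card ▸ N.card_subgroup_dvd_card
  have one : ∀ (p : ℕ) [Fact p.Prime], ¬ p ^ 2 ∣ 244823040 → p ∣ 244823040 → p ∣ Nat.card N →
      ∀ g : G, orderOf g = p → g ∈ N := by
    intro p _ hp2 hpd hpN g hg
    obtain ⟨⟨y, hy⟩, hyo⟩ := exists_prime_orderOf_dvd_card' (G := N) p hpN
    rw [Subgroup.orderOf_mk] at hyo
    exact M23Nse.mem_of_one (h.card ▸ hpd) (h.card ▸ hp2) hy hyo hg
  by_cases hN23 : 23 ∣ Nat.card N
  · right
    have a23 := one 23 (by norm_num) (by norm_num) hN23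
    have hcnt : cnt N 23 = cnt G 23 := Nat.card_congr
      { toFun := fun g => ⟨g.1.1, by rw [Subgroup.orderOf_coe]; exact g.2⟩
        invFun := fun g => ⟨⟨g.1, a23 _ g.2⟩, by rw [Subgroup.orderOf_mk]; exact g.2⟩
        left_inv := fun g => rfl
        right_inv := fun g => rfl }
    obtain ⟨P⟩ : Nonempty (Sylow 23 N) := inferInstance
    have hP := CfsgLib.Transfer.card_sylow_eq_prime P hN23 fun h2 => by
      have := h2.trans hd
      norm_num at this
    rw [h.cnt_twentythree, cnt, CfsgLib.Transfer.card_orderOf_eq_prime P hP] at hcnt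
    have hn : Nat.card (Sylow 23 N) = 967680 := by omega
    have h1 := P.card_dvd_index
    have h2 := (P : Subgroup N).index_mul_card
    rw [hP] at h2
    rw [hn] at h1
    obtain ⟨k, hk⟩ := h1
    rw [hk] at h2
    have h3 := N.card_mul_index
    rw [h.card, ← h2] at h3
    have hk11 : k * N.index = 11 := by
      have : 22256640 * (k * N.index) = 22256640 * 11 := by
        calc 22256640 * (k * N.index) = 967680 * k * 23 * N.index := by ring
          _ = _ := by rw [h3]
      exact Nat.eq_of_mul_eq_mul_left (by norm_num) this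
    rcases (Nat.dvd_prime f11.out).1 ⟨k, by rw [mul_comm]; exact hk11.symm⟩ with e | e
    · exact index_eq_one.1 e
    exfalso
    have hk1 : k = 1 := by rw [e] at hk11; omega
    have hle := M23Nse.sum_cnt_le (N := N) {1, 2, 3, 4, 5, 6, 7, 8, 10, 12, 14, 15, 21, 23} (by
      intro n hn g hg
      refine M23Nse.mem_of_coprime_index (K := ⊤) (by rw [normalizer_eq_top]) (mem_top g) ?_
      rw [relIndex_top_right, e, hg, Nat.coprime_comm, f11.out.coprime_iff_not_dvd]
      exact (show ∀ m ∈ ({1, 2, 3, 4, 5, 6, 7, 8, 10, 12, 14, 15, 21, 23} : Finset ℕ), ¬ 11 ∣ m by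
        decide) n hn)
    rw [Finset.sum_congr rfl fun n _ => h.cnt_eq n,
      show (∑ n ∈ ({1, 2, 3, 4, 5, 6, 7, 8, 10, 12, 14, 15, 21, 23} : Finset ℕ), tblCnt n) = 222566400 by
        decide +kernel, ← h2, hk1] at hle
    norm_num at hle
  · left
    have hN11 : ¬ 11 ∣ Nat.card N := fun h' => by
      obtain ⟨g, hg, hgo⟩ := M23Nse.step (N := N) (q := 11) h23
        (by rw [norm_twentythree h h23]; norm_num) (by rw [cent_twentythree h h23]; norm_num)
        (one 11 (by norm_num) (by norm_num) h')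
      exact hN23 (hgo ▸ Subgroup.orderOf_dvd_natCard _ hg)
    have m23 := card_mod_eq_one h23 (cent_twentythree h h23) hN23
    have m11 := card_mod_eq_one h11 (cent_eleven h h11) hN11
    have hd' : Nat.card N ∣ 2 ^ 10 * 945 := by
      have hco : (Nat.card N).Coprime (11 * 23) :=
        ((f11.out.coprime_iff_not_dvd.2 hN11).symm).mul_right ((f23.out.coprime_iff_not_dvd.2 hN23).symm)
      exact hco.dvd_of_dvd_mul_right (show _ ∣ 2 ^ 10 * 945 * (11 * 23) by norm_num; exact hd)
    rw [Nat.dvd_mul] at hd'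
    obtain ⟨a, b, ha, hb, hab⟩ := hd'
    obtain ⟨i, hi, rfl⟩ := (Nat.dvd_prime_pow Nat.prime_two).1 ha
    have hb0 : 0 < b := Nat.pos_of_dvd_of_pos hb (by norm_num)
    have hbl := Nat.le_of_dvd (by norm_num) hb
    have hchk := List.all_eq_true.1 (List.all_eq_true.1 small_check i (List.mem_range.2 (by omega))) b
      (List.mem_range.2 (by omega))
    rw [← hab] at m23 m11
    simp only [decide_eq_true hb0, decide_eq_true (Nat.mod_eq_zero_of_dvd hb), decide_eq_true m23,
      decide_eq_true m11, Bool.and_self, Bool.not_true, Bool.false_or, decide_eq_true_eq] at hchk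
    exact card_eq_one.1 (by rw [← hab, hchk])

end CfsgLib.ClassK.M24Nse
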