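import Cfsg.Agent.Lib.ClassK.M24Nse.Counts

/-!
The orders that occur are those of `M₂₄`, with the same numbers of elements.
-/

set_option autoImplicit false
set_option linter.unusedSectionVars false

namespace CfsgLib.ClassK.M24Nse

open Subgroup CfsgLib.StructB.OrderCount

universe u

/-- The orders with known numbers. -/
def knownTable : List (ℕ × ℕ) :=
  [(1, 1), (2, 43263), (3, 712448), (5, 4080384), (7, 11658240), (10, 12241152), (11, 22256640),
    (14, 34974720), (15, 32643072), (21, 23316480), (23, 21288960)]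

/-- The further orders, each with the further divisors it needs. -/
def further : List (ℕ × List ℕ) :=
  [(4, []), (6, []), (8, [4]), (9, []), (12, [4, 6]), (16, [4, 8]), (18, [6, 9]), (20, [4]),
    (27, [9]), (30, [6]), (32, [4, 8, 16]), (40, [4, 8, 20]), (42, [6]), (63, [9])]

/-- Orders with five further divisors. -/
def tooMany : List (ℕ × List ℕ) :=
  [(24, [4, 6, 8, 12, 24]), (36, [4, 6, 9, 12, 18]), (54, [6, 9, 18, 27, 54]),
    (60, [4, 6, 12, 20, 30]), (64, [4, 8, 16, 32, 64]), (80, [4, 8, 16, 20, 40]),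
    (126, [6, 9, 18, 42, 63])]

/-- A possible order is known, further, or above one of the excluded ones. -/
def possibleOK (n : ℕ) : Bool :=
  (knownTable.map Prod.fst).contains n || (further.map Prod.fst).contains n ||
    tooMany.any fun b => decide (n % b.1 = 0)

theorem possible_two_three : ((List.range 11).all fun i => (List.range 4).all fun j =>
    possibleOK (2 ^ i * 3 ^ j)) = true := by decide +kernel

theorem possible_five_seven : ((List.range 241).all fun n =>
    !((decide (240 % n = 0) || decide (126 % n = 0)) && decide (0 < n)) || possibleOK n) = true := by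
  decide +kernel

theorem tooMany_nodup : ∀ b ∈ tooMany, b.2.length = 5 ∧ b.2.Nodup ∧
    (∀ d ∈ b.2, b.1 % d = 0) ∧ ∀ d ∈ b.2, d ∉ knownTable.map Prod.fst := by decide +kernel

/-- The congruences for an assignment of the four remaining values. -/
def congruent (a b c d : ℕ) : Bool :=
  [27, 1024, 54, 108, 384, 216].all fun n =>
    decide (((((a, 5100480) :: (b, 20401920) :: (c, 15301440) :: (d, 40803840) :: knownTable).filter
      fun e => decide (n % e.1 = 0)).map Prod.snd).sum % n = 0)

theorem assign_check : (further.all fun a => further.all fun b => further.all fun c => further.all fun d =>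
    !((a.2 ++ b.2 ++ c.2 ++ d.2).all (fun e => [a.1, b.1, c.1, d.1].contains e)) ||
      decide (¬ [a.1, b.1, c.1, d.1].Nodup) ||
      !congruent a.1 b.1 c.1 d.1 ||
      decide ((a.1, b.1, c.1, d.1) = (4, 6, 8, 12))) = true := by decide +kernel

theorem further_dvd : ∀ a ∈ further, ∀ d ∈ a.2, a.1 % d = 0 ∧ d ∉ knownTable.map Prod.fst := by
  decide +kernel

theorem vals_split : (∀ v ∈ vals, v ∈ [5100480, 20401920, 15301440, 40803840] ++ knownTable.map Prod.snd) ∧
    ([5100480, 20401920, 15301440, 40803840] ++ knownTable.map Prod.snd).Nodup ∧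
    (∀ m ∈ [4, 6, 8, 12] ++ knownTable.map Prod.fst, m ∈ table.map Prod.fst) ∧
    (∀ e ∈ table, tblCnt e.1 = e.2) ∧
    ∀ e ∈ table, e ∈ (4, 5100480) :: (6, 20401920) :: (8, 15301440) :: (12, 40803840) :: knownTable := by
  decide +kernel

variable {G : Type u} [Group G] [Finite G]

theorem Hyp.known_eq (h : Hyp G) : ∀ e ∈ knownTable, cnt G e.1 = e.2 := by
  simp only [knownTable, List.forall_mem_cons, List.not_mem_nil, false_implies, implies_true, and_true,
    cnt_one, h.cnt_two, h.cnt_three, h.cnt_five, h.cnt_seven, h.cnt_ten, h.cnt_eleven, h.cnt_fourteen,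
    h.cnt_fifteen, h.cnt_twentyone, h.cnt_twentythree, and_self]

theorem possible_of_cnt (h : Hyp G) {n : ℕ} (hn : cnt G n ≠ 0) : possibleOK n = true := by
  have h57 : ∀ m, 0 < m → m ∣ 240 ∨ m ∣ 126 → possibleOK m = true := by
    intro m hm hd
    have hlt : m < 241 := by
      rcases hd with e | e <;> have := Nat.le_of_dvd (by norm_num) e <;> omega
    have h' := List.all_eq_true.1 possible_five_seven m (List.mem_range.2 hlt)
    simp only [Bool.or_eq_true, Bool.not_eq_true', Bool.and_eq_false_iff, decide_eq_false_iff_not,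
      Bool.or_eq_false_iff] at h'
    rcases h' with (⟨h1, h2⟩ | h') | h'
    · rcases hd with e | e
      exacts [absurd (Nat.mod_eq_zero_of_dvd e) h1, absurd (Nat.mod_eq_zero_of_dvd e) h2]
    · exact absurd hm h'
    · exact h'
  have hpos : 0 < n := by
    rcases Nat.eq_zero_or_pos n with rfl | e
    · exfalso
      obtain ⟨⟨g, hg⟩⟩ := (Nat.card_ne_zero.1 hn).1
      exact (orderOf_pos g).ne' hg
    · exact e
  rcases order_dvd h hn with hd | rfl | rfl | ⟨-, hd⟩ | ⟨-, hd⟩
  · rw [show (27648 : ℕ) = 2 ^ 10 * 3 ^ 3 by norm_num, Nat.dvd_mul] at hd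
    obtain ⟨a, b, ha, hb, rfl⟩ := hd
    obtain ⟨i, hi, rfl⟩ := (Nat.dvd_prime_pow Nat.prime_two).1 ha
    obtain ⟨j, hj, rfl⟩ := (Nat.dvd_prime_pow Nat.prime_three).1 hb
    exact List.all_eq_true.1 (List.all_eq_true.1 possible_two_three i (List.mem_range.2 (by omega)))
      j (List.mem_range.2 (by omega))
  · decide
  · decide
  · exact h57 n hpos (Or.inl hd)
  · exact h57 n hpos (Or.inr hd)

theorem sum_divisors_eq_list {n : ℕ} (hn : n ≠ 0) {L : List (ℕ × ℕ)} (hnd : (L.map Prod.fst).Nodup)
    (hval : ∀ e ∈ L, cnt G e.1 = e.2) (hsupp : ∀ m, cnt G m ≠ 0 → m ∈ L.map Prod.fst) :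
    ∑ m ∈ n.divisors, cnt G m = ((L.filter fun e => decide (n % e.1 = 0)).map Prod.snd).sum := by
  classical
  have h1 : ∑ m ∈ n.divisors, cnt G m =
      ∑ m ∈ ((L.filter fun e => decide (n % e.1 = 0)).map Prod.fst).toFinset, cnt G m := by
    refine Finset.sum_congr_of_eq_on_inter ?_ ?_ fun _ _ _ => rfl
    · intro m hm hm'
      by_contra h0
      obtain ⟨e, he, rfl⟩ := List.mem_map.1 (hsupp m h0)
      exact hm' (List.mem_toFinset.2 (List.mem_map.2 ⟨e, List.mem_filter.2 ⟨he,
        decide_eq_true (Nat.mod_eq_zero_of_dvd (Nat.dvd_of_mem_divisors hm))⟩, rfl⟩))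
    · intro m hm hm'
      obtain ⟨e, he, rfl⟩ := List.mem_map.1 (List.mem_toFinset.1 hm)
      exact absurd (Nat.mem_divisors.2
        ⟨Nat.dvd_of_mod_eq_zero (of_decide_eq_true (List.mem_filter.1 he).2), hn⟩) hm'
  rw [h1, List.sum_toFinset _ (hnd.sublist ((List.filter_sublist).map _)), List.map_map]
  exact congrArg List.sum (List.map_congr_left fun e he => hval e (List.mem_filter.1 he).1)

/-- The numbers of elements of each order. -/
theorem Hyp.cnt_eq (h : Hyp G) (n : ℕ) : cnt G n = tblCnt n := by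
  classical
  obtain ⟨a, ha⟩ := h.ach 5100480 (by decide)
  obtain ⟨b, hb⟩ := h.ach 20401920 (by decide)
  obtain ⟨c, hc⟩ := h.ach 15301440 (by decide)
  obtain ⟨d, hd⟩ := h.ach 40803840 (by decide)
  set L : List (ℕ × ℕ) :=
    (a, 5100480) :: (b, 20401920) :: (c, 15301440) :: (d, 40803840) :: knownTable with hL
  have hval : ∀ e ∈ L, cnt G e.1 = e.2 := by
    simp only [hL, List.forall_mem_cons, ha, hb, hc, hd, true_and]
    exact h.known_eq
  have hsnd : (L.map Prod.snd).Nodup := vals_split.2.1
  have hnd : (L.map Prod.fst).Nodup := by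
    refine List.Nodup.of_map (cnt G) ?_
    rwa [List.map_map, show L.map (cnt G ∘ Prod.fst) = L.map Prod.snd from
      List.map_congr_left fun e he => hval e he]
  have hsupp : ∀ m, cnt G m ≠ 0 → m ∈ L.map Prod.fst := by
    intro m hm
    have hv : cnt G m ∈ L.map Prod.snd := vals_split.1 _ (h.val m hm)
    obtain ⟨e, he, hee⟩ := List.mem_map.1 hv
    exact List.mem_map.2 ⟨e, he, (h.inj hm (hee.symm.trans (hval e he).symm)).symm⟩
  have hnew : ∀ x ∈ [a, b, c, d], x ∉ knownTable.map Prod.fst := by
    intro x hx hk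
    have hsplit : L.map Prod.fst = [a, b, c, d] ++ knownTable.map Prod.fst := rfl
    rw [hsplit] at hnd
    exact (List.nodup_append.1 hnd).2.2 x hx x hk rfl
  have hne : ∀ x ∈ [a, b, c, d], cnt G x ≠ 0 := by
    simp [ha, hb, hc, hd]
  have hclosed : ∀ x ∈ [a, b, c, d], ∀ e, x % e = 0 → e ∉ knownTable.map Prod.fst → e ∈ [a, b, c, d] := by
    intro x hx e he hek
    have h0 : cnt G e ≠ 0 := fun h0 => hne x hx (cnt_zero_of_dvd (Nat.dvd_of_mod_eq_zero he) h0)
    have hm := hsupp e h0
    rw [show L.map Prod.fst = [a, b, c, d] ++ knownTable.map Prod.fst from rfl, List.mem_append] at hm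
    exact hm.resolve_right hek
  have hfur : ∀ x ∈ [a, b, c, d], ∃ f ∈ further, f.1 = x := by
    intro x hx
    have hp := possible_of_cnt h (hne x hx)
    simp only [possibleOK, Bool.or_eq_true, List.contains_iff_mem, List.any_eq_true,
      decide_eq_true_eq] at hp
    rcases hp with (hp | hp) | ⟨t, ht, hp⟩
    · exact absurd hp (hnew x hx)
    · exact List.mem_map.1 hp
    · exfalso
      obtain ⟨h5, hn', hdv, hkn⟩ := tooMany_nodup t ht
      have hsub : t.2 ⊆ [a, b, c, d] := fun e he => hclosed x hx e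
        (Nat.mod_eq_zero_of_dvd ((Nat.dvd_of_mod_eq_zero (hdv e he)).trans (Nat.dvd_of_mod_eq_zero hp)))
        (hkn e he)
      have := (hn'.subperm hsub).length_le
      rw [h5] at this
      simp at this
  obtain ⟨A, hA, rfl⟩ := hfur a (by simp)
  obtain ⟨B, hB, rfl⟩ := hfur b (by simp)
  obtain ⟨C, hC, rfl⟩ := hfur c (by simp)
  obtain ⟨D, hD, rfl⟩ := hfur d (by simp)
  have hchk := List.all_eq_true.1 (List.all_eq_true.1 (List.all_eq_true.1
    (List.all_eq_true.1 assign_check A hA) B hB) C hC) D hD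
  have h1 : (A.2 ++ B.2 ++ C.2 ++ D.2).all (fun e => [A.1, B.1, C.1, D.1].contains e) = true := by
    rw [List.all_eq_true]
    intro e he
    rw [List.contains_iff_mem]
    simp only [List.mem_append] at he
    rcases he with ((he | he) | he) | he
    exacts [hclosed A.1 (by simp) e (further_dvd A hA e he).1 (further_dvd A hA e he).2,
      hclosed B.1 (by simp) e (further_dvd B hB e he).1 (further_dvd B hB e he).2,
      hclosed C.1 (by simp) e (further_dvd C hC e he).1 (further_dvd C hC e he).2,
      hclosed D.1 (by simp) e (further_dvd D hD e he).1 (further_dvd D hD e he).2]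
  have h2 : [A.1, B.1, C.1, D.1].Nodup :=
    (List.nodup_append.1 (show ([A.1, B.1, C.1, D.1] ++ knownTable.map Prod.fst).Nodup from hnd)).1
  have h3 : congruent A.1 B.1 C.1 D.1 = true := by
    rw [congruent, List.all_eq_true]
    intro k hk
    rw [decide_eq_true_eq]
    have hkd : k ∣ Nat.card G ∧ k ≠ 0 := by
      rw [h.card]
      simp only [List.mem_cons, List.not_mem_nil, or_false] at hk
      rcases hk with rfl | rfl | rfl | rfl | rfl | rfl <;> norm_num
    rw [← sum_divisors_eq_list hkd.2 hnd hval hsupp]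
    exact Nat.mod_eq_zero_of_dvd (dvd_sum_cnt hkd.1)
  rw [h1, h3] at hchk
  simp only [Bool.not_true, Bool.false_or, Bool.or_false, Bool.or_eq_true, decide_eq_true_eq,
    Prod.mk.injEq] at hchk
  obtain ⟨e1, e2, e3, e4⟩ := hchk.resolve_left (fun hnn => hnn h2)
  by_cases hn : n ∈ table.map Prod.fst
  · obtain ⟨e, he, rfl⟩ := List.mem_map.1 hn
    have he' := vals_split.2.2.2.2 e he
    rw [vals_split.2.2.2.1 e he]
    exact hval e (by rw [hL, e1, e2, e3, e4]; exact he')
  · have h0 : cnt G n = 0 := by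
      by_contra h0
      refine hn (vals_split.2.2.1 n ?_)
      have h' := hsupp n h0
      rw [hL, e1, e2, e3, e4] at h'
      exact h'
    have hnone : table.lookup n = none := by
      rw [List.lookup_eq_none_iff]
      intro e he
      simpa using fun e' : n = e.1 => hn (List.mem_map.2 ⟨e, he, e'.symm⟩)
    rw [h0, tblCnt, hnone]
    rfl

/-- Orders outside the table do not occur. -/
theorem Hyp.orderOf_mem (h : Hyp G) (g : G) : orderOf g ∈ table.map Prod.fst := by
  by_contra hn
  have h0 : cnt G (orderOf g) ≠ 0 := Nat.card_ne_zero.2 ⟨⟨⟨g, rfl⟩⟩, inferInstance⟩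
  rw [h.cnt_eq, tblCnt] at h0
  refine h0 ?_
  rw [List.lookup_eq_none_iff.2 fun e he => by
    simpa using fun e' : orderOf g = e.1 => hn (List.mem_map.2 ⟨e, he, e'.symm⟩)]
  rfl

end CfsgLib.ClassK.M24Nse
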